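import Groth.Agent.FinGrpdLib.SubGrpd
import Groth.Agent.RedTensor.Basic
import Groth.Agent.DVRCrit.Local
/-!
Reduced image groupoids over a perfect field; the pair groupoid.
-/

set_option autoImplicit false
set_option backward.isDefEq.respectTransparency false
universe u

open CategoryTheory CategoryTheory.Limits AlgebraicGeometry TensorProduct

namespace Groth.Agent.FinGrpdLib

/-- A product of reduced schemes over the spectrum of a perfect field is reduced. -/
theorem isReduced_pullback {X Y U : Scheme.{u}} {k : Type u} [Field k] [PerfectField k]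
    (eU : U ≅ Spec (CommRingCat.of k)) (f : X ⟶ U) (g : Y ⟶ U) [IsReduced X] [IsReduced Y] :
    IsReduced (pullback f g) := by
  let 𝒰 := Scheme.Pullback.openCoverOfLeftRight X.affineCover Y.affineCover (f ≫ eU.hom) (g ≫ eU.hom)
  suffices IsReduced (pullback (f ≫ eU.hom) (g ≫ eU.hom)) from
    isReduced_of_isOpenImmersion (pullback.map f g (f ≫ eU.hom) (g ≫ eU.hom) (𝟙 _) (𝟙 _) eU.hom (by simp) (by simp))
  have key : ∀ (A B : CommRingCat.{u}) (a : Spec A ⟶ Spec (CommRingCat.of k)) (b : Spec B ⟶ Spec (CommRingCat.of k)),
      IsReduced (Spec A) → IsReduced (Spec B) → IsReduced (pullback a b) := by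
    intro A B a b hA hB
    obtain ⟨φ, rfl⟩ := Spec.map_surjective a
    obtain ⟨ψ, rfl⟩ := Spec.map_surjective b
    letI : Algebra k A := φ.hom.toAlgebra
    letI : Algebra k B := ψ.hom.toAlgebra
    haveI : _root_.IsReduced (A : Type u) := (affine_isReduced_iff A).mp hA
    haveI : _root_.IsReduced (B : Type u) := (affine_isReduced_iff B).mp hB
    haveI : IsReduced (Spec (CommRingCat.of ((A : Type u) ⊗[k] (B : Type u)))) :=
      (affine_isReduced_iff _).mpr (RedTensor.isReduced_tensor k A B)
    exact isReduced_of_isOpenImmersion (pullbackSpecIso k A B).hom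
  haveI : ∀ i, IsReduced (𝒰.X i) := fun i => by
    refine key _ _ _ _ ?_ ?_
    · exact isReduced_of_isOpenImmersion (X.affineCover.f i.1)
    · exact isReduced_of_isOpenImmersion (Y.affineCover.f i.2)
  exact IsReduced.of_openCover _ 𝒰

/-- A morphism from a reduced scheme into a closed set factors through the reduced subscheme. -/
theorem exists_lift_reduced {W Y : Scheme.{u}} [IsReduced W] (q : W ⟶ Y) (C : TopologicalSpace.Closeds Y)
    (h : Set.range ⇑q ⊆ C) :
    ∃ z : W ⟶ (Scheme.IdealSheafData.vanishingIdeal C).subscheme,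
      z ≫ (Scheme.IdealSheafData.vanishingIdeal C).subschemeι = q := by
  have e : (Scheme.IdealSheafData.vanishingIdeal C).subschemeι.ker ≤ q.ker := by
    rw [Scheme.IdealSheafData.ker_subschemeι, ← Scheme.IdealSheafData.map_bot, ← Scheme.nilradical_eq_bot,
      ← Scheme.IdealSheafData.vanishingIdeal_top, Scheme.IdealSheafData.map_vanishingIdeal]
    refine Scheme.IdealSheafData.vanishingIdeal_antimono ?_
    exact closure_minimal (by simpa using h) C.isClosed
  exact ⟨IsClosedImmersion.lift _ q e, IsClosedImmersion.lift_fac _ _ _⟩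

/-- The pair groupoid of a scheme over the base, with a morphism from any groupoid on it. -/
theorem exists_pair {S : Scheme.{u}} (G : Grpd.GroupoidScheme S) :
    ∃ (P : Grpd.GroupoidScheme S) (ψ : Grpd.GroupoidScheme.Hom G P) (eU : P.U ≅ G.U) (eR : P.R ≅ pullback G.pU G.pU)
      (w : eU.hom ≫ G.pU = P.pU), IsIso ψ.fU ∧ ψ.fR ≫ eR.hom = G.j ∧ ψ.fU ≫ eU.hom = 𝟙 _ ∧
      eR.hom ≫ pullback.fst G.pU G.pU = P.t ≫ eU.hom ∧ eR.hom ≫ pullback.snd G.pU G.pU = P.s ≫ eU.hom := by
  let a := pullback.fst G.pU G.pU
  let b := pullback.snd G.pU G.pU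
  let P : Grpd.GroupoidScheme S :=
    { U := G.U
      R := pullback G.pU G.pU
      pU := G.pU
      pR := b ≫ G.pU
      s := b
      t := a
      e := pullback.lift (𝟙 _) (𝟙 _) rfl
      i := (pullbackSymmetry G.pU G.pU).hom
      c := pullback.lift (pullback.fst b a ≫ a) (pullback.snd b a ≫ b) (by
        simp only [Category.assoc, a, b, pullback.condition]
        rw [pullback.condition_assoc]
        simp only [pullback.condition])
      s_over := rfl
      t_over := pullback.condition
      comp_s := fun α β h => by simp [b]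
      comp_t := fun α β h => by simp [a]
      assoc := fun α β γ h₁ h₂ => by apply pullback.hom_ext <;> simp [a, b]
      e_s := pullback.lift_snd _ _ _
      e_t := pullback.lift_fst _ _ _
      comp_e := fun α => by apply pullback.hom_ext <;> simp [a, b]
      e_comp := fun α => by apply pullback.hom_ext <;> simp [a, b]
      i_s := pullbackSymmetry_hom_comp_snd _ _
      i_t := pullbackSymmetry_hom_comp_fst _ _
      comp_i := fun α => by apply pullback.hom_ext <;> simp [a, b]
      i_comp := fun α => by apply pullback.hom_ext <;> simp [a, b] }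
  let ψ : Grpd.GroupoidScheme.Hom G P :=
    { fU := 𝟙 G.U
      fR := G.j
      fU_over := Category.id_comp _
      comm_s := (pullback.lift_snd _ _ _).trans (Category.comp_id _).symm
      comm_t := (pullback.lift_fst _ _ _).trans (Category.comp_id _).symm
      comm_c := fun α β h => by
        have hs := G.comp_s α β h
        have ht := G.comp_t α β h
        rw [Category.assoc] at hs ht
        apply pullback.hom_ext <;> simp [P, a, b, Grpd.GroupoidScheme.j, hs, ht] }
  exact ⟨P, ψ, Iso.refl _, Iso.refl _, Category.id_comp _, inferInstanceAs (IsIso (𝟙 G.U)), Category.comp_id _,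
    Category.comp_id _, (Category.id_comp _).trans (Category.comp_id _).symm,
    (Category.id_comp _).trans (Category.comp_id _).symm⟩

end Groth.Agent.FinGrpdLib
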