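import Groth.Agent.FinGrpdLib.Field
/-!
Subgroupoids and scheme-theoretic images of morphisms of groupoids.
-/

set_option autoImplicit false
set_option backward.isDefEq.respectTransparency false
universe u

open CategoryTheory CategoryTheory.Limits AlgebraicGeometry

namespace Groth.Agent.FinGrpdLib

/-- The map to the scheme-theoretic image is scheme-theoretically dominant. -/
theorem toImage_dominant {X Y : Scheme.{u}} (f : X ⟶ Y) [QuasiCompact f] :
    IsSchemeTheoreticallyDominant f.toImage := by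
  refine ⟨Scheme.IdealSheafData.ext_of_iSup_eq_top
    (fun U : Y.affineOpens => (⟨f.imageι ⁻¹ᵁ U.1, U.2.preimage f.imageι⟩ : f.image.affineOpens))
    (top_le_iff.1 fun x _ => ?_) fun U => ?_⟩
  · obtain ⟨_, ⟨U, hU, rfl⟩, hx, -⟩ :=
      Y.isBasis_affineOpens.exists_subset_of_mem_open (Set.mem_univ (f.imageι x)) isOpen_univ
    exact TopologicalSpace.Opens.mem_iSup.2 ⟨⟨U, hU⟩, hx⟩
  · rw [Scheme.Hom.ker_apply, Scheme.IdealSheafData.ideal_bot, Pi.bot_apply]
    exact (RingHom.injective_iff_ker_eq_bot _).1 (f.toImage_app_injective (U := U))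

/-- Factoring through the scheme-theoretic image after a dominant morphism. -/
theorem exists_lift_image {X Y D W : Scheme.{u}} (f : X ⟶ Y) [QuasiCompact f] (μ : D ⟶ W)
    [IsSchemeTheoreticallyDominant μ] (q : W ⟶ Y) (m : D ⟶ X) (h : μ ≫ q = m ≫ f) :
    ∃ z : W ⟶ f.image, z ≫ f.imageι = q := by
  have hker : f.imageι.ker ≤ q.ker := by
    have e : q.ker = (m ≫ f).ker := by
      rw [← h, Scheme.Hom.ker_comp μ q, μ.ker_eq_bot, Scheme.IdealSheafData.map_bot]
    rw [e]
    exact (Scheme.IdealSheafData.ker_subschemeι _).le.trans (Scheme.Hom.le_ker_comp m f)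
  exact ⟨IsClosedImmersion.lift f.imageι q hker, IsClosedImmersion.lift_fac _ _ _⟩

/-- A subscheme of the arrows closed under identities, inverses and composition gives a groupoid. -/
theorem exists_subgroupoid {S : Scheme.{u}} (G : Grpd.GroupoidScheme S) {Z : Scheme.{u}} (ι : Z ⟶ G.R) [Mono ι]
    (he : ∃ eZ : G.U ⟶ Z, eZ ≫ ι = G.e) (hi : ∃ iZ : Z ⟶ Z, iZ ≫ ι = ι ≫ G.i)
    (hc : ∀ {T : Scheme.{u}} (α β : T ⟶ Z) (h : (α ≫ ι) ≫ G.s = (β ≫ ι) ≫ G.t),
      ∃ γ : T ⟶ Z, γ ≫ ι = mul G (α ≫ ι) (β ≫ ι) h) :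
    ∃ (G' : Grpd.GroupoidScheme S) (ψ : Grpd.GroupoidScheme.Hom G' G) (eR : G'.R ≅ Z),
      IsIso ψ.fU ∧ eR.hom ≫ ι = ψ.fR := by
  obtain ⟨eZ, heZ⟩ := he
  obtain ⟨iZ, hiZ⟩ := hi
  have hc' : (pullback.fst (ι ≫ G.s) (ι ≫ G.t) ≫ ι) ≫ G.s = (pullback.snd (ι ≫ G.s) (ι ≫ G.t) ≫ ι) ≫ G.t := by
    simpa only [Category.assoc] using pullback.condition
  let cZ := (hc _ _ hc').choose
  have hcZ : ∀ {T : Scheme.{u}} (α β : T ⟶ Z) (h : α ≫ ι ≫ G.s = β ≫ ι ≫ G.t),
      (pullback.lift α β h ≫ cZ) ≫ ι = mul G (α ≫ ι) (β ≫ ι) (by simpa only [Category.assoc] using h) := by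
    intro T α β h
    rw [Category.assoc, (hc _ _ hc').choose_spec, comp_mul]
    exact mul_congr (by rw [pullback.lift_fst_assoc]) (by rw [pullback.lift_snd_assoc]) _
  let G' : Grpd.GroupoidScheme S :=
    { U := G.U
      R := Z
      pU := G.pU
      pR := ι ≫ G.pR
      s := ι ≫ G.s
      t := ι ≫ G.t
      e := eZ
      i := iZ
      c := cZ
      s_over := by rw [Category.assoc, G.s_over]
      t_over := by rw [Category.assoc, G.t_over]
      comp_s := fun α β h => by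
        rw [← Category.assoc, hcZ α β h, mul_s, Category.assoc]
      comp_t := fun α β h => by
        rw [← Category.assoc, hcZ α β h, mul_t, Category.assoc]
      assoc := fun α β γ h₁ h₂ => by
        rw [← cancel_mono ι]
        refine (hcZ _ _ _).trans (Eq.trans ?_ (hcZ _ _ _).symm)
        refine (mul_congr (hcZ α β h₁) rfl _).trans (Eq.trans ?_ (mul_congr rfl (hcZ β γ h₂) _).symm)
        exact G.assoc _ _ _ _ _
      e_s := by rw [reassoc_of% heZ, G.e_s]
      e_t := by rw [reassoc_of% heZ, G.e_t]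
      comp_e := fun α => by
        rw [← cancel_mono ι, hcZ, mul_congr rfl (show (α ≫ (ι ≫ G.s) ≫ eZ) ≫ ι = (α ≫ ι) ≫ G.s ≫ G.e by
          simp only [Category.assoc, heZ])]
        exact G.comp_e _
      e_comp := fun α => by
        rw [← cancel_mono ι, hcZ, mul_congr (show (α ≫ (ι ≫ G.t) ≫ eZ) ≫ ι = (α ≫ ι) ≫ G.t ≫ G.e by
          simp only [Category.assoc, heZ]) rfl]
        exact G.e_comp _
      i_s := by rw [reassoc_of% hiZ, G.i_s]
      i_t := by rw [reassoc_of% hiZ, G.i_t]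
      comp_i := fun α => by
        rw [← cancel_mono ι, hcZ, mul_congr rfl (show (α ≫ iZ) ≫ ι = (α ≫ ι) ≫ G.i by
          simp only [Category.assoc, hiZ]), show (α ≫ (ι ≫ G.t) ≫ eZ) ≫ ι = (α ≫ ι) ≫ G.t ≫ G.e by
          simp only [Category.assoc, heZ]]
        exact G.comp_i _
      i_comp := fun α => by
        rw [← cancel_mono ι, hcZ, mul_congr (show (α ≫ iZ) ≫ ι = (α ≫ ι) ≫ G.i by
          simp only [Category.assoc, hiZ]) rfl, show (α ≫ (ι ≫ G.s) ≫ eZ) ≫ ι = (α ≫ ι) ≫ G.s ≫ G.e by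
          simp only [Category.assoc, heZ]]
        exact G.i_comp _ }
  let ψ : Grpd.GroupoidScheme.Hom G' G :=
    { fU := 𝟙 G.U
      fR := ι
      fU_over := Category.id_comp _
      comm_s := (Category.comp_id _).symm
      comm_t := (Category.comp_id _).symm
      comm_c := fun α β h => hcZ α β h }
  exact ⟨G', ψ, Iso.refl _, inferInstanceAs (IsIso (𝟙 G.U)), Category.id_comp _⟩

end Groth.Agent.FinGrpdLib
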