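import Groth.Agent.FinGrpdLib.Quot
import Groth.Agent.GrpQuotLib.Sheaf
import Groth.Prelude.Def_AlgGrp
/-!
Quotient sheaves of finite locally free equivalence relations; relations given by free actions.
-/

set_option autoImplicit false
set_option backward.isDefEq.respectTransparency false
universe u

open CategoryTheory CategoryTheory.Limits AlgebraicGeometry Opposite TopologicalSpace
open MonoidalCategory CartesianMonoidalCategory MonObj

noncomputable section

namespace Groth.Agent.FinGrpdLib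

variable {S : Scheme.{u}}

/-- `j` of a groupoid given by an equivalence relation is a monomorphism. -/
theorem mono_j_of_isEqvRel (G : Grpd.GroupoidScheme S)
    (heq : _root_.AlgSp.IsEqvRel (Over.homMk G.s G.s_over : Over.mk G.pR ⟶ Over.mk G.pU)
      (Over.homMk G.t G.t_over : Over.mk G.pR ⟶ Over.mk G.pU)) : Mono G.j := by
  refine ⟨fun {T} α β h => ?_⟩
  have h₁ := congrArg (· ≫ pullback.fst G.pU G.pU) h
  have h₂ := congrArg (· ≫ pullback.snd G.pU G.pU) h
  simp only [Grpd.GroupoidScheme.j, Category.assoc, pullback.lift_fst, pullback.lift_snd] at h₁ h₂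
  have hβ : β ≫ G.pR = α ≫ G.pR := by rw [← G.t_over, ← Category.assoc, ← h₁, Category.assoc]
  let a : Over.mk (α ≫ G.pR) ⟶ Over.mk G.pR := Over.homMk α rfl
  let b : Over.mk (α ≫ G.pR) ⟶ Over.mk G.pR := Over.homMk β hβ
  exact congrArg CommaMorphism.left
    (heq.injective _ a b (Over.OverMorphism.ext h₁) (Over.OverMorphism.ext h₂))

/-- The quotient sheaf of a finite locally free equivalence relation with orbits in affine opens. -/
theorem exists_quotient (G : Grpd.GroupoidScheme S) [IsFinite G.s] [Flat G.s] [LocallyOfFinitePresentation G.s]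
    [Mono G.j] (h : OrbitsAffine G) :
    ∃ (M : Over S) (m : Over.mk G.pU ⟶ M), Mor2.IsFinLocFree m.left ∧ IsPullback G.t G.s m.left m.left ∧
      Surjective m.left ∧
      QuotSh.IsQuotient Scheme.fppfPrecoverage (Over.homMk G.s G.s_over : Over.mk G.pR ⟶ Over.mk G.pU)
        (Over.homMk G.t G.t_over : Over.mk G.pR ⟶ Over.mk G.pU) m := by
  obtain ⟨Y, p, hp⟩ := exists_charted G h
  have hk : IsPullback G.t G.s p p := hp.isPullback
  obtain ⟨h₁, h₂, h₃⟩ := hp.isFinLocFree
  let g : Y ⟶ S := hp.isQ.desc G.pU (G.s_over.trans G.t_over.symm)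
  have hg : p ≫ g = G.pU := hp.isQ.fac _ _
  let m : Over.mk G.pU ⟶ Over.mk g := Over.homMk p hg
  haveI hsur : Surjective m.left := ⟨hp.isQ.surjective⟩
  refine ⟨Over.mk g, m, ⟨h₁, h₂, h₃⟩, hk, hsur, ?_⟩
  let s' : Over.mk G.pR ⟶ Over.mk G.pU := Over.homMk G.s G.s_over
  let t' : Over.mk G.pR ⟶ Over.mk G.pU := Over.homMk G.t G.t_over
  have w : s' ≫ m = t' ≫ m := Over.OverMorphism.ext hp.isQ.w
  have hP : IsPullback t' s' m m := IsPullback.of_map (Over.forget S) w.symm hk
  haveI : Epi (QuotSh.repMap Scheme.fppfPrecoverage (𝟙 (Over.mk G.pR))) := by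
    change Epi ((GrpQuotLib.repFunctor Scheme.fppfPrecoverage S).map (𝟙 (Over.mk G.pR)))
    rw [CategoryTheory.Functor.map_id]; infer_instance
  exact GrpQuotLib.isQuotient_of_epi _ s' t' m w hP (𝟙 _) (Category.id_comp _) (Category.id_comp _)
    (GrpQuotLib.epi_repMap_of_cover (P := @Flat ⊓ @LocallyOfFinitePresentation) m ⟨h₂, h₃⟩) ‹_›

/-- If every closed subset has a point whose orbit is in an affine open, every orbit is. -/
theorem orbitsAffine_of_closed (G : Grpd.GroupoidScheme S) [IsFinite G.s] [Flat G.s]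
    [LocallyOfFinitePresentation G.s]
    (h : ∀ Z : Set ↥G.U, IsClosed Z → Z.Nonempty →
      ∃ u ∈ Z, ∃ W : G.U.Opens, IsAffineOpen W ∧ ∀ r : ↥G.R, G.s r = u → G.t r ∈ W) : OrbitsAffine G := by
  let O : G.U.Opens := iSup fun W : InvAff G => W.1
  suffices hO : ∀ x, x ∈ O by
    intro x
    obtain ⟨W, hW⟩ := Opens.mem_iSup.1 (hO x)
    exact ⟨W.1, W.2.1, fun y hy => mem_of_rel hy hW⟩
  by_contra hne
  push Not at hne
  obtain ⟨x, hx⟩ := hne
  obtain ⟨u, hu, W, hW, hWu⟩ := h (O : Set G.U)ᶜ O.2.isClosed_compl ⟨x, hx⟩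
  have hr : ∀ y, Rel G y u → y ∈ W := fun y ⟨r, hr, hr'⟩ => hr ▸ hWu r hr'
  obtain ⟨V, hV, huV, hinv, -, -⟩ := exists_invariant_affine G u hW W hr hr
  exact hu (Opens.mem_iSup.2 ⟨⟨V, hV, hinv⟩, huV⟩)

theorem eqvRel_ext {R U : Over S} {s t : R ⟶ U} (h : _root_.AlgSp.IsEqvRel s t) {T : Scheme.{u}}
    (a b : T ⟶ R.left) (ht : a ≫ t.left = b ≫ t.left) (hs : a ≫ s.left = b ≫ s.left) : a = b := by
  have hb : b ≫ R.hom = a ≫ R.hom := by
    rw [← Over.w t, ← Category.assoc, ← ht, Category.assoc]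
  exact congrArg CommaMorphism.left (h.injective _ (Over.homMk (U := Over.mk (a ≫ R.hom)) a rfl)
    (Over.homMk b hb) (Over.OverMorphism.ext ht) (Over.OverMorphism.ext hs))

theorem exists_groupoid_data {R U : Over S} {s t : R ⟶ U} (h : _root_.AlgSp.IsEqvRel s t) :
    ∃ (e : U.left ⟶ R.left) (i : R.left ⟶ R.left) (c : pullback s.left t.left ⟶ R.left),
      (e ≫ t.left = 𝟙 _ ∧ e ≫ s.left = 𝟙 _) ∧ (i ≫ t.left = s.left ∧ i ≫ s.left = t.left) ∧
      (c ≫ t.left = pullback.fst s.left t.left ≫ t.left ∧ c ≫ s.left = pullback.snd s.left t.left ≫ s.left) := by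
  obtain ⟨e₀, he₁, he₂⟩ := (h.equivalence U).refl (𝟙 U)
  obtain ⟨i₀, hi₁, hi₂⟩ := (h.equivalence R).symm (x := t) (y := s) ⟨𝟙 R, Category.id_comp _, Category.id_comp _⟩
  let P : Over S := Over.mk (pullback.fst s.left t.left ≫ R.hom)
  let q₁ : P ⟶ R := Over.homMk (pullback.fst s.left t.left) rfl
  let q₂ : P ⟶ R := Over.homMk (pullback.snd s.left t.left) (by
    change pullback.snd s.left t.left ≫ R.hom = pullback.fst s.left t.left ≫ R.hom
    rw [← Over.w t, ← pullback.condition_assoc, Over.w s, Over.w t])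
  have hq : q₁ ≫ s = q₂ ≫ t := Over.OverMorphism.ext pullback.condition
  obtain ⟨c₀, hc₁, hc₂⟩ := (h.equivalence P).trans (x := q₁ ≫ t) (y := q₁ ≫ s) (z := q₂ ≫ s)
    ⟨q₁, rfl, rfl⟩ ⟨q₂, hq.symm, rfl⟩
  exact ⟨e₀.left, i₀.left, c₀.left, ⟨congrArg CommaMorphism.left he₁, congrArg CommaMorphism.left he₂⟩,
    ⟨congrArg CommaMorphism.left hi₁, congrArg CommaMorphism.left hi₂⟩,
    ⟨congrArg CommaMorphism.left hc₁, congrArg CommaMorphism.left hc₂⟩⟩

/-- The groupoid scheme of an equivalence relation. -/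
def groupoid {R U : Over S} {s t : R ⟶ U} (h : _root_.AlgSp.IsEqvRel s t) (e₀ : U.left ⟶ R.left)
    (i₀ : R.left ⟶ R.left) (c₀ : pullback s.left t.left ⟶ R.left)
    (het : e₀ ≫ t.left = 𝟙 _) (hes : e₀ ≫ s.left = 𝟙 _) (hit : i₀ ≫ t.left = s.left) (his : i₀ ≫ s.left = t.left)
    (hct : c₀ ≫ t.left = pullback.fst s.left t.left ≫ t.left)
    (hcs : c₀ ≫ s.left = pullback.snd s.left t.left ≫ s.left) : Grpd.GroupoidScheme S :=
  { U := U.left
    R := R.left
    pU := U.hom
    pR := R.hom
    s := s.left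
    t := t.left
    e := e₀
    i := i₀
    c := c₀
    s_over := Over.w s
    t_over := Over.w t
    comp_s := fun α β h => by rw [Category.assoc, hcs, pullback.lift_snd_assoc]
    comp_t := fun α β h => by rw [Category.assoc, hct, pullback.lift_fst_assoc]
    assoc := fun α β δ h₁ h₂ => eqvRel_ext h _ _
      (by simp only [Category.assoc, hct, pullback.lift_fst_assoc])
      (by simp only [Category.assoc, hcs, pullback.lift_snd_assoc])
    e_s := hes
    e_t := het
    comp_e := fun α => eqvRel_ext h _ _ (by simp only [Category.assoc, hct, pullback.lift_fst_assoc])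
      (by simp only [Category.assoc, hcs, pullback.lift_snd_assoc, hes, Category.comp_id])
    e_comp := fun α => eqvRel_ext h _ _
      (by simp only [Category.assoc, hct, pullback.lift_fst_assoc, het, Category.comp_id])
      (by simp only [Category.assoc, hcs, pullback.lift_snd_assoc])
    i_s := his
    i_t := hit
    comp_i := fun α => eqvRel_ext h _ _
      (by simp only [Category.assoc, hct, pullback.lift_fst_assoc, het, Category.comp_id])
      (by simp only [Category.assoc, hcs, pullback.lift_snd_assoc, hes, his, Category.comp_id])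
    i_comp := fun α => eqvRel_ext h _ _
      (by simp only [Category.assoc, hct, pullback.lift_fst_assoc, het, hit, Category.comp_id])
      (by simp only [Category.assoc, hcs, pullback.lift_snd_assoc, hes, Category.comp_id]) }

/-- The quotient sheaf of a finite locally free equivalence relation with orbits in affine opens. -/
theorem exists_quotient_of_isEqvRel {R U : Over S} {s t : R ⟶ U} (h : _root_.AlgSp.IsEqvRel s t)
    [IsFinite s.left] [Flat s.left] [LocallyOfFinitePresentation s.left]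
    (ho : ∀ x : U.left, ∃ V : U.left.Opens, IsAffineOpen V ∧ ∀ r : R.left, s.left r = x → t.left r ∈ V) :
    ∃ (M : Over S) (q : U ⟶ M), Mor2.IsFinLocFree q.left ∧ IsPullback t.left s.left q.left q.left ∧
      Surjective q.left ∧ QuotSh.IsQuotient Scheme.fppfPrecoverage s t q := by
  obtain ⟨e₀, i₀, c₀, ⟨het, hes⟩, ⟨hit, his⟩, hct, hcs⟩ := exists_groupoid_data h
  let G := groupoid h e₀ i₀ c₀ het hes hit his hct hcs
  haveI : IsFinite G.s := ‹IsFinite s.left›
  haveI : Flat G.s := ‹Flat s.left›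
  haveI : LocallyOfFinitePresentation G.s := ‹LocallyOfFinitePresentation s.left›
  haveI : Mono G.j := mono_j_of_isEqvRel G h
  exact exists_quotient G fun x => by
    obtain ⟨V, hV, hx⟩ := ho x
    exact ⟨V, hV, fun y ⟨r, hr, hr'⟩ => hr ▸ hx r hr'⟩

section Action

variable {G X : Over S} [GrpObj G] (a : AlgGrp.Action G X)

theorem act_mul {Z : Over S} (g h : Z ⟶ G) (x : Z ⟶ X) :
    lift (g * h) x ≫ a.act = lift g (lift h x ≫ a.act) ≫ a.act := by
  have := congrArg (lift (lift g h) x ≫ ·) a.mul_act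
  simp only [lift_whiskerRight_assoc, lift_lift_associator_hom_assoc, lift_whiskerLeft_assoc] at this
  exact this

theorem act_one {Z : Over S} (x : Z ⟶ X) : lift (1 : Z ⟶ G) x ≫ a.act = x := by
  have := congrArg (lift (toUnit _) x ≫ ·) a.one_act
  simp only [lift_whiskerRight_assoc, lift_leftUnitor_hom] at this
  rw [CategoryTheory.Hom.one_def]
  exact this

/-- The graph of a free action is an equivalence relation. -/
theorem isEqvRel_of_free
    (hfree : ∀ (T : Over S) (g : T ⟶ G) (x : T ⟶ X), lift g x ≫ a.act = x → g = toUnit T ≫ η[G]) :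
    _root_.AlgSp.IsEqvRel (snd G X) a.act := by
  refine ⟨fun T r r' e1 e2 => ?_, fun T => ⟨fun x => ⟨lift (1 : T ⟶ G) x, act_one a x, lift_snd _ _⟩, ?_, ?_⟩⟩
  · refine CartesianMonoidalCategory.hom_ext _ _ ?_ e2
    have e : lift (r ≫ fst G X) (r ≫ snd G X) ≫ a.act = lift (r' ≫ fst G X) (r ≫ snd G X) ≫ a.act := by
      rw [lift_comp_fst_snd, e1, ← lift_comp_fst_snd (f := r'), lift_comp_fst_snd, e2, lift_comp_fst_snd]
    have := hfree T ((r' ≫ fst G X)⁻¹ * (r ≫ fst G X)) (r ≫ snd G X) (by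
      rw [act_mul, e, ← act_mul, inv_mul_cancel, act_one])
    rw [← CategoryTheory.Hom.one_def, inv_mul_eq_one] at this
    exact this.symm
  · rintro x y ⟨r, rfl, rfl⟩
    refine ⟨lift (r ≫ fst G X)⁻¹ (r ≫ a.act), ?_, lift_snd _ _⟩
    conv_lhs => rw [show r ≫ a.act = lift (r ≫ fst G X) (r ≫ snd G X) ≫ a.act by rw [lift_comp_fst_snd]]
    rw [← act_mul, inv_mul_cancel, act_one]
  · rintro x y z ⟨r, rfl, hy⟩ ⟨r', hy', rfl⟩
    refine ⟨lift (r ≫ fst G X * r' ≫ fst G X) (r' ≫ snd G X), ?_, lift_snd _ _⟩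
    rw [act_mul, lift_comp_fst_snd, hy', ← hy, lift_comp_fst_snd]

end Action

/-- Separation descends along finite surjective morphisms. -/
theorem isSeparated_of_finite_surjective {U M Z : Scheme.{u}} (m : U ⟶ M) [IsFinite m] [Surjective m] (g : M ⟶ Z) :
    (IsSeparated (m ≫ g) → IsSeparated g) ∧ (QuasiSeparated (m ≫ g) → QuasiSeparated g) := by
  let mm := pullback.map (m ≫ g) (m ≫ g) g g m m (𝟙 Z) (Category.comp_id _) (Category.comp_id _)
  haveI : IsFinite mm := MorphismProperty.pullbackMap (P := @IsFinite) ‹_› ‹_› rfl rfl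
  have hcomm : pullback.diagonal (m ≫ g) ≫ mm = m ≫ pullback.diagonal g := by
    apply pullback.hom_ext <;> simp [mm]
  constructor
  · intro h
    haveI := h
    refine ⟨IsClosedImmersion.of_isPreimmersion _ ?_⟩
    have : Set.range (pullback.diagonal g) = mm '' Set.range (pullback.diagonal (m ≫ g)) := by
      ext z
      constructor
      · rintro ⟨y, rfl⟩
        obtain ⟨x, rfl⟩ := m.surjective y
        exact ⟨_, ⟨x, rfl⟩, congrArg (fun k => k x) hcomm⟩
      · rintro ⟨_, ⟨x, rfl⟩, rfl⟩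
        exact ⟨m x, (congrArg (fun k => k x) hcomm).symm⟩
    rw [this]
    exact mm.isClosedMap _ (pullback.diagonal (m ≫ g)).isClosedEmbedding.isClosed_range
  · intro h
    haveI := h
    refine ⟨?_⟩
    haveI : QuasiCompact (m ≫ pullback.diagonal g) := by rw [← hcomm]; infer_instance
    rw [quasiCompact_iff]
    intro O hO hc
    have := QuasiCompact.isCompact_preimage (f := m ≫ pullback.diagonal g) O hO hc
    have e : (m ≫ pullback.diagonal g) ⁻¹' O = m ⁻¹' (pullback.diagonal g ⁻¹' O) := rfl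
    rw [e] at this
    rw [← Set.image_preimage_eq (pullback.diagonal g ⁻¹' O) m.surjective]
    exact this.image m.continuous

end Groth.Agent.FinGrpdLib
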