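import Groth.Agent.FinGrpdLib.Orbit
/-!
Saturations of subsets of the objects of a groupoid scheme.
-/

set_option autoImplicit false
universe u

open CategoryTheory CategoryTheory.Limits AlgebraicGeometry TopologicalSpace

namespace Groth.Agent.FinGrpdLib

variable {S : Scheme.{u}} (G : Grpd.GroupoidScheme S)

/-- The saturation of a set consists of the points related to one of its points. -/
theorem mem_sat {W : Set G.U} {x : G.U} : x ∈ ⇑G.t '' (⇑G.s ⁻¹' W) ↔ ∃ y ∈ W, Rel G x y := by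
  constructor
  · rintro ⟨r, hr, rfl⟩; exact ⟨_, hr, r, rfl, rfl⟩
  · rintro ⟨y, hy, r, rfl, rfl⟩; exact ⟨r, hy, rfl⟩

/-- A saturation is invariant. -/
theorem sat_invariant (W : Set G.U) :
    ⇑G.s ⁻¹' (⇑G.t '' (⇑G.s ⁻¹' W)) = ⇑G.t ⁻¹' (⇑G.t '' (⇑G.s ⁻¹' W)) := by
  ext r
  simp only [Set.mem_preimage, mem_sat]
  exact ⟨fun ⟨y, hy, h⟩ => ⟨y, hy, Rel.trans ⟨r, rfl, rfl⟩ h⟩,
    fun ⟨y, hy, h⟩ => ⟨y, hy, Rel.trans (Rel.symm ⟨r, rfl, rfl⟩) h⟩⟩

/-- A set is contained in its saturation. -/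
theorem subset_sat (W : Set G.U) : W ⊆ ⇑G.t '' (⇑G.s ⁻¹' W) := fun x hx =>
  (mem_sat G).2 ⟨x, hx, Rel.refl G x⟩

/-- A saturation of a compact open is compact. -/
theorem isCompact_sat [QuasiCompact G.s] (W : G.U.Opens) (hW : IsCompact (W : Set G.U)) :
    IsCompact (⇑G.t '' (⇑G.s ⁻¹' (W : Set G.U))) :=
  (G.s.isCompact_preimage hW).image G.t.continuous

/-- A saturation of an open under a flat target is stable under generalization. -/
theorem stableUnderGeneralization_sat [Flat G.t] (W : G.U.Opens) :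
    StableUnderGeneralization (⇑G.t '' (⇑G.s ⁻¹' (W : Set G.U))) :=
  (Flat.generalizingMap G.t).stableUnderGeneralization_image
    ((W.2.preimage G.s.continuous).stableUnderGeneralization)

/-- A compact set of a scheme is contained in a compact open of any open containing it. -/
theorem exists_compact_open_between {X : Scheme.{u}} {K O : Set X} (hK : IsCompact K) (hO : IsOpen O)
    (hKO : K ⊆ O) : ∃ V : X.Opens, IsCompact (V : Set X) ∧ K ⊆ V ∧ (V : Set X) ⊆ O := by
  obtain ⟨V, hV, hVc⟩ : ∃ V : O → X.Opens, (∀ x : O, x.1 ∈ V x ∧ (V x : Set X) ⊆ O) ∧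
      ∀ x, IsCompact (V x : Set X) := by
    have h : ∀ x : O, ∃ V : X.Opens, IsAffineOpen V ∧ x.1 ∈ V ∧ (V : Set X) ⊆ O := fun x => by
      obtain ⟨_, ⟨V, hV, rfl⟩, hx, hVO⟩ := X.isBasis_affineOpens.exists_subset_of_mem_open x.2 hO
      exact ⟨V, hV, hx, hVO⟩
    choose V h₁ h₂ h₃ using h
    exact ⟨V, fun x => ⟨h₂ x, h₃ x⟩, fun x => (h₁ x).isCompact⟩
  obtain ⟨F, hF⟩ := hK.elim_finite_subcover (fun x => (V x : Set X)) (fun x => (V x).2)
    (fun x hx => Set.mem_iUnion.2 ⟨⟨x, hKO hx⟩, (hV ⟨x, hKO hx⟩).1⟩)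
  refine ⟨⟨⋃ x ∈ F, (V x : Set X), isOpen_biUnion fun x _ => (V x).2⟩, F.isCompact_biUnion fun x _ => hVc x, hF,
    Set.iUnion₂_subset fun x _ => (hV x).2⟩

/-- A compact set stable under generalization is an intersection of compact opens. -/
theorem eq_iInter_compact_opens {X : Scheme.{u}} {K : Set X} (hK : IsCompact K) (hg : StableUnderGeneralization K) :
    K = ⋂ V : {V : X.Opens // IsCompact (V : Set X) ∧ K ⊆ V}, (V.1 : Set X) := by
  refine Set.Subset.antisymm (Set.subset_iInter fun V => V.2.2) fun x hx => by_contra fun hxK => ?_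
  obtain ⟨V, hVc, hKV, hVx⟩ := exists_compact_open_between hK (isClosed_closure (s := {x})).isOpen_compl
    (fun e he hex => hxK (hg (specializes_iff_mem_closure.2 hex) he))
  exact hVx (Set.mem_iInter.1 hx ⟨V, hVc, hKV⟩) (subset_closure rfl)

end Groth.Agent.FinGrpdLib
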