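import Groth.Agent.FinGrpdLib.Orbit
/-!
The groupoid of `T`-valued points of a groupoid scheme.
-/

set_option autoImplicit false
set_option backward.isDefEq.respectTransparency false
universe u

open CategoryTheory CategoryTheory.Limits AlgebraicGeometry

noncomputable section

namespace Groth.Agent.FinGrpdLib

variable {S : Scheme.{u}} (G : Grpd.GroupoidScheme S)

/-- Composition of points. -/
def mul {T : Scheme.{u}} (α β : T ⟶ G.R) (h : α ≫ G.s = β ≫ G.t) : T ⟶ G.R := pullback.lift α β h ≫ G.c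

variable {G}

theorem mul_s {T : Scheme.{u}} {α β : T ⟶ G.R} (h : α ≫ G.s = β ≫ G.t) : mul G α β h ≫ G.s = β ≫ G.s :=
  G.comp_s α β h

theorem mul_t {T : Scheme.{u}} {α β : T ⟶ G.R} (h : α ≫ G.s = β ≫ G.t) : mul G α β h ≫ G.t = α ≫ G.t :=
  G.comp_t α β h

theorem comp_mul {T T' : Scheme.{u}} (γ : T' ⟶ T) {α β : T ⟶ G.R} (h : α ≫ G.s = β ≫ G.t) :
    γ ≫ mul G α β h = mul G (γ ≫ α) (γ ≫ β) (by rw [Category.assoc, Category.assoc, h]) := by
  rw [mul, mul, ← Category.assoc]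
  congr 1
  apply pullback.hom_ext <;> simp

theorem mul_congr {T : Scheme.{u}} {α α' β β' : T ⟶ G.R} (ha : α = α') (hb : β = β') (h : α ≫ G.s = β ≫ G.t) :
    mul G α β h = mul G α' β' (ha ▸ hb ▸ h) := by
  subst ha hb; rfl

variable (G)

/-- Objects of the groupoid of points. -/
structure Pt (T : Scheme.{u}) where
  /-- the point -/
  pt : T ⟶ G.U

variable {G}

/-- The groupoid of `T`-valued points; composition is the composition of arrows. -/
instance category (T : Scheme.{u}) : Category (Pt G T) where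
  Hom X Y := {α : T ⟶ G.R // α ≫ G.s = X.pt ∧ α ≫ G.t = Y.pt}
  id X := ⟨X.pt ≫ G.e, by rw [Category.assoc, G.e_s, Category.comp_id],
    by rw [Category.assoc, G.e_t, Category.comp_id]⟩
  comp f g := ⟨mul G g.1 f.1 (g.2.1.trans f.2.2.symm), (mul_s _).trans f.2.1, (mul_t _).trans g.2.2⟩
  id_comp {X Y} f := by
    apply Subtype.ext
    change mul G f.1 (X.pt ≫ G.e) _ = f.1
    rw [mul_congr rfl ((congrArg (· ≫ G.e) f.2.1.symm).trans (Category.assoc _ _ _))]
    exact G.comp_e f.1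
  comp_id {X Y} f := by
    apply Subtype.ext
    change mul G (Y.pt ≫ G.e) f.1 _ = f.1
    rw [mul_congr ((congrArg (· ≫ G.e) f.2.2.symm).trans (Category.assoc _ _ _)) rfl]
    exact G.e_comp f.1
  assoc f g h := by
    apply Subtype.ext
    exact (G.assoc h.1 g.1 f.1 _ _).symm

theorem comp_val {T : Scheme.{u}} {X Y Z : Pt G T} (f : X ⟶ Y) (g : Y ⟶ Z) :
    (f ≫ g).1 = mul G g.1 f.1 (g.2.1.trans f.2.2.symm) := rfl

theorem id_val {T : Scheme.{u}} (X : Pt G T) : (𝟙 X : X ⟶ X).1 = X.pt ≫ G.e := rfl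

instance groupoid' (T : Scheme.{u}) : Groupoid (Pt G T) where
  inv f := ⟨f.1 ≫ G.i, by rw [Category.assoc, G.i_s]; exact f.2.2, by rw [Category.assoc, G.i_t]; exact f.2.1⟩
  inv_comp {X Y} f := by
    apply Subtype.ext
    change mul G f.1 (f.1 ≫ G.i) _ = Y.pt ≫ G.e
    exact ((G.comp_i f.1).trans (Category.assoc _ _ _).symm).trans (congrArg (· ≫ G.e) f.2.2)
  comp_inv {X Y} f := by
    apply Subtype.ext
    change mul G (f.1 ≫ G.i) f.1 _ = X.pt ≫ G.e
    exact ((G.i_comp f.1).trans (Category.assoc _ _ _).symm).trans (congrArg (· ≫ G.e) f.2.1)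

/-- A point of the arrows as a morphism of points. -/
def arr {T : Scheme.{u}} (α : T ⟶ G.R) : (⟨α ≫ G.s⟩ : Pt G T) ⟶ ⟨α ≫ G.t⟩ := ⟨α, rfl, rfl⟩

/-- Change of test scheme. -/
def Pt.pull {T T' : Scheme.{u}} (γ : T' ⟶ T) (X : Pt G T) : Pt G T' := ⟨γ ≫ X.pt⟩

/-- Change of test scheme on arrows. -/
def pullHom {T T' : Scheme.{u}} (γ : T' ⟶ T) {X Y : Pt G T} (f : X ⟶ Y) : X.pull γ ⟶ Y.pull γ :=
  ⟨γ ≫ f.1, by rw [Category.assoc, f.2.1]; rfl, by rw [Category.assoc, f.2.2]; rfl⟩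

theorem pullHom_comp {T T' : Scheme.{u}} (γ : T' ⟶ T) {X Y Z : Pt G T} (f : X ⟶ Y) (g : Y ⟶ Z) :
    pullHom γ (f ≫ g) = pullHom γ f ≫ pullHom γ g := Subtype.ext (comp_mul γ _)

end Groth.Agent.FinGrpdLib
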