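import Groth.Agent.FinGrpdLib.Scheme
/-!
Points of the spectrum of the invariants.
-/

set_option autoImplicit false
set_option backward.isDefEq.respectTransparency false
universe u

open CategoryTheory CategoryTheory.Limits AlgebraicGeometry

namespace Groth.Agent.FinGrpdLib

/-- A point with values in an algebraically closed field extends through an integral extension, with any
prescribed prime over its kernel. -/
theorem exists_lift {A B k : Type u} [CommRing A] [CommRing B] [Algebra A B] [Algebra.IsIntegral A B] [Field k]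
    [IsAlgClosed k] (φ : A →+* k) (P : Ideal B) [P.IsPrime] (h : P.comap (algebraMap A B) = RingHom.ker φ) :
    ∃ x : B →+* k, x.comp (algebraMap A B) = φ ∧ RingHom.ker x = P := by
  let q := RingHom.ker φ
  haveI : q.IsPrime := RingHom.ker_isPrime φ
  let _ : Algebra (A ⧸ q) (B ⧸ P) := (Ideal.quotientMap P (algebraMap A B) h.ge).toAlgebra
  haveI : IsScalarTower A (A ⧸ q) (B ⧸ P) := .of_algebraMap_eq fun a => rfl
  haveI : FaithfulSMul (A ⧸ q) (B ⧸ P) := (faithfulSMul_iff_algebraMap_injective _ _).2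
    (Ideal.quotientMap_injective' h.le)
  let _ : Algebra (A ⧸ q) k := (RingHom.kerLift φ).toAlgebra
  haveI : FaithfulSMul (A ⧸ q) k := (faithfulSMul_iff_algebraMap_injective _ _).2 (RingHom.kerLift_injective φ)
  haveI : Algebra.IsIntegral (A ⧸ q) (B ⧸ P) := Algebra.IsIntegral.tower_top A
  haveI : Nontrivial (A ⧸ q) := Ideal.Quotient.nontrivial_iff.2 (Ideal.IsPrime.ne_top ‹_›)
  let g : B ⧸ P →ₐ[A ⧸ q] k := IsAlgClosed.lift
  refine ⟨g.toRingHom.comp (Ideal.Quotient.mk P), RingHom.ext fun a => ?_, ?_⟩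
  · exact g.commutes (Ideal.Quotient.mk q a)
  · letI : Algebra.IsAlgebraic (A ⧸ q) (B ⧸ P) := Algebra.IsIntegral.isAlgebraic
    have hg : Function.Injective g.toRingHom := by
      rw [RingHom.injective_iff_ker_eq_bot]
      haveI : (RingHom.ker g.toRingHom).IsPrime := RingHom.ker_isPrime _
      refine Ideal.eq_bot_of_comap_eq_bot (R := A ⧸ q) ?_
      rw [RingHom.comap_ker]
      exact (RingHom.injective_iff_ker_eq_bot _).1 (by
        rw [show g.toRingHom.comp (algebraMap (A ⧸ q) (B ⧸ P)) = algebraMap (A ⧸ q) k from g.comp_algebraMap]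
        exact RingHom.kerLift_injective φ)
    rw [RingHom.ker_comp_of_injective _ hg, Ideal.mk_ker]

variable {S : Scheme.{u}} (G : Grpd.GroupoidScheme S) [IsAffine G.U] [IsAffine G.R] [IsFinite G.s] [Flat G.s]
  [LocallyOfFinitePresentation G.s]

/-- Every point of the spectrum of the invariants lifts. -/
theorem exists_lift_point {k : Type u} [Field k] [IsAlgClosed k] (φ : G.invariants →+* k) :
    ∃ x : Γ(G.U, ⊤) →+* k, x.comp G.invariants.subtype = φ := by
  haveI := isIntegral_invariants G
  haveI : (RingHom.ker φ).IsPrime := RingHom.ker_isPrime φ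
  obtain ⟨P, -, hP, hPφ⟩ := Ideal.exists_ideal_over_prime_of_isIntegral (S := Γ(G.U, ⊤)) (RingHom.ker φ) ⊥
    (by rw [Ideal.comap_bot_of_injective _ Subtype.val_injective]; exact bot_le)
  obtain ⟨x, hx, -⟩ := exists_lift φ P hPφ
  exact ⟨x, hx⟩

/-- Primes with the same trace on the invariants are joined by a prime of the relation. -/
theorem exists_prime_of_eq (P₀ P₁ : PrimeSpectrum Γ(G.U, ⊤))
    (h : P₀.comap G.invariants.subtype = P₁.comap G.invariants.subtype) :
    ∃ Q : PrimeSpectrum Γ(G.R, ⊤), Q.comap G.t.appTop.hom = P₀ ∧ Q.comap G.s.appTop.hom = P₁ := by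
  haveI := isIntegral_invariants G
  let q := (P₀.comap G.invariants.subtype).asIdeal
  let φ : G.invariants →+* AlgebraicClosure q.ResidueField :=
    (algebraMap q.ResidueField (AlgebraicClosure q.ResidueField)).comp (algebraMap G.invariants q.ResidueField)
  have hφ : RingHom.ker φ = q := by
    rw [RingHom.ker_comp_of_injective _ (RingHom.injective _), Ideal.ker_algebraMap_residueField]
  obtain ⟨x₀, hx₀, hk₀⟩ := exists_lift φ P₀.asIdeal hφ.symm
  obtain ⟨x₁, hx₁, hk₁⟩ := exists_lift φ P₁.asIdeal (by rw [hφ]; exact (congrArg PrimeSpectrum.asIdeal h).symm)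
  obtain ⟨g, hg₀, hg₁⟩ := (toData G).exists_point_of_eq x₀ x₁
    (fun a ha => (RingHom.congr_fun hx₀ ⟨a, ha⟩).trans (RingHom.congr_fun hx₁ ⟨a, ha⟩).symm)
  refine ⟨⟨RingHom.ker g, RingHom.ker_isPrime g⟩, PrimeSpectrum.ext ?_, PrimeSpectrum.ext ?_⟩
  · rw [PrimeSpectrum.comap_asIdeal, RingHom.comap_ker, ← hk₀]
    exact congrArg RingHom.ker hg₀
  · rw [PrimeSpectrum.comap_asIdeal, RingHom.comap_ker, ← hk₁]
    exact congrArg RingHom.ker hg₁

/-- The map to the spectrum of the invariants is surjective. -/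
theorem surjective_toQuot : Surjective G.toQuot := by
  haveI := isIntegral_invariants G
  haveI : Surjective (Spec.map (CommRingCat.ofHom G.invariants.subtype)) := ⟨fun q => by
    obtain ⟨P, -, hP, hPq⟩ := Ideal.exists_ideal_over_prime_of_isIntegral (S := Γ(G.U, ⊤))
      (PrimeSpectrum.asIdeal q) ⊥
      (by rw [Ideal.comap_bot_of_injective _ Subtype.val_injective]; exact bot_le)
    exact ⟨⟨P, hP⟩, PrimeSpectrum.ext hPq⟩⟩
  exact inferInstanceAs (Surjective (G.U.toSpecΓ ≫ Spec.map (CommRingCat.ofHom G.invariants.subtype)))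

end Groth.Agent.FinGrpdLib
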