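import Groth.Agent.FinGrpdLib.IsQ
import Groth.Agent.FinGrpdLib.Points
/-!
The spectrum of the invariants is a quotient.
-/

set_option autoImplicit false
set_option backward.isDefEq.respectTransparency false
universe u

open CategoryTheory CategoryTheory.Limits AlgebraicGeometry Opposite TopologicalSpace

noncomputable section

namespace Groth.Agent.FinGrpdLib

variable {S : Scheme.{u}} (G : Grpd.GroupoidScheme S) [IsAffine G.U] [IsAffine G.R] [IsFinite G.s] [Flat G.s]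
  [LocallyOfFinitePresentation G.s]

theorem toQuot_appTop : G.toQuot.appTop =
    (Scheme.ΓSpecIso (CommRingCat.of G.invariants)).hom ≫ CommRingCat.ofHom G.invariants.subtype := by
  simp only [Grpd.GroupoidScheme.toQuot, Scheme.Hom.comp_appTop, Scheme.toSpecΓ_appTop]
  exact Scheme.ΓSpecIso_naturality (CommRingCat.ofHom G.invariants.subtype)

theorem isIntegralHom_toQuot : IsIntegralHom G.toQuot := by
  haveI := isIntegral_invariants G
  haveI : IsIntegralHom (Spec.map (CommRingCat.ofHom G.invariants.subtype)) :=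
    (IsIntegralHom.SpecMap_iff).2 (fun x => Algebra.IsIntegral.isIntegral (R := G.invariants) x)
  exact inferInstanceAs (IsIntegralHom (G.U.toSpecΓ ≫ Spec.map (CommRingCat.ofHom G.invariants.subtype)))

theorem toQuot_fibre (u₀ u₁ : G.U) (h : G.toQuot u₀ = G.toQuot u₁) : ∃ r : G.R, G.t r = u₀ ∧ G.s r = u₁ := by
  obtain ⟨Q, h₀, h₁⟩ := exists_prime_of_eq G (G.U.toSpecΓ u₀) (G.U.toSpecΓ u₁) h
  refine ⟨G.R.isoSpec.inv Q, ?_, ?_⟩
  · apply G.U.isoSpec.hom.injective
    rw [← Scheme.Hom.comp_apply, ← Scheme.Hom.comp_apply, ← Scheme.isoSpec_inv_naturality_assoc, Iso.inv_hom_id,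
      Category.comp_id]
    exact h₀
  · apply G.U.isoSpec.hom.injective
    rw [← Scheme.Hom.comp_apply, ← Scheme.Hom.comp_apply, ← Scheme.isoSpec_inv_naturality_assoc, Iso.inv_hom_id,
      Category.comp_id]
    exact h₁

/-- The spectrum of the invariants is a quotient of an affine groupoid. -/
theorem isQ_toQuot : IsQ G.s G.t G.toQuot := by
  classical
  haveI := isIntegralHom_toQuot G
  let p := G.toQuot
  let Y := Spec (CommRingCat.of G.invariants)
  have hw := s_toQuot G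
  have hinj : Function.Injective (p.app ⊤).hom := by
    change Function.Injective G.toQuot.appTop.hom
    rw [toQuot_appTop]
    exact Subtype.val_injective.comp
      (ConcreteCategory.bijective_of_isIso (Scheme.ΓSpecIso (CommRingCat.of G.invariants)).hom).1
  have hsurj : ∀ x : Γ(G.U, ⊤), G.s.appTop.hom x = G.t.appTop.hom x → ∃ b, (p.app ⊤).hom b = x := by
    intro x hx
    refine ⟨(Scheme.ΓSpecIso (CommRingCat.of G.invariants)).inv.hom ⟨x, hx⟩, ?_⟩
    change G.toQuot.appTop.hom _ = x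
    rw [toQuot_appTop, CommRingCat.comp_apply, Iso.inv_hom_id_apply]
    rfl
  have hsec := sections_of_basis (s := G.s) (t := G.t) (p := p) _ (isBasis_basicOpen Y) ?_ ?_
  · exact ⟨hw, inferInstance, (surjective_toQuot G).surj, toQuot_fibre G, hsec.1, hsec.2⟩
  all_goals rintro _ ⟨a, rfl⟩
  all_goals
    let V := Y.basicOpen a
    let j : p ⁻¹ᵁ V ⟶ ⊤ := homOfLE le_top
    let i : V ⟶ ⊤ := homOfLE le_top
    let c : Γ(G.U, ⊤) := (p.app ⊤).hom a
    letI algY : Algebra Γ(Y, ⊤) Γ(Y, V) := (Y.presheaf.map i.op).hom.toAlgebra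
    letI algX : Algebra Γ(G.U, ⊤) Γ(G.U, p ⁻¹ᵁ V) := (G.U.presheaf.map j.op).hom.toAlgebra
    haveI : IsLocalization.Away a Γ(Y, V) := (isAffineOpen_top Y).isLocalization_of_eq_basicOpen a i rfl
    haveI : IsLocalization.Away c Γ(G.U, p ⁻¹ᵁ V) :=
      (isAffineOpen_top G.U).isLocalization_of_eq_basicOpen c j (Scheme.preimage_basicOpen p a)
    have hnat : ∀ b, (p.app V).hom (algebraMap Γ(Y, ⊤) Γ(Y, V) b) = algebraMap Γ(G.U, ⊤) Γ(G.U, p ⁻¹ᵁ V) ((p.app ⊤).hom b) :=
      fun b => congrArg (fun φ : _ ⟶ _ => CommRingCat.Hom.hom φ b) (Scheme.Hom.naturality p i.op)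
  · rw [injective_iff_map_eq_zero]
    intro x hx
    obtain ⟨⟨b, ⟨_, n, rfl⟩⟩, hb⟩ := IsLocalization.surj (Submonoid.powers a) x
    have h0 : algebraMap Γ(G.U, ⊤) Γ(G.U, p ⁻¹ᵁ V) ((p.app ⊤).hom b) = 0 := by
      rw [← hnat, ← hb, map_mul, hx, zero_mul]
    obtain ⟨⟨_, m, rfl⟩, hm⟩ := (IsLocalization.map_eq_zero_iff (Submonoid.powers c) _ _).1 h0
    refine (IsLocalization.Away.algebraMap_pow_isUnit (S := Γ(Y, V)) a n).mul_left_eq_zero.1 ?_
    rw [← map_pow, hb, IsLocalization.map_eq_zero_iff (Submonoid.powers a)]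
    refine ⟨⟨_, m, rfl⟩, hinj ?_⟩
    rw [map_mul, map_zero, map_pow]
    exact hm
  · intro x hx
    obtain ⟨⟨b, ⟨_, n, rfl⟩⟩, hb⟩ := IsLocalization.surj (Submonoid.powers c) x
    dsimp only at hb
    let O : G.R.Opens := G.s ⁻¹ᵁ (p ⁻¹ᵁ V)
    have ht : O ≤ G.t ⁻¹ᵁ (p ⁻¹ᵁ V) := fun r hr => by
      change (G.t ≫ p) r ∈ V
      rw [← hw]
      exact hr
    let σc := G.s.appTop.hom c
    have hO : O = G.R.basicOpen σc := by
      change G.s ⁻¹ᵁ (p ⁻¹ᵁ Y.basicOpen a) = _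
      rw [Scheme.preimage_basicOpen p a, Scheme.preimage_basicOpen_top]
    let k : O ⟶ ⊤ := homOfLE le_top
    letI algR : Algebra Γ(G.R, ⊤) Γ(G.R, O) := (G.R.presheaf.map k.op).hom.toAlgebra
    haveI : IsLocalization.Away σc Γ(G.R, O) := (isAffineOpen_top G.R).isLocalization_of_eq_basicOpen σc k hO
    have hσ : ∀ (f : G.R ⟶ G.U) (e : O ≤ f ⁻¹ᵁ (p ⁻¹ᵁ V)) (z : Γ(G.U, ⊤)),
        (f.appLE (p ⁻¹ᵁ V) O e).hom (algebraMap _ _ z) = algebraMap _ Γ(G.R, O) (f.appTop.hom z) := fun f e z => by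
      have h1 : G.U.presheaf.map j.op ≫ f.appLE (p ⁻¹ᵁ V) O e = f.appTop ≫ G.R.presheaf.map k.op := by
        rw [Scheme.Hom.map_appLE]; rfl
      exact congrArg (fun φ : _ ⟶ _ => CommRingCat.Hom.hom φ z) h1
    have hc : σc = G.t.appTop.hom c := appTop_eq hw a
    have h := hx O le_rfl ht
    have h1 : algebraMap _ Γ(G.R, O) (G.s.appTop.hom b) = algebraMap _ _ (G.t.appTop.hom b) := by
      rw [← hσ G.s le_rfl, ← hσ G.t ht, ← hb, map_mul, map_mul, h, hσ G.s le_rfl, hσ G.t ht, map_pow, map_pow,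
        show G.s.appTop.hom c = G.t.appTop.hom c from hc]
      simp only [V, map_pow]
    obtain ⟨⟨_, m, rfl⟩, hm⟩ := (IsLocalization.eq_iff_exists (Submonoid.powers σc) _).1 h1
    obtain ⟨b', hb'⟩ := hsurj (c ^ m * b) (by
      rw [map_mul, map_pow, map_mul, map_pow, ← hc]
      exact hm)
    refine ⟨IsLocalization.mk' Γ(Y, V) b' (⟨a ^ (n + m), _, rfl⟩ : Submonoid.powers a), ?_⟩
    refine (IsUnit.mul_left_inj ((IsLocalization.Away.algebraMap_pow_isUnit (S := Γ(G.U, p ⁻¹ᵁ V)) c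
      (n + m)))).1 ?_
    have h2 := congrArg (p.app V).hom (IsLocalization.mk'_spec Γ(Y, V) b'
      (⟨a ^ (n + m), _, rfl⟩ : Submonoid.powers a))
    rw [map_mul, hnat, hnat, map_pow] at h2
    rw [← map_pow]
    refine h2.trans ?_
    rw [hb', map_mul, ← hb]
    simp only [V, map_pow, map_mul, pow_add]
    ring

end Groth.Agent.FinGrpdLib
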