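import Mathlib
/-!
Rings with a finite projective groupoid: invariance of determinants, integrality over the invariants and
the description of points of the invariants with values in algebraically closed fields.
-/

set_option autoImplicit false
universe u

open CategoryTheory Matrix TensorProduct

namespace Groth.Agent.FinGrpdLib

/-- The rings of an affine groupoid with finite projective source map. -/
structure Data (B C D : Type u) [CommRing B] [CommRing C] [CommRing D] where
  σ : B →+* C
  τ : B →+* C
  p₁ : C →+* D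
  p₂ : C →+* D
  γ : C →+* D
  ε : C →+* B
  hεσ : ∀ x, ε (σ x) = x
  hετ : ∀ x, ε (τ x) = x
  hγσ : ∀ x, γ (σ x) = p₂ (σ x)
  hγτ : ∀ x, γ (τ x) = p₁ (τ x)
  hp : ∀ x, p₁ (σ x) = p₂ (τ x)
  finite : σ.Finite
  flat : σ.Flat
  finitePresentation : σ.FinitePresentation
  left : IsPushout (CommRingCat.ofHom σ) (CommRingCat.ofHom τ) (CommRingCat.ofHom p₁) (CommRingCat.ofHom p₂)
  shear : IsPushout (CommRingCat.ofHom σ) (CommRingCat.ofHom σ) (CommRingCat.ofHom γ) (CommRingCat.ofHom p₂)

/-- Finite sums presenting a finite projective algebra. -/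
theorem exists_coords {B C : Type u} [CommRing B] [CommRing C] (σ : B →+* C) (h₁ : σ.Finite) (h₂ : σ.Flat)
    (h₃ : σ.FinitePresentation) :
    ∃ (n : ℕ) (v : Fin n → C) (l : Fin n → C →+ B), (∀ i a x, l i (σ a * x) = a * l i x) ∧
      ∀ x, ∑ i, σ (l i x) * v i = x := by
  let _ : Algebra B C := σ.toAlgebra
  haveI : Module.Finite B C := h₁
  haveI : Module.Flat B C := h₂
  haveI : Algebra.FinitePresentation B C := h₃
  haveI : Module.FinitePresentation B C := Module.FinitePresentation.of_finite_of_finitePresentation B C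
  haveI : Module.Projective B C := Module.Flat.projective_of_finitePresentation
  obtain ⟨n, π, ι, -, -, hπι⟩ := Module.Finite.exists_comp_eq_id_of_projective B C
  refine ⟨n, fun i => π (Pi.single i 1), fun i => ((LinearMap.proj i).comp ι).toAddMonoidHom, fun i a x => ?_, fun x => ?_⟩
  · change ι (a • x) i = a * ι x i
    rw [map_smul]; rfl
  · change ∑ i, ι x i • π (Pi.single i 1) = x
    conv_rhs => rw [← LinearMap.id_apply (R := B) x, ← hπι, LinearMap.comp_apply, pi_eq_sum_univ' (ι x), map_sum]
    exact Finset.sum_congr rfl fun i _ => by rw [map_smul]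

/-- Coordinates after base change. -/
theorem exists_baseChange_coords {B B' C D : Type u} [CommRing B] [CommRing B'] [CommRing C] [CommRing D]
    {σ : B →+* C} {f : B →+* B'} {g : C →+* D} {f' : B' →+* D}
    (h : IsPushout (CommRingCat.ofHom σ) (CommRingCat.ofHom f) (CommRingCat.ofHom g) (CommRingCat.ofHom f'))
    {n : ℕ} {v : Fin n → C} {l : Fin n → C →+ B} (hl : ∀ i a x, l i (σ a * x) = a * l i x)
    (hv : ∀ x, ∑ i, σ (l i x) * v i = x) :
    ∃ μ : Fin n → D →+ B', (∀ i a w, μ i (f' a * w) = a * μ i w) ∧ (∀ i x, μ i (g x) = f (l i x)) ∧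
      ∀ w, ∑ i, f' (μ i w) * g (v i) = w := by
  let _ : Algebra B C := σ.toAlgebra
  let _ : Algebra B B' := f.toAlgebra
  let _ : Algebra B' D := f'.toAlgebra
  let _ : Algebra C D := g.toAlgebra
  let _ : Algebra B D := (f'.comp f).toAlgebra
  haveI : IsScalarTower B B' D := .of_algebraMap_eq fun _ => rfl
  have hcomm : ∀ b, f' (f b) = g (σ b) := fun b =>
    (congrArg (fun φ => φ.hom b) h.w).symm
  haveI : IsScalarTower B C D := .of_algebraMap_eq fun b => hcomm b
  haveI : Algebra.IsPushout B B' C D := CommRingCat.isPushout_iff_isPushout.1 h.flip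
  have hb : IsBaseChange B' (IsScalarTower.toAlgHom B C D).toLinearMap := Algebra.IsPushout.out
  let lin : Fin n → C →ₗ[B] B' := fun i =>
    { toFun := fun x => f (l i x)
      map_add' := fun x y => by rw [map_add, map_add]
      map_smul' := fun a x => by
        change f (l i (σ a * x)) = f a * f (l i x)
        rw [hl, map_mul] }
  refine ⟨fun i => (hb.lift (lin i)).toAddMonoidHom, fun i a w => map_smul (hb.lift (lin i)) a w,
    fun i x => hb.lift_eq (lin i) x, fun w => ?_⟩
  induction w using hb.inductionOn with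
  | zero => simp
  | tmul x =>
    conv_rhs => rw [← hv x]
    change ∑ i, f' (hb.lift (lin i) ((IsScalarTower.toAlgHom B C D).toLinearMap x)) * g (v i) = g _
    rw [map_sum]
    refine Finset.sum_congr rfl fun i _ => ?_
    rw [hb.lift_eq, map_mul, ← hcomm]
    rfl
  | smul a w hw =>
    conv_rhs => rw [← hw, Finset.smul_sum]
    refine Finset.sum_congr rfl fun i _ => ?_
    change f' (hb.lift (lin i) (a • w)) * g (v i) = f' a * (f' (hb.lift (lin i) w) * g (v i))
    rw [map_smul, smul_eq_mul, map_mul, mul_assoc]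
  | add w w' hw hw' =>
    conv_rhs => rw [← hw, ← hw', ← Finset.sum_add_distrib]
    refine Finset.sum_congr rfl fun i _ => ?_
    rw [map_add, map_add, add_mul]

variable {B C D : Type u} [CommRing B] [CommRing C] [CommRing D] (G : Data B C D)

/-- The invariant functions. -/
def Data.inv : Subring B := RingHom.eqLocus G.σ G.τ

theorem Data.mem_inv {x : B} : x ∈ G.inv ↔ G.σ x = G.τ x := Iff.rfl

section Coords

variable {n : ℕ} (v : Fin n → C) (l : Fin n → C →+ B)

/-- The matrix of multiplication by an element. -/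
def mat (z : C) : Matrix (Fin n) (Fin n) B := Matrix.of fun i j => l i (z * v j)

variable {v l}

theorem mat_mul {σ : B →+* C} (hl : ∀ i a x, l i (σ a * x) = a * l i x) (hv : ∀ x, ∑ i, σ (l i x) * v i = x)
    (z w : C) : mat v l (z * w) = mat v l z * mat v l w := by
  ext i j
  rw [Matrix.mul_apply]
  simp only [mat, Matrix.of_apply]
  calc l i (z * w * v j) = l i (z * ∑ k, σ (l k (w * v j)) * v k) := by rw [hv, mul_assoc]
    _ = ∑ k, l k (w * v j) * l i (z * v k) := by
        rw [Finset.mul_sum, map_sum]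
        exact Finset.sum_congr rfl fun k _ => by rw [mul_left_comm, hl]
    _ = ∑ k, l i (z * v k) * l k (w * v j) := Finset.sum_congr rfl fun k _ => mul_comm _ _

theorem mat_add (z w : C) : mat v l (z + w) = mat v l z + mat v l w := by
  ext i j
  simp [mat, add_mul]

/-- The matrices at source and target are conjugate up to the idempotent. -/
theorem exists_conj (hl : ∀ i a x, l i (G.σ a * x) = a * l i x) (hv : ∀ x, ∑ i, G.σ (l i x) * v i = x) :
    ∃ U V : Matrix (Fin n) (Fin n) C, U * V = (mat v l 1).map G.σ ∧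
      ∀ b, (mat v l (G.τ b)).map G.τ = V * (mat v l (G.τ b)).map G.σ * U := by
  obtain ⟨μ, hμl, hμg, hμv⟩ := exists_baseChange_coords G.left hl hv
  obtain ⟨ν, hνl, hνg, hνv⟩ := exists_baseChange_coords G.shear hl hv
  refine ⟨Matrix.of fun i j => ν i (G.p₁ (v j)), Matrix.of fun i j => μ i (G.γ (v j)), ?_, fun b => ?_⟩
  · ext i j
    rw [Matrix.mul_apply, Matrix.map_apply]
    simp only [mat, Matrix.of_apply, one_mul]
    calc ∑ k, ν i (G.p₁ (v k)) * μ k (G.γ (v j)) = ν i (∑ k, G.p₂ (μ k (G.γ (v j))) * G.p₁ (v k)) := by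
          rw [map_sum]
          exact Finset.sum_congr rfl fun k _ => by rw [hνl, mul_comm]
      _ = G.σ (l i (v j)) := by rw [hμv, hνg]
  · ext i j
    set z := G.τ b with hz
    simp only [Matrix.mul_apply, Matrix.map_apply, mat, Matrix.of_apply]
    have hγz : G.γ z = G.p₁ z := G.hγτ b
    calc G.τ (l i (z * v j)) = μ i (G.p₁ z * G.p₁ (v j)) := by rw [← map_mul, hμg]
      _ = μ i (∑ k, G.p₂ (ν k (G.p₁ (v j))) * G.γ (z * v k)) := by
          congr 1
          conv_lhs => rw [← hνv (G.p₁ (v j)), Finset.mul_sum]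
          exact Finset.sum_congr rfl fun k _ => by rw [map_mul, hγz]; ring
      _ = ∑ k, ν k (G.p₁ (v j)) * μ i (∑ m, G.p₂ (G.σ (l m (z * v k))) * G.γ (v m)) := by
          rw [map_sum]
          refine Finset.sum_congr rfl fun k _ => ?_
          rw [hμl]
          congr 2
          conv_lhs => rw [← hv (z * v k), map_sum]
          exact Finset.sum_congr rfl fun m _ => by rw [map_mul, G.hγσ]
      _ = ∑ k, (∑ m, μ i (G.γ (v m)) * G.σ (l m (z * v k))) * ν k (G.p₁ (v j)) := by
          refine Finset.sum_congr rfl fun k _ => ?_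
          rw [map_sum, mul_comm]
          congr 1
          exact Finset.sum_congr rfl fun m _ => by rw [hμl, mul_comm]

/-- Determinants of combinations of multiplications agree at source and target. -/
theorem det_eq (hl : ∀ i a x, l i (G.σ a * x) = a * l i x) (hv : ∀ x, ∑ i, G.σ (l i x) * v i = x)
    {C' : Type u} [CommRing C'] (h : C →+* C') {ι : Type*} [Fintype ι] (c : ι → C') (b : ι → B) :
    Matrix.det (∑ a, c a • (mat v l (G.τ (b a))).map (h.comp G.τ) + (1 - (mat v l 1).map (h.comp G.τ))) =
      Matrix.det (∑ a, c a • (mat v l (G.τ (b a))).map (h.comp G.σ) + (1 - (mat v l 1).map (h.comp G.σ))) := by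
  obtain ⟨U, V, hUV, hb⟩ := exists_conj G hl hv
  set M := fun z => (mat v l z).map (h.comp G.σ) with hM
  have hb' : ∀ b, (mat v l (G.τ b)).map (h.comp G.τ) = V.map h * M (G.τ b) * U.map h := fun b => by
    rw [RingHom.coe_comp, ← Matrix.map_map, hb, Matrix.map_mul, Matrix.map_mul]
    simp only [hM, RingHom.coe_comp, ← Matrix.map_map]
  have h1 : (mat v l 1).map (h.comp G.τ) = V.map h * M 1 * U.map h := by
    have := hb' 1
    rwa [map_one] at this
  have hUV' : U.map h * V.map h = M 1 := by
    rw [← Matrix.map_mul, hUV]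
    simp only [hM, RingHom.coe_comp, ← Matrix.map_map]
  have hE : ∀ z, M z * M 1 = M z := fun z => by
    simp only [hM]
    rw [← Matrix.map_mul, ← mat_mul hl hv, mul_one]
  simp only [hb', h1]
  have e : (∑ a, c a • (V.map h * M (G.τ (b a)) * U.map h) + (1 - V.map h * M 1 * U.map h)) =
      1 + V.map h * ((∑ a, c a • M (G.τ (b a)) - M 1) * U.map h) := by
    rw [Matrix.sub_mul, Matrix.mul_sub, Matrix.sum_mul, Matrix.mul_sum]
    simp only [Matrix.smul_mul, Matrix.mul_smul, Matrix.mul_assoc]
    abel
  rw [e, Matrix.det_one_add_mul_comm, Matrix.mul_assoc, hUV', Matrix.sub_mul, Matrix.sum_mul]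
  congr 1
  simp only [Matrix.smul_mul, hE]
  simp only [hM]
  abel

/-- The characteristic polynomial of multiplication by a target function is invariant. -/
theorem charpoly_map_eq (hl : ∀ i a x, l i (G.σ a * x) = a * l i x) (hv : ∀ x, ∑ i, G.σ (l i x) * v i = x)
    (b : B) : (mat v l (G.τ b)).charpoly.map G.σ = (mat v l (G.τ b)).charpoly.map G.τ := by
  obtain ⟨U, V, hUV, hb⟩ := exists_conj G hl hv
  rw [← Matrix.charpoly_map, ← Matrix.charpoly_map, hb, Matrix.mul_assoc, Matrix.charpoly_mul_comm,
    Matrix.mul_assoc, hUV, ← Matrix.map_mul, ← mat_mul hl hv, mul_one]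

end Coords

/-- The ring of a finite projective groupoid is integral over the invariants. -/
theorem Data.isIntegral_inv : Algebra.IsIntegral G.inv B := by
  obtain ⟨n, v, l, hl, hv⟩ := exists_coords G.σ G.finite G.flat G.finitePresentation
  refine ⟨fun b => ?_⟩
  let M := mat v l (G.τ b)
  have hcoef : ∀ k, M.charpoly.coeff k ∈ G.inv := fun k => by
    have := congrArg (fun q => Polynomial.coeff q k) (charpoly_map_eq G hl hv b)
    rwa [Polynomial.coeff_map, Polynomial.coeff_map] at this
  let row : Matrix (Fin 1) (Fin n) C := Matrix.of fun _ j => v j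
  have hrow : ∀ z, row * (mat v l z).map G.σ = z • row := fun z => by
    ext a j
    simp only [row, Matrix.mul_apply, Matrix.of_apply, Matrix.map_apply, mat, Matrix.smul_apply, smul_eq_mul]
    exact (Finset.sum_congr rfl fun i _ => mul_comm _ _).trans (hv _)
  have hpow : ∀ k : ℕ, row * (M.map G.σ) ^ k = G.τ b ^ k • row := fun k => by
    induction k with
    | zero => simp
    | succ k ih => rw [pow_succ, ← Matrix.mul_assoc, ih, Matrix.smul_mul, hrow, smul_smul, pow_succ]
  let p := (M.map G.σ).charpoly
  have hp : Polynomial.eval (G.τ b) p • row = row * Polynomial.aeval (M.map G.σ) p := by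
    rw [Polynomial.eval_eq_sum_range, Polynomial.aeval_eq_sum_range, Finset.sum_smul, Matrix.mul_sum]
    refine Finset.sum_congr rfl fun k _ => ?_
    rw [Matrix.mul_smul, hpow, smul_smul]
  rw [Matrix.aeval_self_charpoly, Matrix.mul_zero] at hp
  have hpz : Polynomial.eval (G.τ b) p = 0 := by
    have h1 : ∑ j, G.σ (l j 1) * (Polynomial.eval (G.τ b) p * v j) = Polynomial.eval (G.τ b) p := by
      calc _ = Polynomial.eval (G.τ b) p * ∑ j, G.σ (l j 1) * v j := by
            rw [Finset.mul_sum]; exact Finset.sum_congr rfl fun j _ => by ring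
        _ = _ := by rw [hv, mul_one]
    rw [← h1]
    refine Finset.sum_eq_zero fun j _ => ?_
    have := congrFun (congrFun hp 0) j
    simp only [row, Matrix.smul_apply, Matrix.of_apply, smul_eq_mul, Matrix.zero_apply] at this
    rw [this, mul_zero]
  have hB : Polynomial.eval b M.charpoly = 0 := by
    have := congrArg G.ε hpz
    rw [map_zero] at this
    simp only [p, Matrix.charpoly_map, charpoly_map_eq G hl hv b, M, Polynomial.eval_map_apply] at this
    rwa [G.hετ] at this
  rcases subsingleton_or_nontrivial B with hB' | hB'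
  · exact ⟨Polynomial.X, Polynomial.monic_X, Subsingleton.elim _ _⟩
  have hlift : M.charpoly ∈ Polynomial.lifts (algebraMap G.inv B) :=
    (Polynomial.lifts_iff_coeff_lifts _).2 fun k => ⟨⟨_, hcoef k⟩, rfl⟩
  obtain ⟨q, hq, -, hmonic⟩ := Polynomial.lifts_and_degree_eq_and_monic hlift (Matrix.charpoly_monic M)
  exact ⟨q, hmonic, by rw [← Polynomial.eval_map, hq]; exact hB⟩

/-- Vanishing of the determinant at a point of an algebraically closed field. -/
theorem det_eq_zero_iff {k : Type u} [Field k] [IsAlgClosed k] (x : B →+* k) {n : ℕ} {v : Fin n → C}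
    {l : Fin n → C →+ B} (σ : B →+* C) (hl : ∀ i a y, l i (σ a * y) = a * l i y)
    (hv : ∀ y, ∑ i, σ (l i y) * v i = y) {ι : Type*} [Fintype ι] (c : ι → k) (z : ι → C) :
    Matrix.det (∑ a, c a • (mat v l (z a)).map x + (1 - (mat v l 1).map x)) = 0 ↔
      ∃ g : C →+* k, g.comp σ = x ∧ ∑ a, c a * g (z a) = 0 := by
  classical
  set M := ∑ a, c a • (mat v l (z a)).map x + (1 - (mat v l 1).map x) with hM
  have hsum : ∀ (u : Fin n → k) (w : C) (j : Fin n),
      (u ᵥ* (mat v l w).map x) j = ∑ i, u i * x (l i (w * v j)) := fun u w j => rfl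
  rw [← Matrix.exists_vecMul_eq_zero_iff]
  constructor
  · rintro ⟨u, hu, hu0⟩
    let _ : Algebra B C := σ.toAlgebra
    let _ : Algebra B k := x.toAlgebra
    haveI : Module.Finite B C := by
      refine ⟨⟨Finset.univ.image v, ?_⟩⟩
      rw [eq_top_iff]
      intro y _
      rw [← hv y]
      exact Submodule.sum_mem _ fun i _ => Submodule.smul_mem _ (l i y) (Submodule.subset_span (by simp))
    let f : C →ₗ[B] k :=
      { toFun := fun y => ∑ i, u i * x (l i y)
        map_add' := fun y y' => by simp [map_add, mul_add, Finset.sum_add_distrib]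
        map_smul' := fun a y => by
          change ∑ i, u i * x (l i (σ a * y)) = x a * ∑ i, u i * x (l i y)
          rw [Finset.mul_sum]
          exact Finset.sum_congr rfl fun i _ => by rw [hl, map_mul]; ring }
    let F : k ⊗[B] C →ₗ[k] k := f.liftBaseChange k
    have hE : ∀ w, (mat v l w).map x * (mat v l 1).map x = (mat v l w).map x := fun w => by
      rw [← Matrix.map_mul, ← mat_mul hl hv, mul_one]
    have h1 : u ᵥ* (∑ a, c a • (mat v l (z a)).map x) = 0 := by
      have h := congrArg (fun w => w ᵥ* (mat v l 1).map x) hu0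
      simp only [Matrix.vecMul_vecMul, Matrix.zero_vecMul, hM, Matrix.add_mul, Matrix.sub_mul, Matrix.one_mul, hE,
        sub_self, add_zero, Matrix.sum_mul, Matrix.smul_mul] at h
      exact h
    have h2 : u ᵥ* (mat v l 1).map x = u := by
      have h := hu0
      rw [hM, Matrix.vecMul_add, h1, zero_add, Matrix.vecMul_sub, Matrix.vecMul_one, sub_eq_zero] at h
      exact h.symm
    let Z : k ⊗[B] C := ∑ a, c a ⊗ₜ z a
    have hFZ : ∀ (r : k) (y : C), F ((r ⊗ₜ y) * Z) = 0 := by
      intro r y
      have hj : ∀ j, ∑ a, c a * f (z a * v j) = 0 := fun j => by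
        have := congrFun h1 j
        rw [Matrix.vecMul_sum, Finset.sum_apply] at this
        simp only [Matrix.vecMul_smul, Pi.smul_apply, hsum, smul_eq_mul, Pi.zero_apply] at this
        exact this
      have hy : ∑ a, c a * f (z a * y) = 0 := by
        calc ∑ a, c a * f (z a * y) = ∑ a, c a * f (∑ j, (l j y) • (z a * v j)) := by
              refine Finset.sum_congr rfl fun a _ => ?_
              conv_lhs => rw [← hv y, Finset.mul_sum]
              congr 2
              exact Finset.sum_congr rfl fun j _ => by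
                change z a * (σ (l j y) * v j) = σ (l j y) * (z a * v j); ring
          _ = ∑ j, x (l j y) * ∑ a, c a * f (z a * v j) := by
              simp only [map_sum, Finset.mul_sum]
              rw [Finset.sum_comm]
              refine Finset.sum_congr rfl fun j _ => Finset.sum_congr rfl fun a _ => ?_
              rw [map_smul, Algebra.smul_def]
              change c a * (x (l j y) * f (z a * v j)) = x (l j y) * (c a * f (z a * v j))
              ring
          _ = 0 := Finset.sum_eq_zero fun j _ => by rw [hj, mul_zero]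
      rw [Finset.mul_sum, map_sum]
      calc ∑ a, F ((r ⊗ₜ y) * (c a ⊗ₜ z a)) = ∑ a, r * (c a * f (z a * y)) := by
            refine Finset.sum_congr rfl fun a _ => ?_
            rw [Algebra.TensorProduct.tmul_mul_tmul, LinearMap.liftBaseChange_tmul, smul_eq_mul, mul_comm y, mul_assoc]
        _ = 0 := by rw [← Finset.mul_sum, hy, mul_zero]
    have hnu : ¬ IsUnit Z := by
      intro hZ
      obtain ⟨w, hw⟩ := hZ.exists_left_inv
      apply hu
      funext j
      have e : f (v j) = u j := by
        have := congrFun h2 j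
        rw [hsum] at this
        simpa [f] using this
      have hz : ∀ w' : k ⊗[B] C, F (w' * Z) = 0 := fun w' => by
        induction w' with
        | zero => simp
        | tmul r y => exact hFZ r y
        | add p q hp hq => rw [add_mul, map_add, hp, hq, add_zero]
      have := hz ((1 ⊗ₜ v j) * w)
      rw [mul_assoc, hw, mul_one, LinearMap.liftBaseChange_tmul, one_smul, e] at this
      exact this
    obtain ⟨m, hm, hZm⟩ := exists_max_ideal_of_mem_nonunits hnu
    haveI := hm
    let _ : Field ((k ⊗[B] C) ⧸ m) := Ideal.Quotient.field m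
    haveI : Algebra.IsIntegral k ((k ⊗[B] C) ⧸ m) := Algebra.IsIntegral.of_finite k _
    let e : ((k ⊗[B] C) ⧸ m) ≃ₐ[k] k :=
      (AlgEquiv.ofBijective (Algebra.ofId k _) IsAlgClosed.algebraMap_bijective_of_isIntegral).symm
    let g' : k ⊗[B] C →ₐ[k] k := e.toAlgHom.comp (Ideal.Quotient.mkₐ k m)
    refine ⟨g'.toRingHom.comp Algebra.TensorProduct.includeRight.toRingHom, ?_, ?_⟩
    · ext a
      change g' (1 ⊗ₜ algebraMap B C a) = algebraMap B k a
      rw [← Algebra.TensorProduct.tmul_one_eq_one_tmul a,
        show (algebraMap B k a ⊗ₜ[B] (1 : C)) = algebraMap k (k ⊗[B] C) (algebraMap B k a) from rfl, AlgHom.commutes]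
      rfl
    · change ∑ a, c a * g' (1 ⊗ₜ z a) = 0
      have : g' Z = 0 := by
        change e (Ideal.Quotient.mk m Z) = 0
        rw [Ideal.Quotient.eq_zero_iff_mem.2 hZm, map_zero]
      rw [map_sum] at this
      rw [← this]
      refine Finset.sum_congr rfl fun a _ => ?_
      rw [show c a ⊗ₜ[B] z a = c a • ((1 : k) ⊗ₜ[B] z a) by rw [TensorProduct.smul_tmul', smul_eq_mul, mul_one],
        map_smul, smul_eq_mul]
  · rintro ⟨g, hg, hgz⟩
    refine ⟨fun i => g (v i), fun h0 => ?_, ?_⟩
    · have := congrArg g (hv 1)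
      rw [map_sum, map_one] at this
      simp only [map_mul, show ∀ i, g (v i) = 0 from congrFun h0, mul_zero, Finset.sum_const_zero] at this
      exact zero_ne_one this
    · have key : ∀ w, (fun i => g (v i)) ᵥ* (mat v l w).map x = g w • fun i => g (v i) := fun w => by
        funext j
        rw [hsum, Pi.smul_apply, smul_eq_mul, ← map_mul]
        conv_rhs => rw [← hv (w * v j), map_sum]
        refine Finset.sum_congr rfl fun i _ => ?_
        rw [map_mul g, show g (σ (l i (w * v j))) = x (l i (w * v j)) from RingHom.congr_fun hg _, mul_comm]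
      rw [hM, Matrix.vecMul_add, Matrix.vecMul_sub, Matrix.vecMul_one, key 1, map_one, one_smul, sub_self, add_zero,
        Matrix.vecMul_sum]
      simp only [Matrix.vecMul_smul, key, smul_smul, ← Finset.sum_smul, hgz, zero_smul]

/-- A finite set of nonzero linear forms over an infinite field misses some vector of a hyperplane. -/
theorem exists_sum_eq_zero {k : Type u} [Field k] [Infinite k] {ι : Type*} [Fintype ι] [DecidableEq ι] (o : ι)
    (w : ι → k) (hw : w o = 1) (S : Finset (ι → k)) (hS : ∀ g ∈ S, g o = 1 ∧ g ≠ w) :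
    ∃ c : ι → k, ∑ a, c a * w a = 0 ∧ ∀ g ∈ S, ∑ a, c a * g a ≠ 0 := by
  classical
  let H : (ι → k) →ₗ[k] (ι → k) := LinearMap.pi fun a =>
    if a = o then -∑ b ∈ Finset.univ.erase o, w b • LinearMap.proj b else LinearMap.proj a
  have hH : ∀ (d : ι → k) (g : ι → k), g o = 1 → ∑ a, H d a * g a = ∑ b ∈ Finset.univ.erase o, d b * (g b - w b) := by
    intro d g hg
    have hsplit := Finset.add_sum_erase Finset.univ (fun a => H d a * g a) (Finset.mem_univ o)
    rw [← hsplit, show H d o = -∑ b ∈ Finset.univ.erase o, w b * d b by simp [H], hg, mul_one]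
    rw [← sub_eq_neg_add, ← Finset.sum_sub_distrib]
    refine Finset.sum_congr rfl fun b hb => ?_
    have hbo : b ≠ o := Finset.ne_of_mem_erase hb
    simp [H, hbo]
    ring
  let P : MvPolynomial ι k := ∏ g ∈ S, ∑ b ∈ Finset.univ.erase o, MvPolynomial.C (g b - w b) * MvPolynomial.X b
  have hP : P ≠ 0 := Finset.prod_ne_zero_iff.2 fun g hg h => by
    obtain ⟨b, hb⟩ := Function.ne_iff.1 (hS g hg).2
    have hbo : b ≠ o := fun e => hb (by rw [e, (hS g hg).1, hw])
    have := congrArg (MvPolynomial.eval (Pi.single b 1)) h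
    simp only [map_sum, map_mul, MvPolynomial.eval_C, MvPolynomial.eval_X, map_zero] at this
    rw [Finset.sum_eq_single_of_mem b (by simp [hbo]) (fun a _ ha => by simp [Pi.single_eq_of_ne ha])] at this
    simp [sub_eq_zero, hb] at this
  obtain ⟨d, hd⟩ : ∃ d, MvPolynomial.eval d P ≠ 0 := by
    by_contra h
    push Not at h
    exact hP (MvPolynomial.funext fun d => by rw [h d, map_zero])
  refine ⟨H d, ?_, fun g hg h => ?_⟩
  · rw [hH d w hw]; simp
  · rw [hH d g (hS g hg).1] at h
    simp only [P, map_prod, Finset.prod_ne_zero_iff, map_sum, map_mul, MvPolynomial.eval_C, MvPolynomial.eval_X] at hd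
    exact hd g hg (by rw [← h]; exact Finset.sum_congr rfl fun b _ => mul_comm _ _)

/-- Two points with values in an algebraically closed field agreeing on invariants are related. -/
theorem Data.exists_point_of_eq {k : Type u} [Field k] [IsAlgClosed k] (x₀ x₁ : B →+* k)
    (h : ∀ a ∈ G.inv, x₀ a = x₁ a) : ∃ g : C →+* k, g.comp G.τ = x₀ ∧ g.comp G.σ = x₁ := by
  classical
  by_contra hne
  push Not at hne
  obtain ⟨n, v, l, hl, hv⟩ := exists_coords G.σ G.finite G.flat G.finitePresentation
  have hfin : {g : C →+* k | g.comp G.σ = x₁}.Finite := by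
    let _ : Algebra B C := G.σ.toAlgebra
    let _ : Algebra B k := x₁.toAlgebra
    haveI : Module.Finite B C := G.finite
    have : Finite (k ⊗[B] C →ₐ[k] k) := inferInstance
    refine Set.finite_coe_iff.1 (Finite.of_injective (fun g : {g : C →+* k | g.comp G.σ = x₁} =>
      (Algebra.TensorProduct.lift (Algebra.ofId k k)
        { g.1 with commutes' := fun a => RingHom.congr_fun g.2 a } fun _ _ => Commute.all _ _)) ?_)
    intro g g' e
    refine Subtype.ext (RingHom.ext fun y => ?_)
    have := DFunLike.congr_fun e (1 ⊗ₜ y)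
    rw [Algebra.TensorProduct.lift_tmul, Algebra.TensorProduct.lift_tmul, map_one, one_mul, one_mul] at this
    exact this
  have hb : ∀ g : C →+* k, g.comp G.σ = x₁ → ∃ b : B, g (G.τ b) ≠ x₀ b := fun g hg => by
    by_contra hc
    push Not at hc
    exact hne g (RingHom.ext hc) hg
  choose bad hbad using hb
  haveI := hfin.fintype
  let bs : Option ↥{g : C →+* k | g.comp G.σ = x₁} → B := fun o => o.elim 1 fun g => bad g.1 g.2
  let S : Finset (Option ↥{g : C →+* k | g.comp G.σ = x₁} → k) := Finset.univ.image fun (g : {g : C →+* k | g.comp G.σ = x₁}) a => g.1 (G.τ (bs a))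
  obtain ⟨c, hc0, hc⟩ := exists_sum_eq_zero none (fun a => x₀ (bs a)) (map_one x₀) S (by
    intro g hg
    obtain ⟨g', -, rfl⟩ := Finset.mem_image.1 hg
    refine ⟨by simp [bs], fun e => hbad g'.1 g'.2 ?_⟩
    exact congrFun e (some ⟨g'.1, g'.2⟩))
  let N : MvPolynomial (Option ↥{g : C →+* k | g.comp G.σ = x₁}) B := Matrix.det (∑ a, (MvPolynomial.X a : MvPolynomial (Option ↥{g : C →+* k | g.comp G.σ = x₁}) B) • (mat v l (G.τ (bs a))).map (MvPolynomial.C : B →+* MvPolynomial (Option ↥{g : C →+* k | g.comp G.σ = x₁}) B) +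
    (1 - (mat v l 1).map (MvPolynomial.C : B →+* MvPolynomial (Option ↥{g : C →+* k | g.comp G.σ = x₁}) B)))
  have hN : ∀ {R : Type u} [CommRing R] (φ : MvPolynomial (Option ↥{g : C →+* k | g.comp G.σ = x₁}) B →+* R), φ N =
      Matrix.det (∑ a, φ (MvPolynomial.X a) • (mat v l (G.τ (bs a))).map (φ.comp MvPolynomial.C) +
        (1 - (mat v l 1).map (φ.comp MvPolynomial.C))) := by
    intro R _ φ
    rw [RingHom.map_det]
    congr 1
    ext i j
    simp [Matrix.sum_apply, Matrix.one_apply, apply_ite φ]
  have hcoef : ∀ m, N.coeff m ∈ G.inv := fun m => by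
    have e : MvPolynomial.map G.τ N = MvPolynomial.map G.σ N := by
      rw [hN, hN]
      simp only [MvPolynomial.map_X]
      have hC : ∀ f : B →+* C, (MvPolynomial.map f).comp (MvPolynomial.C : B →+* MvPolynomial (Option ↥{g : C →+* k | g.comp G.σ = x₁}) B) = MvPolynomial.C.comp f :=
        fun f => RingHom.ext fun a => MvPolynomial.map_C _ _
      rw [hC, hC]
      exact det_eq G hl hv (MvPolynomial.C : C →+* MvPolynomial (Option ↥{g : C →+* k | g.comp G.σ = x₁}) C) MvPolynomial.X bs
    have := congrArg (MvPolynomial.coeff m) e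
    rw [MvPolynomial.coeff_map, MvPolynomial.coeff_map] at this
    exact this.symm
  have heval : ∀ x : B →+* k, MvPolynomial.eval₂ x c N =
      Matrix.det (∑ a, c a • (mat v l (G.τ (bs a))).map x + (1 - (mat v l 1).map x)) := fun x => by
    rw [← MvPolynomial.coe_eval₂Hom, hN]
    simp only [MvPolynomial.eval₂Hom_X']
    rw [show (MvPolynomial.eval₂Hom x c).comp MvPolynomial.C = x from RingHom.ext (MvPolynomial.eval₂Hom_C x c)]
  have hxx : MvPolynomial.eval₂ x₀ c N = MvPolynomial.eval₂ x₁ c N := by
    rw [MvPolynomial.eval₂_eq, MvPolynomial.eval₂_eq]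
    exact Finset.sum_congr rfl fun m _ => by rw [h _ (hcoef m)]
  rw [heval, heval] at hxx
  have hz₀ := (det_eq_zero_iff x₀ G.σ hl hv c (fun a => G.τ (bs a))).2 ⟨x₀.comp G.ε, RingHom.ext fun a => by simp [G.hεσ], by
    simp only [RingHom.comp_apply, G.hετ]; exact hc0⟩
  obtain ⟨g, hg, hg0⟩ := (det_eq_zero_iff x₁ G.σ hl hv c (fun a => G.τ (bs a))).1 (hxx ▸ hz₀)
  exact hc _ (Finset.mem_image.2 ⟨⟨g, hg⟩, Finset.mem_univ _, rfl⟩) hg0

end Groth.Agent.FinGrpdLib
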