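import Groth.Agent.FinGrpdLib.Alg
/-!
A finite projective equivalence relation on a ring: the ring is finite flat over the invariants and the
relation is the self tensor product over the invariants.
-/

set_option autoImplicit false
set_option maxHeartbeats 1000000
universe u

open CategoryTheory Matrix TensorProduct

namespace Groth.Agent.FinGrpdLib

/-- The rank of a matrix projection is the multiplicity of the root one of its characteristic polynomial. -/
theorem charpoly_idempotent {K : Type u} [Field K] {n : ℕ} (E : Matrix (Fin n) (Fin n) K) (hE : E * E = E) :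
    E.charpoly.rootMultiplicity 1 = Module.finrank K (LinearMap.range (Matrix.toLin' E)) := by
  set f := Matrix.toLin' E with hf
  have hproj : LinearMap.IsProj (LinearMap.range f) f :=
    ⟨fun x => LinearMap.mem_range_self f x, fun x hx => by
      obtain ⟨y, rfl⟩ := hx
      rw [← LinearMap.comp_apply, hf, ← Matrix.toLin'_mul, hE]⟩
  have h := hproj.eq_conj_prodMap
  have hc : f.charpoly = (Polynomial.X - 1) ^ Module.finrank K (LinearMap.range f) *
      Polynomial.X ^ Module.finrank K (LinearMap.ker f) := by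
    conv_lhs => rw [h]
    rw [LinearEquiv.charpoly_conj, LinearMap.charpoly_prodMap]
    congr 1
    · rw [show (LinearMap.id : LinearMap.range f →ₗ[K] LinearMap.range f) = 1 from rfl, LinearMap.charpoly_one]
    · exact LinearMap.charpoly_zero
  have he : f.charpoly = E.charpoly := Matrix.charpoly_toLin' E
  rw [← he, hc, show (Polynomial.X - 1 : Polynomial K) = Polynomial.X - Polynomial.C 1 by rw [map_one],
    Polynomial.rootMultiplicity_mul (mul_ne_zero
    (pow_ne_zero _ (Polynomial.monic_X_sub_C 1).ne_zero) (pow_ne_zero _ Polynomial.X_ne_zero)),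
    Polynomial.rootMultiplicity_X_sub_C_pow,
    Polynomial.rootMultiplicity_eq_zero (by simp), add_zero]

/-- Over a field, an idempotent matrix has a basis of its image among combinations of spanning vectors. -/
theorem exists_block_ne_zero {K : Type u} [Field K] {n d : ℕ} (E : Matrix (Fin n) (Fin n) K) (hE : E * E = E)
    (hd : E.charpoly.rootMultiplicity 1 = d) {κ : Type u} [Fintype κ] (w : κ → Fin n → K)
    (hspan : ∀ a, Matrix.mulVec E (Pi.single a 1) ∈ Submodule.span K (Set.range w)) :
    ∃ (T : κ → Fin d → K) (R : Matrix (Fin d) (Fin n) K),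
      Matrix.det (Matrix.fromBlocks (0 : Matrix (Fin d) (Fin d) K) R
        (Matrix.of fun a b => ∑ i, T i b * w i a) (1 - E)) ≠ 0 := by
  classical
  rw [charpoly_idempotent E hE] at hd
  let f := Matrix.toLin' E
  let β : Module.Basis (Fin d) K (LinearMap.range f) := Module.finBasisOfFinrankEq K _ hd
  have hfE : ∀ y, E *ᵥ y = f y := fun y => (Matrix.toLin'_apply E y).symm
  have hmem : ∀ y, E *ᵥ y ∈ Submodule.span K (Set.range w) := fun y => by
    rw [hfE, pi_eq_sum_univ' y, map_sum]
    refine Submodule.sum_mem _ fun a _ => ?_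
    rw [map_smul, ← hfE]
    exact Submodule.smul_mem _ _ (hspan a)
  have hfix : ∀ z : LinearMap.range f, E *ᵥ (z : Fin n → K) = z := by
    rintro ⟨z, y, rfl⟩
    change E *ᵥ f y = f y
    rw [← hfE, Matrix.mulVec_mulVec, hE]
  have hT : ∀ b, ∃ T : κ → K, ∑ i, T i • w i = (β b : Fin n → K) := fun b =>
    Submodule.mem_span_range_iff_exists_fun K |>.1 (by rw [← hfix]; exact hmem _)
  choose T hT using hT
  let ρ : (Fin n → K) →ₗ[K] (Fin d → K) := β.equivFun.toLinearMap.comp f.rangeRestrict
  refine ⟨fun i b => T b i, LinearMap.toMatrix' ρ, fun h0 => ?_⟩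
  obtain ⟨v, hv, hv0⟩ := Matrix.exists_mulVec_eq_zero_iff.2 h0
  apply hv
  rw [Matrix.fromBlocks_mulVec] at hv0
  have hR : ρ (v ∘ Sum.inr) = 0 := by
    funext b
    simpa [LinearMap.toMatrix'_mulVec] using congrFun hv0 (Sum.inl b)
  set Y : Matrix (Fin n) (Fin d) K := Matrix.of fun a b => ∑ i, T b i * w i a with hY
  have hY2 : Y *ᵥ (v ∘ Sum.inl) + (1 - E) *ᵥ (v ∘ Sum.inr) = 0 := by
    funext a
    exact congrFun hv0 (Sum.inr a)
  have hYv : Y *ᵥ (v ∘ Sum.inl) = ∑ b, v (Sum.inl b) • (β b : Fin n → K) := by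
    funext a
    rw [Finset.sum_apply]
    simp only [Matrix.mulVec, dotProduct]
    refine Finset.sum_congr rfl fun b _ => ?_
    change (∑ i, T b i * w i a) * v (Sum.inl b) = v (Sum.inl b) * (β b : Fin n → K) a
    rw [mul_comm, ← hT b, Finset.sum_apply]
    rfl
  have hEY : E *ᵥ (Y *ᵥ (v ∘ Sum.inl)) = Y *ᵥ (v ∘ Sum.inl) := by
    rw [hYv, Matrix.mulVec_sum]
    exact Finset.sum_congr rfl fun b _ => by rw [Matrix.mulVec_smul, hfix]
  have hE1 : E *ᵥ ((1 - E) *ᵥ (v ∘ Sum.inr)) = 0 := by
    rw [Matrix.mulVec_mulVec, Matrix.mul_sub, Matrix.mul_one, hE, sub_self, Matrix.zero_mulVec]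
  have hYz : Y *ᵥ (v ∘ Sum.inl) = 0 := by
    have := congrArg (fun z => E *ᵥ z) hY2
    simp only [Matrix.mulVec_add, Matrix.mulVec_zero, hEY, hE1, add_zero] at this
    exact this
  have ha : v ∘ Sum.inl = 0 := by
    rw [hYv] at hYz
    have : ∑ b, v (Sum.inl b) • β b = 0 := Subtype.ext (by rw [Submodule.coe_sum]; simpa using hYz)
    exact funext (Fintype.linearIndependent_iff.1 β.linearIndependent _ this)
  have hb : v ∘ Sum.inr = 0 := by
    rw [hYz, zero_add, Matrix.sub_mulVec, Matrix.one_mulVec, sub_eq_zero] at hY2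
    have h1 : f.rangeRestrict (v ∘ Sum.inr) = 0 := β.equivFun.map_eq_zero_iff.1 hR
    rw [hY2, hfE]
    exact congrArg Subtype.val h1
  funext s
  rcases s with b | a
  · exact congrFun ha b
  · exact congrFun hb a

/-- Injectivity can be tested after flat base changes that do not kill a maximal ideal. -/
theorem injective_of_forall {A : Type u} [CommRing A] {M N : Type u} [AddCommGroup M] [Module A M]
    [AddCommGroup N] [Module A N] (f : M →ₗ[A] N)
    (H : ∀ m : Ideal A, m.IsMaximal → ∃ (R : Type u) (_ : CommRing R) (_ : Algebra A R),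
      Module.Flat A R ∧ m.map (algebraMap A R) ≠ ⊤ ∧ Function.Injective (f.lTensor R)) :
    Function.Injective f := by
  rw [injective_iff_map_eq_zero]
  intro x hx
  by_contra hx0
  let I : Ideal A := LinearMap.ker (LinearMap.toSpanSingleton A M x)
  have hI : I ≠ ⊤ := fun h => hx0 (by
    have : (1 : A) ∈ I := h ▸ Submodule.mem_top
    simpa [I] using this)
  obtain ⟨m, hm, hIm⟩ := I.exists_le_maximal hI
  obtain ⟨R, _, _, hflat, hne, hinj⟩ := H m hm
  let j : (A ⧸ I) →ₗ[A] M := Submodule.liftQ I (LinearMap.toSpanSingleton A M x) le_rfl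
  have hj : Function.Injective j := by
    rw [← LinearMap.ker_eq_bot]
    exact Submodule.ker_liftQ_eq_bot _ _ _ le_rfl
  have h1 : (1 : R) ⊗ₜ[A] Ideal.Quotient.mk I 1 = 0 := by
    apply Module.Flat.lTensor_preserves_injective_linearMap (M := R) j hj
    apply hinj
    rw [LinearMap.lTensor_tmul, LinearMap.lTensor_tmul, map_zero, map_zero]
    change (1 : R) ⊗ₜ[A] f ((1 : A) • x) = 0
    rw [one_smul, hx, TensorProduct.tmul_zero]
  apply hne
  have hle : I.map (algebraMap A R) ≤ m.map (algebraMap A R) := Ideal.map_mono hIm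
  rw [Ideal.eq_top_iff_one]
  apply hle
  have h2 := congrArg (Algebra.TensorProduct.lift (Ideal.Quotient.mkₐ A (I.map (algebraMap A R)))
    (Ideal.Quotient.liftₐ I (Algebra.ofId A (R ⧸ I.map (algebraMap A R))) (fun a ha => by
      change algebraMap A (R ⧸ I.map (algebraMap A R)) a = 0
      rw [IsScalarTower.algebraMap_apply A R, Ideal.Quotient.algebraMap_eq, Ideal.Quotient.eq_zero_iff_mem]
      exact Ideal.mem_map_of_mem _ ha)) fun _ _ => Commute.all _ _) h1
  rw [Algebra.TensorProduct.lift_tmul, map_zero] at h2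
  simp only [map_one, one_mul] at h2
  exact Ideal.Quotient.eq_zero_iff_mem.1 ((map_one _).trans (h2 : (1 : R ⧸ I.map (algebraMap A R)) = 0))

/-- Surjectivity can be tested in the same way. -/
theorem surjective_of_forall {A : Type u} [CommRing A] {M N : Type u} [AddCommGroup M] [Module A M]
    [AddCommGroup N] [Module A N] (f : M →ₗ[A] N)
    (H : ∀ m : Ideal A, m.IsMaximal → ∃ (R : Type u) (_ : CommRing R) (_ : Algebra A R),
      Module.Flat A R ∧ m.map (algebraMap A R) ≠ ⊤ ∧ Function.Surjective (f.lTensor R)) :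
    Function.Surjective f := by
  let q := (LinearMap.range f).mkQ
  have hz : Function.Injective (0 : (N ⧸ LinearMap.range f) →ₗ[A] N) := by
    refine injective_of_forall _ fun m hm => ?_
    obtain ⟨R, i₁, i₂, hflat, hne, hsurj⟩ := H m hm
    refine ⟨R, i₁, i₂, hflat, hne, ?_⟩
    have : Subsingleton (R ⊗[A] (N ⧸ LinearMap.range f)) := by
      refine ⟨fun a b => ?_⟩
      have hall : ∀ a : R ⊗[A] (N ⧸ LinearMap.range f), a = 0 := fun a => by
        obtain ⟨a, rfl⟩ := LinearMap.lTensor_surjective R (Submodule.mkQ_surjective (LinearMap.range f)) a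
        obtain ⟨b, rfl⟩ := hsurj a
        rw [← LinearMap.comp_apply, ← LinearMap.lTensor_comp, show q.comp f = 0 from LinearMap.ext fun x =>
          (Submodule.Quotient.mk_eq_zero _).2 (LinearMap.mem_range_self f x), LinearMap.lTensor_zero, LinearMap.zero_apply]
      rw [hall a, hall b]
    exact Function.injective_of_subsingleton _
  intro y
  exact (Submodule.Quotient.mk_eq_zero _).1 (hz (a₁ := Submodule.Quotient.mk y) (a₂ := 0) (by simp))

/-- The invariants of an equivalence relation, as a base ring. -/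
structure EqvData (A B C D : Type u) [CommRing A] [CommRing B] [CommRing C] [CommRing D] [Algebra A B]
    extends Data B C D where
  inj : Function.Injective (algebraMap A B)
  mem_range : ∀ x, σ x = τ x ↔ x ∈ Set.range (algebraMap A B)
  span : ∀ z : C, ∃ (k : ℕ) (a b : Fin k → B), z = ∑ i, σ (a i) * τ (b i)

variable {A B C D : Type u} [CommRing A] [CommRing B] [CommRing C] [CommRing D] [Algebra A B]

theorem EqvData.σ_eq_τ (G : EqvData A B C D) (a : A) : G.σ (algebraMap A B a) = G.τ (algebraMap A B a) :=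
  (G.mem_range _).2 ⟨a, rfl⟩

theorem EqvData.isIntegral (G : EqvData A B C D) : Algebra.IsIntegral A B := by
  have h := G.toData.isIntegral_inv
  refine ⟨fun b => ?_⟩
  obtain ⟨p, hp, hpb⟩ := h.isIntegral b
  have hl : p.map G.toData.inv.subtype ∈ Polynomial.lifts (algebraMap A B) :=
    (Polynomial.lifts_iff_coeff_lifts _).2 fun k => by
      rw [Polynomial.coeff_map]
      exact (G.mem_range _).1 (p.coeff k).2
  rcases subsingleton_or_nontrivial B with hB' | hB'
  · exact ⟨Polynomial.X, Polynomial.monic_X, Subsingleton.elim _ _⟩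
  obtain ⟨q, hq, -, hmon⟩ := Polynomial.lifts_and_degree_eq_and_monic hl (hp.map _)
  refine ⟨q, hmon, ?_⟩
  rw [← Polynomial.eval_map, hq, Polynomial.eval_map]
  exact hpb

/-- The local computation: after a flat local extension there is a basis. -/
theorem EqvData.exists_local (G : EqvData A B C D) (m : Ideal A) (hm : m.IsMaximal)
    [Algebra A C] [Algebra A D] (hC : ∀ a, algebraMap A C a = G.σ (algebraMap A B a))
    (hD : ∀ a, algebraMap A D a = G.p₂ (algebraMap A C a))
    (Φ : B ⊗[A] B →ₗ[A] C) (hΦ : ∀ x y, Φ (x ⊗ₜ y) = G.σ x * G.τ y) :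
    ∃ (R : Type u) (_ : CommRing R) (_ : Algebra A R), Module.Flat A R ∧ m.map (algebraMap A R) ≠ ⊤ ∧
      Module.Free R (R ⊗[A] B) ∧ Function.Bijective (Φ.lTensor R) := by
  classical
  haveI := hm
  haveI hint : Algebra.IsIntegral A B := G.isIntegral
  obtain ⟨n, v, l, hl, hv⟩ := exists_coords G.σ G.finite G.flat G.finitePresentation
  obtain ⟨μ, hμl, hμg, -⟩ := exists_baseChange_coords G.left hl hv
  choose kk aa bb hab using fun i => G.span (v i)
  let κ : Type u := ULift.{u} (Σ i : Fin n, Fin (kk i))
  let bs : κ → B := fun s => bb s.down.1 s.down.2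
  let k₀ := A ⧸ m
  let _ : Field k₀ := Ideal.Quotient.field m
  let E := mat v l (1 : C)
  have hEE : E * E = E := by rw [← mat_mul hl hv, one_mul]
  have hEinv : ∀ j, E.charpoly.coeff j ∈ Set.range (algebraMap A B) := fun j => by
    rw [← G.mem_range]
    have := congrArg (fun q => Polynomial.coeff q j) (charpoly_map_eq G.toData hl hv 1)
    rwa [map_one, Polynomial.coeff_map, Polynomial.coeff_map] at this
  obtain ⟨PA, hPA⟩ : ∃ q : Polynomial A, q.map (algebraMap A B) = E.charpoly := by
    have hl' : E.charpoly ∈ Polynomial.lifts (algebraMap A B) := (Polynomial.lifts_iff_coeff_lifts _).2 hEinv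
    exact Polynomial.mem_lifts _ |>.1 hl'
  let d := (PA.map (Ideal.Quotient.mk m)).rootMultiplicity 1
  let V : Type u := ULift.{u} ((κ × Fin d) ⊕ (Fin d × Fin n))
  let red : MvPolynomial V A →+* MvPolynomial V k₀ := MvPolynomial.map (Ideal.Quotient.mk m)
  obtain ⟨R, iR, aR, hflat, hne, tt₀, htP⟩ : ∃ (R : Type u) (_ : CommRing R) (_ : Algebra A R),
      Module.Flat A R ∧ m.map (algebraMap A R) ≠ ⊤ ∧ ∃ t : V → R, ∀ M : Ideal R, M.IsMaximal →
        ∀ p, MvPolynomial.aeval t p ∈ M ↔ red p = 0 := by
    let P : Ideal (MvPolynomial V A) := RingHom.ker red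
    haveI : P.IsPrime := RingHom.ker_isPrime red
    have hmR : m.map (algebraMap A (Localization.AtPrime P)) ≤ IsLocalRing.maximalIdeal (Localization.AtPrime P) := by
      rw [Ideal.map_le_iff_le_comap]
      intro a ha
      rw [Ideal.mem_comap, IsScalarTower.algebraMap_apply A (MvPolynomial V A) (Localization.AtPrime P),
        IsLocalization.AtPrime.to_map_mem_maximal_iff (Localization.AtPrime P) P]
      change red (MvPolynomial.C a) = 0
      rw [MvPolynomial.map_C, Ideal.Quotient.eq_zero_iff_mem.2 ha, map_zero]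
    refine ⟨Localization.AtPrime P, inferInstance, inferInstance, Module.Flat.trans A (MvPolynomial V A) _,
      fun h => (IsLocalRing.maximalIdeal.isMaximal (Localization.AtPrime P)).ne_top (top_le_iff.1 (h ▸ hmR)),
      fun s => algebraMap (MvPolynomial V A) _ (MvPolynomial.X s), fun M hM p => ?_⟩
    rw [IsLocalRing.eq_maximalIdeal hM]
    have e : MvPolynomial.aeval (fun s => algebraMap (MvPolynomial V A) (Localization.AtPrime P) (MvPolynomial.X s)) p =
        algebraMap (MvPolynomial V A) (Localization.AtPrime P) p :=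
      (AlgHom.congr_fun (MvPolynomial.aeval_unique (IsScalarTower.toAlgHom A (MvPolynomial V A) (Localization.AtPrime P))) p).symm
    rw [e, IsLocalization.AtPrime.to_map_mem_maximal_iff (Localization.AtPrime P) P]
    rfl
  refine ⟨R, iR, aR, hflat, hne, ?_⟩
  let σA : B →ₐ[A] C := { G.σ with commutes' := fun a => (hC a).symm }
  let τA : B →ₐ[A] C := { G.τ with commutes' := fun a => (G.σ_eq_τ a).symm.trans (hC a).symm }
  have hpτ : ∀ a, G.p₁ (algebraMap A C a) = algebraMap A D a := fun a => by
    rw [hD, hC, G.hp, ← G.σ_eq_τ]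
  let p₁A : C →ₐ[A] D := { G.p₁ with commutes' := hpτ }
  let p₂A : C →ₐ[A] D := { G.p₂ with commutes' := fun a => (hD a).symm }
  let γA : C →ₐ[A] D :=
    { G.γ with
      commutes' := fun a => by
        change G.γ (algebraMap A C a) = algebraMap A D a
        rw [hD, hC]
        exact G.hγσ _ }
  let σR := Algebra.TensorProduct.map (AlgHom.id R R) σA
  let τR := Algebra.TensorProduct.map (AlgHom.id R R) τA
  let p₁R := Algebra.TensorProduct.map (AlgHom.id R R) p₁A
  let p₂R := Algebra.TensorProduct.map (AlgHom.id R R) p₂A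
  let γR := Algebra.TensorProduct.map (AlgHom.id R R) γA
  have hp' : ∀ x, p₁R (σR x) = p₂R (τR x) := fun x => by
    induction x with
    | zero => simp
    | tmul r y => exact congrArg (r ⊗ₜ[A] ·) (G.hp y)
    | add x y hx hy => simp only [map_add, hx, hy]
  have hγσ' : ∀ x, γR (σR x) = p₂R (σR x) := fun x => by
    induction x with
    | zero => simp
    | tmul r y => exact congrArg (r ⊗ₜ[A] ·) (G.hγσ y)
    | add x y hx hy => simp only [map_add, hx, hy]
  have hγτ' : ∀ x, γR (τR x) = p₁R (τR x) := fun x => by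
    induction x with
    | zero => simp
    | tmul r y => exact congrArg (r ⊗ₜ[A] ·) (G.hγτ y)
    | add x y hx hy => simp only [map_add, hx, hy]
  let lA : Fin n → C →ₗ[A] B := fun i =>
    { toFun := l i
      map_add' := map_add (l i)
      map_smul' := fun a z => by
        rw [Algebra.smul_def, hC, hl, RingHom.id_apply, Algebra.smul_def] }
  let μA : Fin n → D →ₗ[A] C := fun i =>
    { toFun := μ i
      map_add' := map_add (μ i)
      map_smul' := fun a z => by
        rw [Algebra.smul_def, hD, hμl, RingHom.id_apply, Algebra.smul_def] }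
  let lR : Fin n → R ⊗[A] C →ₗ[A] (R ⊗[A] B) := fun i => (lA i).lTensor R
  let μR : Fin n → R ⊗[A] D →ₗ[A] R ⊗[A] C := fun i => (μA i).lTensor R
  have hlR : ∀ i a z, lR i (σR a * z) = a * lR i z := fun i a z => by
    induction a with
    | zero => simp
    | tmul r y =>
      induction z with
      | zero => simp
      | tmul r' z =>
        change (lA i).lTensor R ((r ⊗ₜ G.σ y) * (r' ⊗ₜ z)) = (r ⊗ₜ y) * (lA i).lTensor R (r' ⊗ₜ z)
        rw [Algebra.TensorProduct.tmul_mul_tmul, LinearMap.lTensor_tmul, LinearMap.lTensor_tmul,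
          Algebra.TensorProduct.tmul_mul_tmul]
        exact congrArg _ (hl i y z)
      | add z z' hz hz' => simp only [mul_add, map_add, hz, hz']
    | add a a' ha ha' => simp only [map_add, add_mul, ha, ha']
  have hμR : ∀ i c z, μR i (p₂R c * z) = c * μR i z := fun i c z => by
    induction c with
    | zero => simp
    | tmul r y =>
      induction z with
      | zero => simp
      | tmul r' z =>
        change (μA i).lTensor R ((r ⊗ₜ G.p₂ y) * (r' ⊗ₜ z)) = (r ⊗ₜ y) * (μA i).lTensor R (r' ⊗ₜ z)
        rw [Algebra.TensorProduct.tmul_mul_tmul, LinearMap.lTensor_tmul, LinearMap.lTensor_tmul,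
          Algebra.TensorProduct.tmul_mul_tmul]
        exact congrArg _ (hμl i y z)
      | add z z' hz hz' => simp only [mul_add, map_add, hz, hz']
    | add a a' ha ha' => simp only [map_add, add_mul, ha, ha']
  have hμgR : ∀ i z, μR i (p₁R z) = τR (lR i z) := fun i z => by
    induction z with
    | zero => simp
    | tmul r y => exact congrArg (r ⊗ₜ[A] ·) (hμg i y)
    | add a a' ha ha' => simp only [map_add, ha, ha']
  have hvR : ∀ z, ∑ i, σR (lR i z) * ((1 : R) ⊗ₜ v i) = z := fun z => by
    induction z with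
    | zero => simp
    | tmul r y =>
      conv_rhs => rw [← hv y, TensorProduct.tmul_sum]
      refine Finset.sum_congr rfl fun i _ => ?_
      change (r ⊗ₜ G.σ (l i y)) * ((1 : R) ⊗ₜ v i) = _
      rw [Algebra.TensorProduct.tmul_mul_tmul, mul_one]
    | add a a' ha ha' => simp only [map_add, add_mul, Finset.sum_add_distrib, ha, ha']
  let incl : B →+* (R ⊗[A] B) := Algebra.TensorProduct.includeRight.toRingHom
  let tR : V → (R ⊗[A] B) := fun s => algebraMap R (R ⊗[A] B) (tt₀ s)
  let Ω : Matrix (Fin d ⊕ Fin n) (Fin d ⊕ Fin n) (MvPolynomial V B) :=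
    Matrix.fromBlocks 0 (Matrix.of fun j a => MvPolynomial.X (ULift.up (Sum.inr (j, a))))
      (Matrix.of fun a b => ∑ i, MvPolynomial.X (ULift.up (Sum.inl (i, b))) * MvPolynomial.C (l a (G.τ (bs i))))
      (1 - E.map MvPolynomial.C)
  have hdet : IsUnit (MvPolynomial.eval₂Hom incl tR Ω.det) := by
    by_contra hn
    obtain ⟨q, hq, hmem⟩ := exists_max_ideal_of_mem_nonunits hn
    haveI := hq
    let K := (R ⊗[A] B) ⧸ q
    let _ : Field K := Ideal.Quotient.field q
    let π : (R ⊗[A] B) →+* K := Ideal.Quotient.mk q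
    haveI : Algebra.IsIntegral R (R ⊗[A] B) := inferInstance
    have hq' : (q.comap (algebraMap R (R ⊗[A] B))).IsMaximal :=
      Ideal.isMaximal_comap_of_isIntegral_of_isMaximal q
    let ψ : MvPolynomial V A →+* K := π.comp ((algebraMap R (R ⊗[A] B)).comp (MvPolynomial.aeval tt₀).toRingHom)
    have hψ : ∀ p, ψ p = 0 ↔ red p = 0 := fun p => by
      change π (algebraMap R (R ⊗[A] B) (MvPolynomial.aeval tt₀ p)) = 0 ↔ red p = 0
      rw [Ideal.Quotient.eq_zero_iff_mem, ← Ideal.mem_comap, htP _ hq']
    let x : B →+* K := π.comp incl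
    have hxA : ∀ a, x (algebraMap A B a) = ψ (MvPolynomial.C a) := fun a => by
      change π (incl (algebraMap A B a)) = π (algebraMap R (R ⊗[A] B) (MvPolynomial.aeval tt₀ (MvPolynomial.C a)))
      congr 1
      rw [MvPolynomial.aeval_C]
      exact (Algebra.TensorProduct.tmul_one_eq_one_tmul a).symm
    let e₀ : k₀ →+* K := Ideal.Quotient.lift m (ψ.comp MvPolynomial.C) fun a ha => by
      rw [RingHom.comp_apply, hψ, MvPolynomial.map_C, Ideal.Quotient.eq_zero_iff_mem.2 ha, map_zero]
    let _ : Algebra k₀ K := e₀.toAlgebra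
    let tt : V → K := fun s => π (tR s)
    have hind : AlgebraicIndependent k₀ tt := by
      rw [algebraicIndependent_iff]
      intro p hp
      obtain ⟨p, rfl⟩ := MvPolynomial.map_surjective (Ideal.Quotient.mk m) Ideal.Quotient.mk_surjective p
      apply (hψ p).1
      rw [← hp, MvPolynomial.aeval_def, MvPolynomial.eval₂_map]
      exact (RingHom.congr_fun (MvPolynomial.ringHom_ext (f := ψ)
        (g := MvPolynomial.eval₂Hom (e₀.comp (Ideal.Quotient.mk m)) tt)
        (fun a => (MvPolynomial.eval₂Hom_C (e₀.comp (Ideal.Quotient.mk m)) tt a).symm)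
        (fun s => by simp [ψ, tt, tR])) p)
    let F := algebraicClosure k₀ K
    have hind' : AlgebraicIndependent F tt := hind.algebraicClosure
    have hxF : ∀ b, x b ∈ F := fun b => by
      rw [mem_algebraicClosure_iff]
      refine IsIntegral.isAlgebraic ?_
      obtain ⟨p, hp, hpb⟩ := hint.isIntegral b
      refine ⟨p.map (Ideal.Quotient.mk m), hp.map _, ?_⟩
      rw [Polynomial.eval₂_map]
      have := congrArg x hpb
      rw [Polynomial.hom_eval₂, map_zero] at this
      rw [← this]
      congr 1
      exact RingHom.ext fun a => (hxA a).symm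
    let xF : B →+* F := x.codRestrict F.toSubfield.toSubring hxF
    have hcomp : (algebraMap F K).comp xF = x := rfl
    obtain ⟨T₀, R₀, hdet₀⟩ := exists_block_ne_zero (K := F) (d := d) (E.map xF) (by rw [← Matrix.map_mul, hEE]) (by
      rw [Matrix.charpoly_map, Polynomial.eq_rootMultiplicity_map (algebraMap F K).injective, map_one,
        Polynomial.map_map, hcomp, ← hPA, Polynomial.map_map]
      change _ = (PA.map (Ideal.Quotient.mk m)).rootMultiplicity 1
      rw [Polynomial.eq_rootMultiplicity_map e₀.injective (p := PA.map (Ideal.Quotient.mk m)), map_one, Polynomial.map_map]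
      congr 2
      exact RingHom.ext fun a => hxA a) (κ := κ) (fun i a => xF (l a (G.τ (bs i)))) (by
      intro a
      have : (E.map xF) *ᵥ Pi.single a 1 = fun b => xF (l b (v a)) := by
        funext b
        simp [E, mat]
      rw [this, Submodule.mem_span_range_iff_exists_fun]
      refine ⟨fun s => if s.down.1 = a then xF (aa s.down.1 s.down.2) else 0, funext fun b => ?_⟩
      rw [Finset.sum_apply]
      simp only [Pi.smul_apply, smul_eq_mul, ite_mul, zero_mul]
      rw [← Equiv.sum_comp Equiv.ulift.symm, Fintype.sum_sigma]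
      simp only [Equiv.ulift, Equiv.coe_fn_symm_mk]
      rw [Finset.sum_eq_single a
        (fun i _ hi => Finset.sum_eq_zero fun j _ => if_neg hi) (by simp)]
      conv_rhs => rw [hab a, map_sum, map_sum]
      refine Finset.sum_congr rfl fun j _ => ?_
      rw [hl, map_mul]
      exact if_pos rfl)
    have hne : MvPolynomial.map xF Ω.det ≠ 0 := by
      intro h0
      apply hdet₀
      let val : V → F := fun s => s.down.elim (fun p => T₀ p.1 p.2) (fun p => R₀ p.1 p.2)
      have := congrArg (MvPolynomial.eval₂Hom (RingHom.id F) val) h0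
      rw [map_zero, ← RingHom.comp_apply, RingHom.map_det] at this
      rw [← this]
      congr 1
      ext (b | a) (b' | a') <;>
        simp [Ω, val, Matrix.fromBlocks, RingHom.mapMatrix_apply, Matrix.one_apply, apply_ite]
    apply hne
    apply hind'
    rw [map_zero, MvPolynomial.aeval_def, MvPolynomial.eval₂_map]
    have hz : π (MvPolynomial.eval₂Hom incl tR Ω.det) = 0 := Ideal.Quotient.eq_zero_iff_mem.2 hmem
    rw [← RingHom.comp_apply] at hz
    rw [← hz]
    exact (RingHom.congr_fun (MvPolynomial.ringHom_ext (f := π.comp (MvPolynomial.eval₂Hom incl tR))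
      (g := MvPolynomial.eval₂Hom ((algebraMap F K).comp xF) tt) (fun b => by simp [hcomp, x]) (fun s => by simp [tt]))
      Ω.det).symm
  rw [RingHom.map_det (MvPolynomial.eval₂Hom incl tR) Ω] at hdet
  set Ω' := (MvPolynomial.eval₂Hom incl tR).mapMatrix Ω with hΩ'
  let W := Ω'⁻¹
  let Y : Matrix (Fin n) (Fin d) (R ⊗[A] B) := Ω'.toBlocks₂₁
  let L : Matrix (Fin d) (Fin n) (R ⊗[A] B) := W.toBlocks₁₂
  let ER : Matrix (Fin n) (Fin n) (R ⊗[A] B) := E.map incl
  have hΩb : Ω' = Matrix.fromBlocks 0 Ω'.toBlocks₁₂ Y (1 - ER) := by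
    ext (b | a) (b' | a') <;>
      simp [hΩ', Ω, Y, ER, Matrix.toBlocks₁₂, Matrix.toBlocks₂₁, Matrix.fromBlocks, Matrix.one_apply, apply_ite]
  let y : Fin d → (R ⊗[A] B) := fun b => ∑ i, tR (ULift.up (Sum.inl (i, b))) * incl (bs i)
  have hY : ∀ a b, Y a b = lR a (τR (y b)) := fun a b => by
    simp only [Y, Ω, hΩ', y, Matrix.toBlocks₂₁, RingHom.mapMatrix_apply, Matrix.map_apply, Matrix.fromBlocks_apply₂₁,
      Matrix.of_apply, map_sum, map_mul, MvPolynomial.eval₂Hom_X', MvPolynomial.eval₂Hom_C]
    refine Finset.sum_congr rfl fun i _ => ?_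
    change _ = (lA a).lTensor R (((tt₀ _ : R) ⊗ₜ G.τ 1) * ((1 : R) ⊗ₜ G.τ (bs i)))
    rw [Algebra.TensorProduct.tmul_mul_tmul, mul_one, map_one, one_mul, LinearMap.lTensor_tmul]
    exact (Algebra.TensorProduct.tmul_mul_tmul _ _ _ _).trans (by rw [mul_one, one_mul]; rfl)
  have hERY : ∀ z, (fun a => lR a z) = ER *ᵥ fun a => lR a z := fun z => by
    funext a
    conv_lhs => rw [← hvR z, map_sum]
    refine Finset.sum_congr rfl fun k _ => ?_
    rw [hlR, mul_comm]
    congr 1
    change ((1 : R) ⊗ₜ[A] l a (v k)) = incl (l a (1 * v k))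
    rw [one_mul]; rfl
  have hEY : ER * Y = Y := by
    ext a b
    have := congrFun (hERY (τR (y b))) a
    rw [← hY] at this
    rw [this, Matrix.mul_apply]
    simp only [Matrix.mulVec, dotProduct, hY]
  have hEE' : ER * ER = ER := by rw [← Matrix.map_mul, hEE]
  have hW : W = Matrix.fromBlocks W.toBlocks₁₁ L W.toBlocks₂₁ W.toBlocks₂₂ := (Matrix.fromBlocks_toBlocks W).symm
  have hLY : L * Y = 1 := by
    have h : W * Ω' = 1 := Matrix.nonsing_inv_mul Ω' hdet
    rw [hW, hΩb, Matrix.fromBlocks_multiply, ← Matrix.fromBlocks_one] at h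
    have := congrArg Matrix.toBlocks₁₁ h
    simp only [Matrix.toBlocks_fromBlocks₁₁, Matrix.mul_zero, zero_add] at this
    exact this
  have hYL : Y * L = ER := by
    have h : Ω' * W = 1 := Matrix.mul_nonsing_inv Ω' hdet
    rw [hW, hΩb, Matrix.fromBlocks_multiply, ← Matrix.fromBlocks_one] at h
    have := congrArg (fun M => ER * Matrix.toBlocks₂₂ M) h
    simp only [Matrix.toBlocks_fromBlocks₂₂, Matrix.mul_add, ← Matrix.mul_assoc, hEY, Matrix.mul_sub, Matrix.mul_one,
      hEE', sub_self, Matrix.zero_mul, add_zero] at this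
    exact this
  have hexp : ∀ z, ∃ c : Fin d → (R ⊗[A] B), z = ∑ b, σR (c b) * τR (y b) := fun z => by
    refine ⟨L *ᵥ fun a => lR a z, ?_⟩
    have hz : (fun a => lR a z) = Y *ᵥ (L *ᵥ fun a => lR a z) := by
      rw [Matrix.mulVec_mulVec, hYL]; exact hERY z
    conv_lhs => rw [← hvR z]
    conv_rhs => enter [2, b]; rw [← hvR (τR (y b)), Finset.mul_sum]
    rw [Finset.sum_comm]
    refine Finset.sum_congr rfl fun a _ => ?_
    rw [congrFun hz a]
    simp only [Matrix.mulVec, dotProduct, map_sum, map_mul, hY]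
    simp only [Finset.mul_sum, Finset.sum_mul]
    exact Finset.sum_congr rfl fun b _ => Finset.sum_congr rfl fun x _ => by ring
  have hinj' : ∀ c : Fin d → R ⊗[A] C, ∑ b, p₂R (c b) * p₁R (τR (y b)) = 0 → c = 0 := fun c hc => by
    have hYc : (Y.map τR) *ᵥ c = 0 := funext fun a => by
      have := congrArg (μR a) hc
      rw [map_sum, map_zero] at this
      rw [Pi.zero_apply, ← this, Matrix.mulVec, dotProduct]
      refine Finset.sum_congr rfl fun b _ => ?_
      rw [hμR, hμgR, Matrix.map_apply, hY, mul_comm]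
    have := congrArg (fun w => (L.map τR) *ᵥ w) hYc
    simp only [Matrix.mulVec_mulVec, Matrix.mulVec_zero, ← Matrix.map_mul, hLY] at this
    rwa [Matrix.map_one _ (map_zero τR) (map_one τR), Matrix.one_mulVec] at this
  have huniq : ∀ c : Fin d → (R ⊗[A] B), ∑ b, σR (c b) * τR (y b) = 0 → c = 0 := fun c hc => by
    have hYc : Y *ᵥ c = 0 := funext fun a => by
      have := congrArg (lR a) hc
      rw [map_sum, map_zero] at this
      rw [Pi.zero_apply, ← this, Matrix.mulVec, dotProduct]
      exact Finset.sum_congr rfl fun b _ => by rw [hlR, hY, mul_comm]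
    have := congrArg (fun w => L *ᵥ w) hYc
    simpa only [Matrix.mulVec_mulVec, Matrix.mulVec_zero, hLY, Matrix.one_mulVec] using this
  have hker : ∀ z : (R ⊗[A] B), σR z = τR z → ∃ r : R, z = algebraMap R (R ⊗[A] B) r := by
    intro z hz
    have hex : Function.Exact (Algebra.linearMap A B) (σA.toLinearMap - τA.toLinearMap) := fun b => by
      rw [LinearMap.sub_apply, sub_eq_zero]
      exact G.mem_range b
    have h := Module.Flat.lTensor_exact R hex
    obtain ⟨w, hw⟩ := (h z).1 (by
      have hlt : ∀ (φ : B →ₐ[A] C) z, φ.toLinearMap.lTensor R z = Algebra.TensorProduct.map (AlgHom.id R R) φ z := fun φ z => by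
        induction z with
        | zero => simp
        | tmul r b => rfl
        | add p q hp hq => simp only [map_add, hp, hq]
      rw [LinearMap.lTensor_sub, LinearMap.sub_apply, hlt, hlt]
      exact sub_eq_zero.2 hz)
    refine ⟨TensorProduct.rid A R w, ?_⟩
    rw [← hw]
    clear hw
    induction w with
    | zero => simp
    | tmul r a =>
      rw [LinearMap.lTensor_tmul, TensorProduct.rid_tmul, Algebra.linearMap_apply, Algebra.algebraMap_eq_smul_one,
        TensorProduct.tmul_smul, Algebra.TensorProduct.algebraMap_apply, Algebra.algebraMap_self, RingHom.id_apply,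
        TensorProduct.smul_tmul']
    | add p q hp hq => simp only [map_add, hp, hq]
  have hσr : ∀ r : R, σR (algebraMap R (R ⊗[A] B) r) = algebraMap R (R ⊗[A] C) r := fun r => σR.commutes r
  have hτr : ∀ r : R, τR (algebraMap R (R ⊗[A] B) r) = algebraMap R (R ⊗[A] C) r := fun r => τR.commutes r
  have hcoef : ∀ x : (R ⊗[A] B), ∃ c : Fin d → R, x = ∑ b, c b • y b := fun x => by
    obtain ⟨c, hc⟩ := hexp (τR x)
    have h1 := congrArg γR hc
    have h2 := congrArg p₁R hc
    simp only [map_sum, map_mul, hγσ', hγτ', hp'] at h1 h2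
    have h3 : ∀ b, σR (c b) = τR (c b) := fun b => by
      have := hinj' (fun b => σR (c b) - τR (c b)) (by
        simp only [map_sub, sub_mul, Finset.sum_sub_distrib]
        rw [← h1, ← h2, sub_self])
      exact sub_eq_zero.1 (congrFun this b)
    choose r hr using fun b => hker (c b) (h3 b)
    refine ⟨r, ?_⟩
    let εA : C →ₐ[A] B := { G.ε with commutes' := fun a => by rw [hC]; exact G.hεσ _ }
    let εR := Algebra.TensorProduct.map (AlgHom.id R R) εA
    have hεσ : ∀ z, εR (σR z) = z := fun z => by
      induction z with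
      | zero => simp
      | tmul r b => exact congrArg (r ⊗ₜ[A] ·) (G.hεσ b)
      | add p q hp hq => simp only [map_add, hp, hq]
    have hετ : ∀ z, εR (τR z) = z := fun z => by
      induction z with
      | zero => simp
      | tmul r b => exact congrArg (r ⊗ₜ[A] ·) (G.hετ b)
      | add p q hp hq => simp only [map_add, hp, hq]
    have := congrArg εR hc
    simp only [map_sum, map_mul, hεσ, hετ] at this
    rw [this]
    exact Finset.sum_congr rfl fun b _ => by rw [hr b, Algebra.smul_def]
  have hli : LinearIndependent R y := by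
    rw [Fintype.linearIndependent_iff]
    intro c hc b
    have h := huniq (fun b => algebraMap R (R ⊗[A] B) (c b)) (by
      have := congrArg τR hc
      rw [map_sum, map_zero] at this
      rw [← this]
      exact Finset.sum_congr rfl fun b _ => by rw [Algebra.smul_def, map_mul, hσr, hτr])
    have hinjR : Function.Injective (algebraMap R (R ⊗[A] B)) := by
      have h' := Module.Flat.lTensor_preserves_injective_linearMap (M := R) (Algebra.linearMap A B) G.inj
      intro r r' e
      have he : ∀ r : R, (Algebra.linearMap A B).lTensor R (r ⊗ₜ 1) = algebraMap R (R ⊗[A] B) r := fun r => by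
        rw [LinearMap.lTensor_tmul, Algebra.linearMap_apply, map_one]; rfl
      have := h' ((he r).trans (e.trans (he r').symm))
      simpa using congrArg (TensorProduct.rid A R) this
    exact hinjR ((congrFun h b).trans (map_zero _).symm)
  have hsp : ⊤ ≤ Submodule.span R (Set.range y) := fun x _ => by
    obtain ⟨c, rfl⟩ := hcoef x
    exact Submodule.sum_mem _ fun b _ => Submodule.smul_mem _ _ (Submodule.subset_span ⟨b, rfl⟩)
  refine ⟨Module.Free.of_basis (Module.Basis.mk hli hsp), ?_⟩
  let inl := Algebra.TensorProduct.map (AlgHom.id R R) (Algebra.TensorProduct.includeLeft : B →ₐ[A] B ⊗[A] B)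
  let inr := Algebra.TensorProduct.map (AlgHom.id R R) (Algebra.TensorProduct.includeRight : B →ₐ[A] B ⊗[A] B)
  have hΦR : ∀ z w : (R ⊗[A] B), Φ.lTensor R (inl z * inr w) = σR z * τR w := fun z w => by
    induction z with
    | zero => simp
    | tmul r a =>
      induction w with
      | zero => simp
      | tmul r' a' =>
        change Φ.lTensor R ((r ⊗ₜ (a ⊗ₜ 1)) * (r' ⊗ₜ (1 ⊗ₜ a'))) = (r ⊗ₜ G.σ a) * (r' ⊗ₜ G.τ a')
        rw [Algebra.TensorProduct.tmul_mul_tmul, Algebra.TensorProduct.tmul_mul_tmul, mul_one, one_mul,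
          LinearMap.lTensor_tmul, hΦ, Algebra.TensorProduct.tmul_mul_tmul]
      | add p q hp hq => simp only [map_add, mul_add, hp, hq]
    | add p q hp hq => simp only [map_add, add_mul, hp, hq]
  have hform : ∀ z : R ⊗[A] (B ⊗[A] B), ∃ c : Fin d → (R ⊗[A] B), z = ∑ b, inl (c b) * inr (y b) := fun z => by
    induction z with
    | zero => exact ⟨0, by simp⟩
    | add p q hp hq =>
      obtain ⟨c, rfl⟩ := hp
      obtain ⟨c', rfl⟩ := hq
      exact ⟨c + c', by simp [add_mul, Finset.sum_add_distrib]⟩
    | tmul r w =>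
      induction w with
      | zero => exact ⟨0, by simp⟩
      | add p q hp hq =>
        obtain ⟨c, hc⟩ := hp
        obtain ⟨c', hc'⟩ := hq
        exact ⟨c + c', by rw [TensorProduct.tmul_add, hc, hc']; simp [add_mul, Finset.sum_add_distrib]⟩
      | tmul a a' =>
        obtain ⟨r', hr'⟩ := hcoef ((1 : R) ⊗ₜ a')
        refine ⟨fun b => r' b • (r ⊗ₜ a), ?_⟩
        have : inl (r ⊗ₜ a) * inr ((1 : R) ⊗ₜ a') = r ⊗ₜ (a ⊗ₜ a') := by
          change (r ⊗ₜ (a ⊗ₜ (1 : B))) * ((1 : R) ⊗ₜ ((1 : B) ⊗ₜ a')) = _
          rw [Algebra.TensorProduct.tmul_mul_tmul, Algebra.TensorProduct.tmul_mul_tmul, mul_one, mul_one, one_mul]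
        rw [← this, hr', map_sum, Finset.mul_sum]
        exact Finset.sum_congr rfl fun b _ => by rw [map_smul, map_smul, mul_smul_comm, smul_mul_assoc]
  constructor
  · rw [injective_iff_map_eq_zero]
    intro z hz
    obtain ⟨c, rfl⟩ := hform z
    rw [map_sum] at hz
    simp only [hΦR] at hz
    simp [huniq c hz]
  · intro z
    obtain ⟨c, rfl⟩ := hexp z
    exact ⟨∑ b, inl (c b) * inr (y b), by simp only [map_sum, hΦR]⟩

/-- A finite projective equivalence relation is given by a finite flat, finitely presented extension. -/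
theorem EqvData.finite_flat_bijective (G : EqvData A B C D) [Algebra A C]
    (hC : ∀ a, algebraMap A C a = G.σ (algebraMap A B a))
    (Φ : B ⊗[A] B →ₐ[A] C) (hΦ : ∀ x y, Φ (x ⊗ₜ y) = G.σ x * G.τ y) :
    Module.Flat A B ∧ Module.Finite A B ∧ Algebra.FinitePresentation A B ∧ Function.Bijective Φ := by
  let _ : Algebra A D := (G.p₂.comp (algebraMap A C)).toAlgebra
  have H := fun m hm => G.exists_local m hm hC (fun a => rfl) Φ.toLinearMap hΦ
  have hbij : Function.Bijective Φ := by
    refine ⟨injective_of_forall Φ.toLinearMap fun m hm => ?_, surjective_of_forall Φ.toLinearMap fun m hm => ?_⟩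
    · obtain ⟨R, i₁, i₂, h1, h2, -, h4⟩ := H m hm
      exact ⟨R, i₁, i₂, h1, h2, h4.1⟩
    · obtain ⟨R, i₁, i₂, h1, h2, -, h4⟩ := H m hm
      exact ⟨R, i₁, i₂, h1, h2, h4.2⟩
  haveI hflat : Module.Flat A B := by
    rw [Module.Flat.iff_lTensor_preserves_injective_linearMap]
    intro N N' _ _ _ _ f hf
    refine injective_of_forall _ fun m hm => ?_
    obtain ⟨R, i₁, i₂, h1, h2, h3, -⟩ := H m hm
    refine ⟨R, i₁, i₂, h1, h2, ?_⟩
    haveI := h1
    haveI := h3
    haveI : Module.Flat A (R ⊗[A] B) := Module.Flat.trans A R (R ⊗[A] B)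
    have h := Module.Flat.lTensor_preserves_injective_linearMap (M := R ⊗[A] B) f hf
    have e : (f.lTensor B).lTensor R = (TensorProduct.assoc A R B N').toLinearMap ∘ₗ
        f.lTensor (R ⊗[A] B) ∘ₗ (TensorProduct.assoc A R B N).symm.toLinearMap := by
      refine TensorProduct.ext' fun r w => ?_
      induction w with
      | zero => simp
      | tmul b x => simp
      | add p q hp hq => simp only [TensorProduct.tmul_add, map_add, hp, hq]
    rw [e]
    exact (TensorProduct.assoc A R B N').injective.comp (h.comp (TensorProduct.assoc A R B N).symm.injective)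
  haveI hint := G.isIntegral
  haveI : FaithfulSMul A B := (faithfulSMul_iff_algebraMap_injective A B).2 G.inj
  haveI : Module.FaithfullyFlat A B := Module.FaithfullyFlat.of_comap_surjective
    (Algebra.IsIntegral.comap_surjective A B)
  let _ : Algebra B C := G.σ.toAlgebra
  haveI : IsScalarTower A B C := .of_algebraMap_eq hC
  let Φ' : B ⊗[A] B →ₐ[B] C :=
    { Φ with
      commutes' := fun b => by
        change Φ (b ⊗ₜ 1) = G.σ b
        rw [hΦ, map_one, mul_one] }
  let eΦ : B ⊗[A] B ≃ₐ[B] C := AlgEquiv.ofBijective Φ' hbij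
  haveI : Module.Finite B C := G.finite
  haveI : Algebra.FinitePresentation B C := G.finitePresentation
  haveI : Module.Finite B (B ⊗[A] B) := Module.Finite.equiv eΦ.symm.toLinearEquiv
  haveI : Algebra.FinitePresentation B (B ⊗[A] B) := Algebra.FinitePresentation.equiv eΦ.symm
  exact ⟨hflat, Module.Finite.of_finite_tensorProduct_of_faithfullyFlat (R := A) B,
    Algebra.FinitePresentation.of_finitePresentation_tensorProduct_of_faithfullyFlat (R := A) B, hbij⟩

end Groth.Agent.FinGrpdLib
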