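import Groth.Agent.FinGrpdLib.Points2
/-!
Cancellation for the composition of points of a groupoid scheme.
-/

set_option autoImplicit false
set_option backward.isDefEq.respectTransparency false
universe u

open CategoryTheory CategoryTheory.Limits AlgebraicGeometry

namespace Groth.Agent.FinGrpdLib


/-- Cancelling an arrow with its inverse. -/
theorem mul_inv_cancel {S : Scheme.{u}} {G : Grpd.GroupoidScheme S} {T : Scheme.{u}} {α β : T ⟶ G.R}
    (h : α ≫ G.s = β ≫ G.t) (h' : (α ≫ G.i) ≫ G.s = mul G α β h ≫ G.t) :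
    mul G (α ≫ G.i) (mul G α β h) h' = β := by
  have h₁ : (α ≫ G.i) ≫ G.s = α ≫ G.t := by rw [Category.assoc, G.i_s]
  refine ((G.assoc (α ≫ G.i) α β h₁ h).symm).trans ?_
  change mul G (mul G (α ≫ G.i) α h₁) β ((mul_s h₁).trans h) = β
  rw [mul_congr (show mul G (α ≫ G.i) α h₁ = β ≫ G.t ≫ G.e from
    (G.i_comp α).trans (by rw [reassoc_of% h])) rfl]
  exact G.e_comp β


/-- Cancelling an inverse with its arrow. -/
theorem mul_inv_cancel' {S : Scheme.{u}} {G : Grpd.GroupoidScheme S} {T : Scheme.{u}} {α β : T ⟶ G.R}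
    (h : (α ≫ G.i) ≫ G.s = β ≫ G.t) (h' : α ≫ G.s = mul G (α ≫ G.i) β h ≫ G.t) :
    mul G α (mul G (α ≫ G.i) β h) h' = β := by
  have h₁ : α ≫ G.s = (α ≫ G.i) ≫ G.t := by rw [Category.assoc, G.i_t]
  refine ((G.assoc α (α ≫ G.i) β h₁ h).symm).trans ?_
  change mul G (mul G α (α ≫ G.i) h₁) β ((mul_s h₁).trans h) = β
  rw [mul_congr (show mul G α (α ≫ G.i) h₁ = β ≫ G.t ≫ G.e from
    (G.comp_i α).trans (by
      rw [Category.assoc, G.i_s] at h
      rw [reassoc_of% h])) rfl]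
  exact G.e_comp β

end Groth.Agent.FinGrpdLib
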