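import Groth.Agent.FinGrpdLib.Cancel
import Groth.Agent.FinGrpdLib.Sat
/-!
Groupoid schemes on the spectrum of a field.
-/

set_option autoImplicit false
set_option backward.isDefEq.respectTransparency false
universe u

open CategoryTheory CategoryTheory.Limits AlgebraicGeometry

namespace Groth.Agent.FinGrpdLib

/-- A scheme isomorphic to the spectrum of a field has one point and is integral. -/
theorem point_props {U : Scheme.{u}} {k : Type u} [Field k] (eU : U ≅ Spec (CommRingCat.of k)) :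
    Subsingleton U ∧ IsIntegral U :=
  ⟨eU.hom.homeomorph.injective.subsingleton, IsIntegral.of_isIso eU.inv⟩

/-- Over a point, a point of a fibred product whose first projection is adherent to `E` is adherent to the points of
the same second projection with first projection in `E`. -/
theorem exists_mem_of_closure {X Y B P : Scheme.{u}} [IsIntegral B] [Subsingleton B] {f : X ⟶ B} {g : Y ⟶ B}
    {a : P ⟶ X} {b : P ⟶ Y} (sq : IsPullback a b f g) (q : P) {E : Set X} (hq : a q ∈ closure E)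
    {W : Set P} (hW : IsOpen W) (hqW : q ∈ W) : ∃ q' ∈ W, a q' ∈ E ∧ b q' = b q := by
  let ρ := Y.fromSpecResidueField (b q)
  have A : IsPullback (pullback.fst b ρ ≫ a) (pullback.snd b ρ) f (ρ ≫ g) :=
    (IsPullback.of_hasPullback b ρ).paste_horiz sq
  haveI : UniversallyOpen (pullback.fst b ρ ≫ a) := MorphismProperty.of_isPullback A.flip inferInstance
  obtain ⟨w, hw, -⟩ := Scheme.Pullback.exists_preimage_pullback (f := b) (g := ρ) q
    (IsLocalRing.closedPoint (Y.residueField (b q))) (Scheme.fromSpecResidueField_apply _ _).symm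
  have h : w ∈ closure (⇑(pullback.fst b ρ ≫ a) ⁻¹' E) := by
    rw [← (pullback.fst b ρ ≫ a).isOpenMap.preimage_closure_eq_closure_preimage (Scheme.Hom.continuous _)]
    show (pullback.fst b ρ ≫ a) w ∈ closure E
    rw [Scheme.Hom.comp_apply, hw]; exact hq
  obtain ⟨w', hw'W, hw'E⟩ := mem_closure_iff.1 h _ (hW.preimage (pullback.fst b ρ).continuous)
    (show pullback.fst b ρ w ∈ W by rw [hw]; exact hqW)
  refine ⟨_, hw'W, hw'E, ?_⟩
  rw [← Scheme.Hom.comp_apply, pullback.condition, Scheme.Hom.comp_apply, Scheme.fromSpecResidueField_apply]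

/-- Over a point, a point with both projections adherent is adherent. -/
theorem mem_closure_inter {X Y B P : Scheme.{u}} [IsIntegral B] [Subsingleton B] {f : X ⟶ B} {g : Y ⟶ B}
    {a : P ⟶ X} {b : P ⟶ Y} (sq : IsPullback a b f g) (q : P) {E : Set X} {F : Set Y} (h₁ : a q ∈ closure E)
    (h₂ : b q ∈ closure F) : q ∈ closure (⇑a ⁻¹' E ∩ ⇑b ⁻¹' F) := by
  refine mem_closure_iff.2 fun W hW hqW => ?_
  obtain ⟨q₁, hW₁, hF, ha⟩ := exists_mem_of_closure sq.flip q h₂ hW hqW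
  obtain ⟨q₂, hW₂, hE, hb⟩ := exists_mem_of_closure sq q₁ (ha ▸ h₁) hW hW₁
  exact ⟨q₂, hW₂, hE, show b q₂ ∈ F from hb ▸ hF⟩

variable {S : Scheme.{u}} {G₁ G₂ : Grpd.GroupoidScheme S} (f : Grpd.GroupoidScheme.Hom G₁ G₂)

/-- A morphism of groupoids preserves identities. -/
theorem hom_e : G₁.e ≫ f.fR = f.fU ≫ G₂.e := by
  have hs : (G₁.e ≫ f.fR) ≫ G₂.s = f.fU := by rw [Category.assoc, f.comm_s, ← Category.assoc, G₁.e_s, Category.id_comp]
  have ht : (G₁.e ≫ f.fR) ≫ G₂.t = f.fU := by rw [Category.assoc, f.comm_t, ← Category.assoc, G₁.e_t, Category.id_comp]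
  have h : (G₁.e ≫ f.fR) ≫ G₂.s = (G₁.e ≫ f.fR) ≫ G₂.t := hs.trans ht.symm
  have hidem : mul G₂ (G₁.e ≫ f.fR) (G₁.e ≫ f.fR) h = G₁.e ≫ f.fR := by
    have h₁ : G₁.e ≫ G₁.s = G₁.e ≫ G₁.t := by rw [G₁.e_s, G₁.e_t]
    refine (f.comm_c G₁.e G₁.e h₁).symm.trans ?_
    change mul G₁ G₁.e G₁.e h₁ ≫ f.fR = _
    congr 1
    rw [mul_congr rfl (show G₁.e = G₁.e ≫ G₁.s ≫ G₁.e by rw [← Category.assoc, G₁.e_s, Category.id_comp])]
    exact G₁.comp_e _
  have h' : ((G₁.e ≫ f.fR) ≫ G₂.i) ≫ G₂.s = (G₁.e ≫ f.fR) ≫ G₂.t := by rw [Category.assoc, G₂.i_s]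
  calc G₁.e ≫ f.fR = mul G₂ ((G₁.e ≫ f.fR) ≫ G₂.i) (mul G₂ _ _ h)
        (by rw [mul_t]; exact h') := (mul_inv_cancel h _).symm
    _ = mul G₂ ((G₁.e ≫ f.fR) ≫ G₂.i) (G₁.e ≫ f.fR) h' := mul_congr rfl hidem _
    _ = (G₁.e ≫ f.fR) ≫ G₂.s ≫ G₂.e := G₂.i_comp _
    _ = f.fU ≫ G₂.e := by rw [← Category.assoc, hs]

/-- A morphism of groupoids preserves inverses. -/
theorem hom_i : G₁.i ≫ f.fR = f.fR ≫ G₂.i := by
  have h₁ : 𝟙 G₁.R ≫ G₁.s = (𝟙 _ ≫ G₁.i) ≫ G₁.t := by rw [Category.assoc, G₁.i_t]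
  have h : f.fR ≫ G₂.s = (G₁.i ≫ f.fR) ≫ G₂.t := by
    rw [Category.assoc, f.comm_t, ← Category.assoc, G₁.i_t, f.comm_s]
  have k : mul G₂ f.fR (G₁.i ≫ f.fR) h = f.fR ≫ G₂.t ≫ G₂.e := by
    rw [mul_congr (Category.id_comp f.fR).symm
      (show G₁.i ≫ f.fR = (𝟙 _ ≫ G₁.i) ≫ f.fR by rw [Category.id_comp])]
    refine (f.comm_c (𝟙 _) (𝟙 _ ≫ G₁.i) h₁).symm.trans ?_
    rw [G₁.comp_i, Category.id_comp, Category.assoc, hom_e, reassoc_of% f.comm_t]
  have h' : (f.fR ≫ G₂.i) ≫ G₂.s = (f.fR ≫ G₂.t ≫ G₂.e) ≫ G₂.t := by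
    simp only [Category.assoc, G₂.i_s, G₂.e_t, Category.comp_id]
  calc G₁.i ≫ f.fR = mul G₂ (f.fR ≫ G₂.i) (mul G₂ _ _ h) (by rw [mul_t, Category.assoc, G₂.i_s]) :=
        (mul_inv_cancel h _).symm
    _ = mul G₂ (f.fR ≫ G₂.i) (f.fR ≫ G₂.t ≫ G₂.e) h' := mul_congr rfl k _
    _ = mul G₂ (f.fR ≫ G₂.i) ((f.fR ≫ G₂.i) ≫ G₂.s ≫ G₂.e)
          (by simp only [Category.assoc, G₂.e_t, Category.comp_id]) :=
        mul_congr rfl (by rw [Category.assoc, reassoc_of% G₂.i_s]) _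
    _ = f.fR ≫ G₂.i := G₂.comp_e _

/-- The image of an arrow map is stable under composition. -/
theorem range_mul [IsIso f.fU] {T : Scheme.{u}} (α β : T ⟶ G₂.R) (h : α ≫ G₂.s = β ≫ G₂.t) (p : T)
    (hα : α p ∈ Set.range ⇑f.fR) (hβ : β p ∈ Set.range ⇑f.fR) : mul G₂ α β h p ∈ Set.range ⇑f.fR := by
  obtain ⟨a, ha⟩ := hα
  obtain ⟨b, hb⟩ := hβ
  obtain ⟨w, hw, -⟩ := Scheme.Pullback.exists_preimage_pullback (f := α) (g := f.fR) p a ha.symm
  let π := pullback.fst α f.fR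
  obtain ⟨v, hv, -⟩ := Scheme.Pullback.exists_preimage_pullback (f := π ≫ β) (g := f.fR) w b
    (by rw [Scheme.Hom.comp_apply, hw]; exact hb.symm)
  let π' := pullback.fst (π ≫ β) f.fR
  let α₁ := π' ≫ pullback.snd α f.fR
  let β₁ := pullback.snd (π ≫ β) f.fR
  have eα : α₁ ≫ f.fR = (π' ≫ π) ≫ α := by simp only [α₁, π, Category.assoc, pullback.condition]
  have eβ : β₁ ≫ f.fR = (π' ≫ π) ≫ β := by rw [Category.assoc]; exact pullback.condition.symm
  have h₁ : α₁ ≫ G₁.s = β₁ ≫ G₁.t := by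
    rw [← cancel_mono f.fU]
    simp only [Category.assoc, ← f.comm_s, ← f.comm_t, reassoc_of% eα, reassoc_of% eβ, h]
  have e : mul G₁ α₁ β₁ h₁ ≫ f.fR = (π' ≫ π) ≫ mul G₂ α β h := by
    rw [comp_mul]
    exact (f.comm_c α₁ β₁ h₁).trans (mul_congr eα eβ _)
  refine ⟨mul G₁ α₁ β₁ h₁ v, ?_⟩
  rw [← Scheme.Hom.comp_apply, e, Scheme.Hom.comp_apply, Scheme.Hom.comp_apply, hv, hw]

/-- The closure of the image of an arrow map is stable under composition. -/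
theorem closure_range_mul [IsIso f.fU] [IsIntegral G₂.U] [Subsingleton G₂.U] {T : Scheme.{u}} (α β : T ⟶ G₂.R)
    (h : α ≫ G₂.s = β ≫ G₂.t) (p : T) (hα : α p ∈ closure (Set.range ⇑f.fR))
    (hβ : β p ∈ closure (Set.range ⇑f.fR)) : mul G₂ α β h p ∈ closure (Set.range ⇑f.fR) := by
  let w := pullback.lift α β h p
  have h₁ : pullback.fst G₂.s G₂.t w ∈ closure (Set.range ⇑f.fR) := by
    rw [← Scheme.Hom.comp_apply, pullback.lift_fst]; exact hα
  have h₂ : pullback.snd G₂.s G₂.t w ∈ closure (Set.range ⇑f.fR) := by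
    rw [← Scheme.Hom.comp_apply, pullback.lift_snd]; exact hβ
  rw [mul, Scheme.Hom.comp_apply]
  refine map_mem_closure G₂.c.continuous
    (mem_closure_inter (IsPullback.of_hasPullback G₂.s G₂.t) w h₁ h₂) fun x hx => ?_
  have := range_mul f (pullback.fst G₂.s G₂.t) (pullback.snd G₂.s G₂.t) pullback.condition x hx.1 hx.2
  rwa [mul, lift_fst_snd, Category.id_comp] at this

/-- A locally closed image of an arrow map over a point is closed. -/
theorem isClosed_range [IsIso f.fU] [IsIntegral G₂.U] [Subsingleton G₂.U]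
    (hlc : IsLocallyClosed (Set.range ⇑f.fR)) : IsClosed (Set.range ⇑f.fR) := by
  let E := Set.range ⇑f.fR
  refine closure_subset_iff_isClosed.1 fun r hr => ?_
  obtain ⟨W', C, hW', hC, hE⟩ := hlc
  have hEC : closure E ⊆ C := closure_minimal (hE.subset.trans Set.inter_subset_right) hC
  let ρ := G₂.R.fromSpecResidueField r
  let a := pullback.fst G₂.t (ρ ≫ G₂.t)
  let K := pullback.snd G₂.t (ρ ≫ G₂.t)
  have hd : (a ≫ G₂.i) ≫ G₂.s = (K ≫ ρ) ≫ G₂.t := by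
    rw [Category.assoc, G₂.i_s, Category.assoc]; exact pullback.condition
  let ψ := mul G₂ (a ≫ G₂.i) (K ≫ ρ) hd
  let σ : Spec (G₂.R.residueField r) ⟶ pullback G₂.t (ρ ≫ G₂.t) := pullback.lift ρ (𝟙 _) (Category.id_comp _).symm
  let q := σ (IsLocalRing.closedPoint (G₂.R.residueField r))
  have hρ : ∀ p, ρ p = r := fun p => Scheme.fromSpecResidueField_apply _ _
  have hψ : σ ≫ ψ = ρ ≫ G₂.s ≫ G₂.e := by
    rw [comp_mul, mul_congr (show σ ≫ a ≫ G₂.i = ρ ≫ G₂.i from pullback.lift_fst_assoc _ _ _ _)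
      (show σ ≫ K ≫ ρ = ρ by rw [pullback.lift_snd_assoc, Category.id_comp])]
    exact G₂.i_comp ρ
  have heE : ∀ y : G₂.U, G₂.e y ∈ E := fun y => by
    obtain ⟨y', rfl⟩ := f.fU.homeomorph.surjective y
    exact ⟨G₁.e y', by rw [← Scheme.Hom.comp_apply, hom_e, Scheme.Hom.comp_apply]; rfl⟩
  have hqW : ψ q ∈ W' := by
    rw [← Scheme.Hom.comp_apply, hψ, Scheme.Hom.comp_apply, Scheme.Hom.comp_apply]
    exact (hE.subset (heE _)).1
  have hqa : a q ∈ closure E := by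
    rw [← Scheme.Hom.comp_apply, pullback.lift_fst, hρ]; exact hr
  obtain ⟨q', hq'W, hq'E, -⟩ := exists_mem_of_closure (IsPullback.of_hasPullback G₂.t (ρ ≫ G₂.t)) q hqa
    (W := ⇑ψ ⁻¹' W') (hW'.preimage ψ.continuous) hqW
  have hiE : (a ≫ G₂.i) q' ∈ E := by
    obtain ⟨x, hx⟩ := hq'E
    exact ⟨G₁.i x, by rw [← Scheme.Hom.comp_apply, hom_i, Scheme.Hom.comp_apply, hx]; rfl⟩
  have hKr : (K ≫ ρ) q' = r := by rw [Scheme.Hom.comp_apply]; exact hρ _
  have hψC : ψ q' ∈ C :=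
    hEC (closure_range_mul f (a ≫ G₂.i) (K ≫ ρ) hd q' (subset_closure hiE) (hKr.symm ▸ hr))
  have hψE : ψ q' ∈ E := hE.superset ⟨hq'W, hψC⟩
  have h := range_mul f a ψ (by rw [mul_t, Category.assoc, G₂.i_t]) q' hq'E hψE
  rw [mul_inv_cancel' hd _, hKr] at h
  exact h

end Groth.Agent.FinGrpdLib
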