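import Groth.Agent.FinGrpdLib.FieldSmooth
import Groth.Agent.GrpSchLib.CartierAlg
/-!
Cartier's theorem for groupoids on a field of characteristic zero.
-/

set_option autoImplicit false
set_option backward.isDefEq.respectTransparency false
universe u

open CategoryTheory CategoryTheory.Limits AlgebraicGeometry
open scoped DualNumber

noncomputable section

namespace Groth.Agent.FinGrpdLib

/-- Composing with the identity at the source. -/
theorem mul_se {S : Scheme.{u}} {G : Grpd.GroupoidScheme S} {T : Scheme.{u}} {x y : T ⟶ G.R} (hy : y = x ≫ G.s ≫ G.e)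
    (h : x ≫ G.s = y ≫ G.t) : mul G x y h = x := by
  subst hy; exact G.comp_e x

/-- Composing with the identity at the target. -/
theorem mul_te {S : Scheme.{u}} {G : Grpd.GroupoidScheme S} {T : Scheme.{u}} {x y : T ⟶ G.R} (hy : y = x ≫ G.t ≫ G.e)
    (h : y ≫ G.s = x ≫ G.t) : mul G y x h = x := by
  subst hy; exact G.e_comp x

/-- The dual numbers are functorial in the coefficients. -/
def dualHom {A B : Type u} [CommRing A] [CommRing B] (f : A →+* B) : A[ε] →+* B[ε] where
  toFun x := TrivSqZeroExt.inl (f (TrivSqZeroExt.fst x)) + TrivSqZeroExt.inr (f (TrivSqZeroExt.snd x))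
  map_one' := by ext <;> simp
  map_zero' := by ext <;> simp
  map_add' x y := by ext <;> simp [map_add]
  map_mul' x y := by ext <;> simp [map_add, map_mul]

theorem dualHom_fst {A B : Type u} [CommRing A] [CommRing B] (f : A →+* B) (x : A[ε]) :
    TrivSqZeroExt.fst (dualHom f x) = f (TrivSqZeroExt.fst x) := by simp [dualHom]

theorem dualHom_snd {A B : Type u} [CommRing A] [CommRing B] (f : A →+* B) (x : A[ε]) :
    TrivSqZeroExt.snd (dualHom f x) = f (TrivSqZeroExt.snd x) := by simp [dualHom]

theorem SpecMap_comp {A B C : Type u} [CommRing A] [CommRing B] [CommRing C] (f : A →+* B) (g : B →+* C) :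
    Spec.map (CommRingCat.ofHom g) ≫ Spec.map (CommRingCat.ofHom f) = Spec.map (CommRingCat.ofHom (g.comp f)) := by
  rw [← Spec.map_comp, ← CommRingCat.ofHom_comp]

/-- The first projection of dual numbers is surjective on spectra. -/
theorem surjective_red {A : Type u} [CommRing A] (f : A[ε] →+* A) (hf : ∀ x, f x = TrivSqZeroExt.fst x) :
    Function.Surjective (Spec.map (CommRingCat.ofHom f)) := by
  intro q
  have hs : Function.Surjective f := fun a => ⟨TrivSqZeroExt.inl a, by simp [hf]⟩
  have hq : q ∈ Set.range (PrimeSpectrum.comap f) := by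
    rw [range_comap_of_surjective _ _ hs]
    intro y hy
    have hy' : TrivSqZeroExt.fst y = 0 := (hf y).symm.trans hy
    refine (q.isPrime.mem_or_mem (?_ : y * y ∈ q.asIdeal)).elim id id
    rw [show y * y = 0 by ext <;> simp [hy']]
    exact zero_mem _
  exact hq

variable {S : Scheme.{u}} (G : Grpd.GroupoidScheme S) {k : Type u} [Field k] (eU : G.U ≅ Spec (CommRingCat.of k))
  {A : Type u} [CommRing A] [Algebra k A] (j : Spec (CommRingCat.of A) ⟶ G.R) [IsOpenImmersion j]

/-- Every tangent vector at the identity extends to a derivation nearby. -/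
theorem exists_derivation (hj : j ≫ G.t ≫ eU.hom = Spec.map (CommRingCat.ofHom (algebraMap k A)))
    (e : A →ₐ[k] k) (he : Spec.map (CommRingCat.ofHom e.toRingHom) ≫ j = eU.inv ≫ G.e)
    (v : A →ₗ[k] k) (hv : ∀ a b, v (a * b) = e a * v b + e b * v a) :
    ∃ D : Derivation k A A, ∀ a, e (D a) = v a := by
  have hv0 : ∀ c : k, v (algebraMap k A c) = 0 := by
    intro c
    have h1 := hv 1 1
    simp only [map_one, one_mul] at h1
    rw [Algebra.algebraMap_eq_smul_one, map_smul, left_eq_add.mp h1, smul_zero]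
  obtain ⟨sA', hsA'⟩ := Spec.map_surjective (j ≫ G.s ≫ eU.hom)
  let sA : k →+* A := sA'.hom
  have hsA : Spec.map (CommRingCat.ofHom sA) = j ≫ G.s ≫ eU.hom := hsA'
  have hesA : e.toRingHom.comp sA = RingHom.id k := by
    apply_fun CommRingCat.ofHom using fun a b h => congrArg CommRingCat.Hom.hom h
    apply Spec.map_injective
    rw [← SpecMap_comp, hsA, reassoc_of% he, reassoc_of% G.e_s, Iso.inv_hom_id]
    exact (Spec.map_id _).symm
  let vp : A →+* k[ε] :=
    { toFun := fun a => TrivSqZeroExt.inl (e a) + TrivSqZeroExt.inr (v a)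
      map_one' := by ext <;> simp [show v 1 = 0 by simpa using hv0 1]
      map_zero' := by ext <;> simp
      map_add' := fun a b => by ext <;> simp [map_add]
      map_mul' := fun a b => by ext <;> simp [hv, mul_comm] }
  let red : A[ε] →+* A := (TrivSqZeroExt.fstHom k A A).toRingHom
  let inlA : A →+* A[ε] := TrivSqZeroExt.inlHom A A
  let inlK : k →+* k[ε] := TrivSqZeroExt.inlHom k k
  have hvp : vp.comp (algebraMap k A) = inlK := RingHom.ext fun c => by
    ext <;> simp [vp, inlK, hv0, TrivSqZeroExt.inlHom]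
  let α := Spec.map (CommRingCat.ofHom inlA) ≫ j
  let ν := Spec.map (CommRingCat.ofHom vp) ≫ j
  let β := Spec.map (CommRingCat.ofHom (dualHom sA)) ≫ ν
  have h : α ≫ G.s = β ≫ G.t := by
    rw [← cancel_mono eU.hom]
    simp only [α, β, ν, Category.assoc, hj, ← hsA, SpecMap_comp, hvp]
    congr 2
    exact RingHom.ext fun c => by
      ext <;> simp [inlA, inlK, TrivSqZeroExt.inlHom, dualHom_fst, dualHom_snd]
  let F := mul G α β h
  have hred : Spec.map (CommRingCat.ofHom red) ≫ F = j := by
    have e1 : red.comp inlA = RingHom.id A := RingHom.ext fun a => by simp [red, inlA, TrivSqZeroExt.inlHom]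
    have e2 : red.comp ((dualHom sA).comp vp) = sA.comp e.toRingHom := RingHom.ext fun a => by
      simp [red, dualHom_fst, vp]
    rw [comp_mul, mul_congr (show Spec.map (CommRingCat.ofHom red) ≫ α = j by
        simp only [α, ← Category.assoc, SpecMap_comp, e1]
        exact (congrArg (· ≫ j) (Spec.map_id _)).trans (Category.id_comp _))
      (show Spec.map (CommRingCat.ofHom red) ≫ β = j ≫ G.s ≫ G.e by
        simp only [β, ν, ← Category.assoc, SpecMap_comp, e2]
        rw [← SpecMap_comp, hsA, Category.assoc, he]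
        simp only [Category.assoc, Iso.hom_inv_id_assoc])]
    exact mul_se rfl _
  have hrange : Set.range ⇑F ⊆ Set.range ⇑j := by
    rintro _ ⟨p, rfl⟩
    obtain ⟨q, rfl⟩ := surjective_red red (fun _ => rfl) p
    exact ⟨q, by rw [← Scheme.Hom.comp_apply, hred]⟩
  obtain ⟨g', hg'⟩ := Spec.map_surjective (IsOpenImmersion.lift j F hrange)
  let g : A →+* A[ε] := g'.hom
  have hgF : Spec.map (CommRingCat.ofHom g) ≫ j = F := by
    rw [show Spec.map (CommRingCat.ofHom g) = _ from hg']
    exact IsOpenImmersion.lift_fac _ _ _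
  have hgk : g.comp (algebraMap k A) = inlA.comp (algebraMap k A) := by
    apply_fun CommRingCat.ofHom using fun a b h => congrArg CommRingCat.Hom.hom h
    apply Spec.map_injective
    rw [← SpecMap_comp, ← SpecMap_comp, ← hj, reassoc_of% hgF]
    exact ((Category.assoc _ _ _).symm.trans (congrArg (· ≫ eU.hom) (mul_t h))).trans
      (by simp only [α, Category.assoc])
  have h1 : red.comp g = RingHom.id A := by
    apply_fun CommRingCat.ofHom using fun a b h => congrArg CommRingCat.Hom.hom h
    apply Spec.map_injective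
    rw [← cancel_mono j, ← SpecMap_comp, Category.assoc, hgF, hred]
    exact ((congrArg (· ≫ j) (Spec.map_id _)).trans (Category.id_comp _)).symm
  have h2 : (dualHom e.toRingHom).comp g = vp := by
    have e1 : (dualHom e.toRingHom).comp inlA = inlK.comp e.toRingHom := RingHom.ext fun a => by
      ext <;> simp [inlA, inlK, TrivSqZeroExt.inlHom, dualHom_fst, dualHom_snd]
    have e2 : ((dualHom e.toRingHom).comp ((dualHom sA).comp vp)) = vp := RingHom.ext fun a => by
      have he' : ∀ c, e (sA c) = c := fun c => RingHom.congr_fun hesA c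
      ext <;> simp [dualHom_fst, dualHom_snd, he']
    have hν : ν ≫ G.t ≫ eU.hom = Spec.map (CommRingCat.ofHom inlK) := by
      simp only [ν, Category.assoc, hj, SpecMap_comp, hvp]
    apply_fun CommRingCat.ofHom using fun a b h => congrArg CommRingCat.Hom.hom h
    apply Spec.map_injective
    rw [← cancel_mono j, ← SpecMap_comp, Category.assoc, hgF, comp_mul,
      mul_congr (show Spec.map (CommRingCat.ofHom (dualHom e.toRingHom)) ≫ α = ν ≫ G.t ≫ G.e by
        simp only [α, ← Category.assoc, SpecMap_comp, e1]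
        rw [← SpecMap_comp, Category.assoc, he, ← hν]
        simp only [Category.assoc, Iso.hom_inv_id_assoc])
      (show Spec.map (CommRingCat.ofHom (dualHom e.toRingHom)) ≫ β = ν by
        simp only [β, ν, ← Category.assoc, SpecMap_comp, e2])]
    exact mul_te rfl _
  have hfst : ∀ a, TrivSqZeroExt.fst (g a) = a := fun a => RingHom.congr_fun h1 a
  have hlin : ∀ (c : k) (a : A), g (c • a) = inlA (algebraMap k A c) * g a := fun c a => by
    rw [Algebra.smul_def, map_mul]
    exact congrArg (· * g a) (RingHom.congr_fun hgk c)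
  let L : A →ₗ[k] A :=
    { toFun := fun a => TrivSqZeroExt.snd (g a)
      map_add' := fun a b => by simp
      map_smul' := fun c a => by
        rw [hlin, RingHom.id_apply, Algebra.smul_def]
        simp [inlA, TrivSqZeroExt.inlHom] }
  refine ⟨Derivation.mk' L fun a b => ?_, fun a => ?_⟩
  · simp [L, hfst]; ring
  · have := congrArg TrivSqZeroExt.snd (RingHom.congr_fun h2 a)
    simpa [vp, dualHom_snd, L] using this

/-- A groupoid of finite type on a field of characteristic zero has a smooth point. -/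
theorem smoothLocus_nonempty [CharZero k] [LocallyOfFiniteType G.t] [LocallyOfFinitePresentation (G.t ≫ eU.hom)] :
    ((G.t ≫ eU.hom).smoothLocus : Set G.R).Nonempty := by
  let x₀ : G.R := (eU.inv ≫ G.e) (IsLocalRing.closedPoint k)
  obtain ⟨_, ⟨U, hU, rfl⟩, hx, -⟩ := G.R.isBasis_affineOpens.exists_subset_of_mem_open (Set.mem_univ x₀) isOpen_univ
  let V : G.R.Opens := U
  let hVaff : IsAffineOpen V := hU
  let A : Type u := Γ(G.R, V)
  let φ : CommRingCat.of k ⟶ Γ(G.R, V) := Spec.preimage (hVaff.fromSpec ≫ G.t ≫ eU.hom)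
  letI : Algebra k A := φ.hom.toAlgebra
  let j : Spec (CommRingCat.of A) ⟶ G.R := hVaff.fromSpec
  haveI : IsOpenImmersion j := hVaff.isOpenImmersion_fromSpec
  have hj : j ≫ G.t ≫ eU.hom = Spec.map (CommRingCat.ofHom (algebraMap k A)) := by
    rw [← Spec.map_preimage (j ≫ G.t ≫ eU.hom)]
    rfl
  haveI : Algebra.FiniteType k A := by
    have h : LocallyOfFiniteType (Spec.map (CommRingCat.ofHom (algebraMap k A))) := hj ▸ inferInstance
    exact RingHom.finiteType_algebraMap.mp ((HasRingHomProperty.Spec_iff (P := @LocallyOfFiniteType)).mp h)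
  have hru : Set.range ⇑(eU.inv ≫ G.e) ⊆ Set.range ⇑j := by
    rintro _ ⟨p, rfl⟩
    show _ ∈ Set.range hVaff.fromSpec
    rw [hVaff.range_fromSpec]
    rw [show p = IsLocalRing.closedPoint k from @Subsingleton.elim _ (inferInstanceAs (Subsingleton (PrimeSpectrum k))) _ _]
    exact hx
  obtain ⟨e', he'⟩ := Spec.map_surjective (IsOpenImmersion.lift j (eU.inv ≫ G.e) hru)
  have he₀ : Spec.map e' ≫ j = eU.inv ≫ G.e := by rw [he']; exact IsOpenImmersion.lift_fac _ _ _
  have hek : e'.hom.comp (algebraMap k A) = RingHom.id k := by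
    apply_fun CommRingCat.ofHom using fun a b h => congrArg CommRingCat.Hom.hom h
    apply Spec.map_injective
    rw [← SpecMap_comp, ← hj, show Spec.map (CommRingCat.ofHom e'.hom) = Spec.map e' from rfl, reassoc_of% he₀,
      reassoc_of% G.e_t, Iso.inv_hom_id]
    exact (Spec.map_id _).symm
  let e : A →ₐ[k] k := { e'.hom with commutes' := fun c => RingHom.congr_fun hek c }
  obtain ⟨s, hs, hnil⟩ := GrpSchLib.exists_smul_nilradical_eq_zero e (exists_derivation G eU j hj e he₀)
  let Rs := Localization.Away s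
  haveI : _root_.IsReduced Rs := by
    refine ⟨fun r ⟨n, hn⟩ => ?_⟩
    obtain ⟨a, ⟨t, ht⟩, rfl⟩ := IsLocalization.exists_mk'_eq (Submonoid.powers s) r
    rw [IsLocalization.mk'_eq_zero_iff]
    rw [← IsLocalization.mk'_pow, IsLocalization.mk'_eq_zero_iff] at hn
    obtain ⟨⟨c, m, rfl⟩, hc⟩ := hn
    refine ⟨⟨s ^ (m + 1), _, rfl⟩, ?_⟩
    have h : IsNilpotent (s ^ m * a) := ⟨n + 1, by
      rw [mul_pow, pow_succ a n]
      calc (s ^ m) ^ (n + 1) * (a ^ n * a) = (s ^ m) ^ n * a * (s ^ m * a ^ n) := by ring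
        _ = 0 := by rw [show s ^ m * a ^ n = 0 from hc, mul_zero]⟩
    show s ^ (m + 1) * a = 0
    rw [pow_succ', _root_.mul_assoc]
    exact hnil _ h
  let j' : Spec (CommRingCat.of Rs) ⟶ G.R := Spec.map (CommRingCat.ofHom (algebraMap A Rs)) ≫ j
  haveI : IsOpenImmersion j' := by
    haveI : IsOpenImmersion (Spec.map (CommRingCat.ofHom (algebraMap A Rs))) :=
      IsOpenImmersion.of_isLocalization s
    infer_instance
  haveI : AlgebraicGeometry.IsReduced (Spec (CommRingCat.of Rs)) := inferInstance
  haveI : Nonempty (Spec (CommRingCat.of Rs)) := by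
    refine ⟨⟨(RingHom.ker e).map (algebraMap A Rs), ?_⟩⟩
    exact IsLocalization.isPrime_of_isPrime_disjoint (Submonoid.powers s) _ _ (RingHom.ker_isPrime _)
      (Set.disjoint_left.mpr fun _ ⟨n, hn⟩ h => hs ((RingHom.ker_isPrime e).mem_of_pow_mem n (by rw [show s ^ n = _ from hn]; exact h)))
  obtain ⟨x, hx'⟩ := (Scheme.Hom.dense_smoothLocus_of_perfectField (j' ≫ G.t ≫ eU.hom)).nonempty
  refine ⟨j' x, ?_⟩
  have := (Scheme.Hom.preimage_smoothLocus_eq j' (G.t ≫ eU.hom)).ge hx'
  exact this

end Groth.Agent.FinGrpdLib
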