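import Groth.Agent.FinGrpdLib.Field
import Groth.Agent.S7457
import Groth.Agent.LocDimBC.Comp
/-!
A groupoid on a field is equidimensional.
-/

set_option autoImplicit false
set_option backward.isDefEq.respectTransparency false
universe u

open CategoryTheory CategoryTheory.Limits AlgebraicGeometry

namespace Groth.Agent.FinGrpdLib

/-- The local dimension is constant on a groupoid on a point. -/
theorem localDim_eq {S : Scheme.{u}} (G : Grpd.GroupoidScheme S) [IsIntegral G.U] [Subsingleton G.U]
    [LocallyOfFiniteType G.t] (b₀ r : G.R) : FlatMor.localDim G.R b₀ = FlatMor.localDim G.R r := by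
  let a := pullback.fst G.t G.t
  let b := pullback.snd G.t G.t
  let a' := pullback.fst G.s G.t
  let b' := pullback.snd G.s G.t
  have hab : (a ≫ G.i) ≫ G.s = b ≫ G.t := by rw [Category.assoc, G.i_s]; exact pullback.condition
  let φ : pullback G.t G.t ⟶ pullback G.s G.t :=
    pullback.lift a (mul G (a ≫ G.i) b hab) (by rw [mul_t, Category.assoc, G.i_t])
  have hφa : φ ≫ a' = a := pullback.lift_fst _ _ _
  obtain ⟨_, hc⟩ := (Groth.Agent.S7457.result S G).1 φ hφa (pullback.lift_snd _ _ _)
  haveI : LocallyOfFiniteType a' := MorphismProperty.pullback_fst _ _ ‹_›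
  obtain ⟨w, hw₁, hw₂⟩ := Scheme.Pullback.exists_preimage_pullback (f := G.s) (g := G.s) b₀ r (Subsingleton.elim _ _)
  obtain ⟨x, hx⟩ := φ.homeomorph.surjective ((isPullback_comp G).isoPullback.inv w)
  have hbx : b x = b₀ := by
    rw [show b = φ ≫ G.c from hc.symm, Scheme.Hom.comp_apply, show φ x = _ from hx, ← Scheme.Hom.comp_apply,
      IsPullback.isoPullback_inv_fst, hw₁]
  have hb'x : b' (φ x) = r := by
    rw [show φ x = _ from hx, ← Scheme.Hom.comp_apply, IsPullback.isoPullback_inv_snd, hw₂]
  rw [DimFormulaLib.localDim_eq_fibreDimAt_of_subsingleton G.t, DimFormulaLib.localDim_eq_fibreDimAt_of_subsingleton G.t,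
    ← hbx, ← hb'x,
    ← LocDimBC.fibreDimAt_baseChange (IsPullback.of_hasPullback G.t G.t).flip x,
    ← LocDimBC.fibreDimAt_baseChange (IsPullback.of_hasPullback G.s G.t).flip (φ x)]
  exact LocDimBC.fibreDimAt_baseChange (g := 𝟙 _) (IsPullback.of_horiz_isIso (f := a') ⟨hφa.trans (Category.comp_id _).symm⟩) x

/-- The local dimension is the dimension. -/
theorem localDim_eq_dim {S : Scheme.{u}} (G : Grpd.GroupoidScheme S) [IsIntegral G.U] [Subsingleton G.U]
    [LocallyOfFiniteType G.t] (r : G.R) : FlatMor.localDim G.R r = topologicalKrullDim G.R := by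
  rw [DimFormulaLib.topologicalKrullDim_eq_iSup_localDim]
  refine le_antisymm (le_iSup (fun x => FlatMor.localDim (G.R : Type u) x) r) (iSup_le fun x => ?_)
  rw [localDim_eq G x r]

end Groth.Agent.FinGrpdLib
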