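import Groth.Agent.FinGrpdLib.Field
import Groth.Agent.S2155
import Groth.Agent.S7457
/-!
A groupoid on a field is smooth as soon as it is smooth somewhere.
-/

set_option autoImplicit false
set_option backward.isDefEq.respectTransparency false
universe u

open CategoryTheory CategoryTheory.Limits AlgebraicGeometry

namespace Groth.Agent.FinGrpdLib

/-- A groupoid on a point whose target is smooth somewhere is smooth. -/
theorem smooth_of_smoothLocus {S : Scheme.{u}} (G : Grpd.GroupoidScheme S) [IsIntegral G.U] [Subsingleton G.U]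
    [LocallyOfFinitePresentation G.t] [LocallyOfFinitePresentation G.s] (hne : (G.t.smoothLocus : Set G.R).Nonempty) :
    Smooth G.s ∧ Smooth G.t := by
  suffices ht : Smooth G.t by
    refine ⟨?_, ht⟩
    haveI := isIso_i G
    rw [← G.i_t]
    infer_instance
  rw [← Scheme.Hom.smoothLocus_eq_top_iff, eq_top_iff]
  intro r _
  obtain ⟨b₀, hb₀⟩ := hne
  let a := pullback.fst G.t G.t
  let b := pullback.snd G.t G.t
  let a' := pullback.fst G.s G.t
  let b' := pullback.snd G.s G.t
  have hab : (a ≫ G.i) ≫ G.s = b ≫ G.t := by rw [Category.assoc, G.i_s]; exact pullback.condition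
  let φ : pullback G.t G.t ⟶ pullback G.s G.t :=
    pullback.lift a (mul G (a ≫ G.i) b hab) (by rw [mul_t, Category.assoc, G.i_t])
  have hφa : φ ≫ a' = a := pullback.lift_fst _ _ _
  obtain ⟨_, hc⟩ := (Groth.Agent.S7457.result S G).1 φ hφa (pullback.lift_snd _ _ _)
  have h₁ : a.smoothLocus = b ⁻¹ᵁ G.t.smoothLocus :=
    Groth.Agent.S2155.result G.t G.t a b (IsPullback.of_hasPullback G.t G.t).flip (Or.inr inferInstance)
  have h₂ : a'.smoothLocus = b' ⁻¹ᵁ G.t.smoothLocus :=
    Groth.Agent.S2155.result G.t G.s a' b' (IsPullback.of_hasPullback G.s G.t).flip (Or.inr inferInstance)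
  have key : φ ⁻¹ᵁ (b' ⁻¹ᵁ G.t.smoothLocus) = b ⁻¹ᵁ G.t.smoothLocus := by
    rw [← h₂, ← h₁, Scheme.Hom.preimage_smoothLocus_eq]
    simp only [hφa]
  obtain ⟨w, hw₁, hw₂⟩ := Scheme.Pullback.exists_preimage_pullback (f := G.s) (g := G.s) b₀ r (Subsingleton.elim _ _)
  obtain ⟨x, hx⟩ := φ.homeomorph.surjective ((isPullback_comp G).isoPullback.inv w)
  have hbx : b x = b₀ := by
    rw [show b = φ ≫ G.c from hc.symm, Scheme.Hom.comp_apply, show φ x = _ from hx, ← Scheme.Hom.comp_apply, IsPullback.isoPullback_inv_fst, hw₁]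
  have hb'x : b' (φ x) = r := by
    rw [show φ x = _ from hx, ← Scheme.Hom.comp_apply, IsPullback.isoPullback_inv_snd, hw₂]
  have : x ∈ φ ⁻¹ᵁ (b' ⁻¹ᵁ G.t.smoothLocus) := by
    rw [key]; show b x ∈ G.t.smoothLocus; rw [hbx]; exact hb₀
  have h : b' (φ x) ∈ G.t.smoothLocus := this
  rwa [hb'x] at h

end Groth.Agent.FinGrpdLib
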