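import Groth.Agent.FinGrpdLib.Orbit
/-!
Finite sets of points in separated locally quasi-finite schemes over affine schemes lie in affine opens.
-/

set_option autoImplicit false
set_option backward.isDefEq.respectTransparency false
universe u

open CategoryTheory CategoryTheory.Limits AlgebraicGeometry TopologicalSpace

namespace Groth.Agent.FinGrpdLib

theorem exists_affine_of_finite {R X : Scheme.{u}} [IsAffine X] (f : R ⟶ X) [IsSeparated f] [LocallyQuasiFinite f]
    [LocallyOfFiniteType f] {F : Set R} (hF : F.Finite) : ∃ V : R.Opens, IsAffineOpen V ∧ F ⊆ (V : Set R) := by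
  have hch : ∀ x : R, ∃ W : R.Opens, IsAffineOpen W ∧ x ∈ W := fun x => by
    obtain ⟨_, ⟨W, hW, rfl⟩, hx, -⟩ :=
      R.isBasis_affineOpens.exists_subset_of_mem_open (Set.mem_univ x) isOpen_univ
    exact ⟨W, hW, hx⟩
  choose W hW hxW using hch
  let O : R.Opens := ⨆ x ∈ hF.toFinset, W x
  have hOc : IsCompact (O : Set R) := by
    simp only [O, Opens.coe_iSup]
    exact hF.toFinset.finite_toSet.isCompact_biUnion fun x _ => (hW x).isCompact
  have hFO : F ⊆ (O : Set R) := fun x hx =>
    Opens.mem_iSup.2 ⟨x, Opens.mem_iSup.2 ⟨hF.mem_toFinset.2 hx, hxW x⟩⟩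
  haveI : CompactSpace O.toScheme := isCompact_iff_compactSpace.1 hOc
  let g := O.ι ≫ f
  haveI : QuasiCompact g := (quasiCompact_iff_compactSpace g).2 inferInstance
  haveI : IsAffine g.normalization := isAffine_of_isAffineHom g.fromNormalization
  let ν := g.toNormalization
  haveI : IsOpenImmersion ν := inferInstance
  haveI := hF.to_subtype
  obtain ⟨φ, hφ, hφx⟩ := exists_basicOpen_mem (isAffineOpen_top g.normalization) ν.opensRange
    (fun x : F => ν ⟨x.1, hFO x.2⟩) (fun _ => trivial) (fun x => ⟨_, rfl⟩)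
  refine ⟨O.ι ''ᵁ (ν ⁻¹ᵁ g.normalization.basicOpen φ), ?_, fun x hx => ⟨⟨x, hFO hx⟩, hφx ⟨x, hx⟩, rfl⟩⟩
  exact (((isAffineOpen_top g.normalization).basicOpen φ).preimage_of_isOpenImmersion ν hφ).image_of_isOpenImmersion O.ι

end Groth.Agent.FinGrpdLib
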