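import Groth.Agent.FinGrpdLib.Points2
import Groth.Agent.FinGrpdLib.QFAffine
import Groth.Agent.FinGrpdLib.EqvQuot
/-!
The action of a finite locally free subgroupoid on the arrows.
-/

set_option autoImplicit false
set_option backward.isDefEq.respectTransparency false
universe u

open CategoryTheory CategoryTheory.Limits AlgebraicGeometry

noncomputable section

namespace Groth.Agent.FinGrpdLib

variable {S : Scheme.{u}} {G : Grpd.GroupoidScheme S} {P : Scheme.{u}}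

/-- A subgroupoid which is an equivalence relation. -/
structure SubGrpd (G : Grpd.GroupoidScheme S) {P : Scheme.{u}} (ιP : P ⟶ G.R) : Prop where
  mono : Mono ιP
  he : ∃ eP : G.U ⟶ P, eP ≫ ιP = G.e
  hi : ∃ iP : P ⟶ P, iP ≫ ιP = ιP ≫ G.i
  hc : ∃ cP : pullback (ιP ≫ G.s) (ιP ≫ G.t) ⟶ P,
    cP ≫ ιP = pullback.map (ιP ≫ G.s) (ιP ≫ G.t) G.s G.t ιP ιP (𝟙 G.U) (Category.comp_id _) (Category.comp_id _) ≫ G.c
  jointly : Mono (ιP ≫ G.j)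

variable {ιP : P ⟶ G.R}

/-- An arrow in the subgroupoid. -/
def InP (ιP : P ⟶ G.R) {T : Scheme.{u}} {X Y : Pt G T} (f : X ⟶ Y) : Prop := ∃ a : T ⟶ P, a ≫ ιP = f.1

variable (hP : SubGrpd G ιP)
include hP

theorem InP.id {T : Scheme.{u}} (X : Pt G T) : InP ιP (𝟙 X) := by
  obtain ⟨eP, he⟩ := hP.he
  exact ⟨X.pt ≫ eP, by rw [Category.assoc, he]; rfl⟩

theorem InP.inv {T : Scheme.{u}} {X Y : Pt G T} {f : X ⟶ Y} (hf : InP ιP f) : InP ιP (Groupoid.inv f) := by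
  obtain ⟨iP, hi⟩ := hP.hi
  obtain ⟨a, ha⟩ := hf
  exact ⟨a ≫ iP, by rw [Category.assoc, hi, ← Category.assoc, ha]; rfl⟩

theorem InP.comp {T : Scheme.{u}} {X Y Z : Pt G T} {f : X ⟶ Y} {g : Y ⟶ Z} (hf : InP ιP f) (hg : InP ιP g) :
    InP ιP (f ≫ g) := by
  obtain ⟨cP, hc⟩ := hP.hc
  obtain ⟨a, ha⟩ := hf
  obtain ⟨b, hb⟩ := hg
  refine ⟨pullback.lift b a ?_ ≫ cP, ?_⟩
  · rw [← Category.assoc, hb, ← Category.assoc, ha, g.2.1, f.2.2]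
  · rw [Category.assoc, hc, comp_val, mul, ← Category.assoc]
    congr 1
    apply pullback.hom_ext <;> simp [ha, hb]

theorem InP.ext {T : Scheme.{u}} {X Y : Pt G T} {f g : X ⟶ Y} (hf : InP ιP f) (hg : InP ιP g) : f = g := by
  haveI := hP.jointly
  obtain ⟨a, ha⟩ := hf
  obtain ⟨b, hb⟩ := hg
  apply Subtype.ext
  rw [← ha, ← hb]
  congr 1
  rw [← cancel_mono (ιP ≫ G.j), ← Category.assoc, ← Category.assoc, ha, hb]
  apply pullback.hom_ext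
  · simp only [Category.assoc, Grpd.GroupoidScheme.j, pullback.lift_fst, f.2.2, g.2.2]
  · simp only [Category.assoc, Grpd.GroupoidScheme.j, pullback.lift_snd, f.2.1, g.2.1]

omit hP in
theorem InP.pullHom {T T' : Scheme.{u}} (γ : T' ⟶ T) {X Y : Pt G T} {f : X ⟶ Y} (hf : InP ιP f) :
    InP ιP (pullHom γ f) := by
  obtain ⟨a, ha⟩ := hf
  exact ⟨γ ≫ a, by rw [Category.assoc, ha]; rfl⟩

omit hP in
/-- Two points of the arrows differ by the subgroupoid on both sides. -/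
def Act (ιP : P ⟶ G.R) {T : Scheme.{u}} (r r' : T ⟶ G.R) : Prop :=
  ∃ (X' Y' : Pt G T) (d : X' ⟶ ⟨r ≫ G.s⟩) (a : ⟨r ≫ G.t⟩ ⟶ Y'),
    InP ιP d ∧ InP ιP a ∧ (d ≫ arr r ≫ a).1 = r'

omit hP in
theorem Act.mk {T : Scheme.{u}} {X' X Y Y' : Pt G T} (f : X ⟶ Y) {d : X' ⟶ X} {a : Y ⟶ Y'} (hd : InP ιP d)
    (ha : InP ιP a) : Act ιP f.1 (d ≫ f ≫ a).1 := by
  obtain ⟨x⟩ := X
  obtain ⟨y⟩ := Y
  obtain ⟨α, (rfl : α ≫ G.s = x), (rfl : α ≫ G.t = y)⟩ := f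
  exact ⟨X', Y', d, a, hd, ha, rfl⟩

omit hP in
theorem Act.elim {T : Scheme.{u}} {X' X Y Y' : Pt G T} {f : X ⟶ Y} {g : X' ⟶ Y'} (h : Act ιP f.1 g.1) :
    ∃ (d : X' ⟶ X) (a : Y ⟶ Y'), InP ιP d ∧ InP ιP a ∧ d ≫ f ≫ a = g := by
  obtain ⟨x⟩ := X
  obtain ⟨y⟩ := Y
  obtain ⟨x'⟩ := X'
  obtain ⟨y'⟩ := Y'
  obtain ⟨α, (rfl : α ≫ G.s = x), (rfl : α ≫ G.t = y)⟩ := f
  obtain ⟨⟨x''⟩, ⟨y''⟩, d, a, hd, ha, e⟩ := h
  obtain rfl : x'' = x' := (((d ≫ arr α ≫ a).2.1.symm.trans (congrArg (· ≫ G.s) e)).trans g.2.1)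
  obtain rfl : y'' = y' := (((d ≫ arr α ≫ a).2.2.symm.trans (congrArg (· ≫ G.t) e)).trans g.2.2)
  exact ⟨d, a, hd, ha, Subtype.ext e⟩

theorem Act.refl {T : Scheme.{u}} (r : T ⟶ G.R) : Act ιP r r := by
  have := Act.mk (ιP := ιP) (arr r) (InP.id hP _) (InP.id hP _)
  rwa [Category.id_comp, Category.comp_id] at this

theorem Act.symm {T : Scheme.{u}} {r r' : T ⟶ G.R} (h : Act ιP r r') : Act ιP r' r := by
  obtain ⟨d, a, hd, ha, e⟩ := Act.elim (f := arr r) (g := arr r') h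
  have e' : Groupoid.inv d ≫ arr r' ≫ Groupoid.inv a = arr r := by
    rw [← e, Category.assoc, Category.assoc, Groupoid.comp_inv, Category.comp_id, ← Category.assoc,
      Groupoid.inv_comp, Category.id_comp]
  have := Act.mk (arr r') (InP.inv hP hd) (InP.inv hP ha)
  rw [e'] at this
  exact this

theorem Act.trans {T : Scheme.{u}} {r r' r'' : T ⟶ G.R} (h : Act ιP r r') (h' : Act ιP r' r'') : Act ιP r r'' := by
  obtain ⟨d, a, hd, ha, e⟩ := Act.elim (f := arr r) (g := arr r') h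
  obtain ⟨d', a', hd', ha', e'⟩ := Act.elim (f := arr r') (g := arr r'') h'
  have := Act.mk (arr r) (InP.comp hP hd' hd) (InP.comp hP ha ha')
  rw [show (d' ≫ d) ≫ arr r ≫ a ≫ a' = arr r'' by rw [← e', ← e]; simp only [Category.assoc]] at this
  exact this

/-- The action is a finite locally free equivalence relation on the arrows. -/
theorem exists_rel [IsFinite (ιP ≫ G.s)] [Flat (ιP ≫ G.s)] [LocallyOfFinitePresentation (ιP ≫ G.s)]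
    [IsFinite (ιP ≫ G.t)] [Flat (ιP ≫ G.t)] [LocallyOfFinitePresentation (ιP ≫ G.t)] :
    ∃ (E : Over S) (σ τ : E ⟶ Over.mk G.pR),
      (IsFinite σ.left ∧ Flat σ.left ∧ LocallyOfFinitePresentation σ.left) ∧ _root_.AlgSp.IsEqvRel σ τ ∧
      ∀ (T : Scheme.{u}) (r r' : T ⟶ G.R), (∃ z : T ⟶ E.left, z ≫ σ.left = r ∧ z ≫ τ.left = r') ↔ Act ιP r r' := by
  haveI := hP.mono
  let π₂ := pullback.snd (ιP ≫ G.s) G.t
  let E₀ := pullback (π₂ ≫ G.s) (ιP ≫ G.t)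
  let A : E₀ ⟶ G.R := pullback.fst _ _ ≫ pullback.fst (ιP ≫ G.s) G.t ≫ ιP
  let σ₀ : E₀ ⟶ G.R := pullback.fst _ _ ≫ π₂
  let D : E₀ ⟶ G.R := pullback.snd (π₂ ≫ G.s) (ιP ≫ G.t) ≫ ιP
  have h₁ : A ≫ G.s = σ₀ ≫ G.t := by simp only [A, σ₀, π₂, Category.assoc, pullback.condition]
  have h₂ : D ≫ G.t = σ₀ ≫ G.s := by simp only [D, σ₀, Category.assoc, pullback.condition]
  let fd : (⟨D ≫ G.s⟩ : Pt G E₀) ⟶ ⟨σ₀ ≫ G.s⟩ := ⟨D, rfl, h₂⟩
  let fa : (⟨σ₀ ≫ G.t⟩ : Pt G E₀) ⟶ ⟨A ≫ G.t⟩ := ⟨A, h₁, rfl⟩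
  let τ₀ : E₀ ⟶ G.R := (fd ≫ arr σ₀ ≫ fa).1
  have hτ : τ₀ ≫ G.pR = σ₀ ≫ G.pR := by
    rw [← G.s_over, ← Category.assoc, show τ₀ ≫ G.s = D ≫ G.s from (fd ≫ arr σ₀ ≫ fa).2.1, Category.assoc, G.s_over,
      ← G.t_over, ← Category.assoc, h₂, Category.assoc, G.t_over, G.s_over]
  let E : Over S := Over.mk (σ₀ ≫ G.pR)
  let σ : E ⟶ Over.mk G.pR := Over.homMk σ₀ rfl
  let τ : E ⟶ Over.mk G.pR := Over.homMk τ₀ hτ
  have key : ∀ (T : Scheme.{u}) (r r' : T ⟶ G.R),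
      (∃ z : T ⟶ E₀, z ≫ σ₀ = r ∧ z ≫ τ₀ = r') ↔ Act ιP r r' := by
    intro T r r'
    constructor
    · rintro ⟨z, rfl, rfl⟩
      have hd : InP ιP (pullHom z fd) := InP.pullHom z ⟨pullback.snd _ _, rfl⟩
      have ha : InP ιP (pullHom z fa) := InP.pullHom z
        ⟨pullback.fst _ _ ≫ pullback.fst (ιP ≫ G.s) G.t, Category.assoc _ _ _⟩
      have := Act.mk (pullHom z (arr σ₀)) hd ha
      rw [← pullHom_comp, ← pullHom_comp] at this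
      exact this
    · rintro ⟨X', Y', d, a, ⟨d₀, hd₀⟩, ⟨a₀, ha₀⟩, rfl⟩
      let z : T ⟶ E₀ := pullback.lift (pullback.lift a₀ r (by rw [← Category.assoc, ha₀]; exact a.2.1)) d₀
        (by rw [← Category.assoc, pullback.lift_snd, ← Category.assoc, hd₀]; exact d.2.2.symm)
      have hz : z ≫ σ₀ = r := by simp [z, σ₀, π₂]
      have hzD : z ≫ D = d.1 := by simp [z, D, hd₀]
      have hzA : z ≫ A = a.1 := by simp [z, A, ha₀]
      refine ⟨z, hz, ?_⟩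
      change z ≫ mul G (mul G A σ₀ _) D _ = mul G (mul G a.1 r _) d.1 _
      rw [comp_mul]
      refine mul_congr ?_ hzD _
      rw [comp_mul]
      exact mul_congr hzA hz _
  refine ⟨E, σ, τ, ?_, ⟨fun T z z' hτz hσz => ?_, fun T => ⟨fun x => ?_, fun {x y} hxy => ?_, fun {x y w} hxy hyw => ?_⟩⟩, key⟩
  · haveI : IsFinite π₂ := MorphismProperty.pullback_snd _ _ ‹IsFinite (ιP ≫ G.s)›
    haveI : Flat π₂ := MorphismProperty.pullback_snd _ _ ‹Flat (ιP ≫ G.s)›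
    haveI : LocallyOfFinitePresentation π₂ := MorphismProperty.pullback_snd _ _ ‹LocallyOfFinitePresentation (ιP ≫ G.s)›
    haveI : IsFinite (pullback.fst (π₂ ≫ G.s) (ιP ≫ G.t)) := MorphismProperty.pullback_fst _ _ ‹_›
    haveI : Flat (pullback.fst (π₂ ≫ G.s) (ιP ≫ G.t)) := MorphismProperty.pullback_fst _ _ ‹_›
    haveI : LocallyOfFinitePresentation (pullback.fst (π₂ ≫ G.s) (ιP ≫ G.t)) :=
      MorphismProperty.pullback_fst _ _ ‹_›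
    exact ⟨inferInstanceAs (IsFinite σ₀), inferInstanceAs (Flat σ₀), inferInstanceAs (LocallyOfFinitePresentation σ₀)⟩
  · have hs : z.left ≫ σ₀ = z'.left ≫ σ₀ := congrArg CommaMorphism.left hσz
    have ht : z.left ≫ τ₀ = z'.left ≫ τ₀ := congrArg CommaMorphism.left hτz
    have w₁ : ∀ (y : T.left ⟶ E₀) {k m : E₀ ⟶ G.R} {φ ψ : G.R ⟶ G.U}, k ≫ φ = m ≫ ψ → (y ≫ k) ≫ φ = (y ≫ m) ≫ ψ :=
      fun y => fun h => (Category.assoc _ _ _).trans ((congrArg (y ≫ ·) h).trans (Category.assoc _ _ _).symm)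
    have eτs : τ₀ ≫ G.s = D ≫ G.s := (fd ≫ arr σ₀ ≫ fa).2.1
    have eτt : τ₀ ≫ G.t = A ≫ G.t := (fd ≫ arr σ₀ ≫ fa).2.2
    have htD : (z.left ≫ D) ≫ G.t = (z'.left ≫ D) ≫ G.t :=
      (w₁ z.left h₂).trans ((congrArg (· ≫ G.s) hs).trans (w₁ z'.left h₂).symm)
    have hsD : (z.left ≫ D) ≫ G.s = (z'.left ≫ D) ≫ G.s :=
      (w₁ z.left eτs).symm.trans ((congrArg (· ≫ G.s) ht).trans (w₁ z'.left eτs))
    have hsA : (z.left ≫ A) ≫ G.s = (z'.left ≫ A) ≫ G.s :=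
      (w₁ z.left h₁).trans ((congrArg (· ≫ G.t) hs).trans (w₁ z'.left h₁).symm)
    have htA : (z.left ≫ A) ≫ G.t = (z'.left ≫ A) ≫ G.t :=
      (w₁ z.left eτt).symm.trans ((congrArg (· ≫ G.t) ht).trans (w₁ z'.left eτt))
    let XD : Pt G T.left := ⟨(z.left ≫ D) ≫ G.s⟩
    let YD : Pt G T.left := ⟨(z.left ≫ D) ≫ G.t⟩
    have eD : z.left ≫ D = z'.left ≫ D := congrArg Subtype.val (InP.ext hP
      (f := (⟨z.left ≫ D, rfl, rfl⟩ : XD ⟶ YD)) (g := ⟨z'.left ≫ D, hsD.symm, htD.symm⟩)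
      ⟨z.left ≫ pullback.snd _ _, Category.assoc _ _ _⟩ ⟨z'.left ≫ pullback.snd _ _, Category.assoc _ _ _⟩)
    let XA : Pt G T.left := ⟨(z.left ≫ A) ≫ G.s⟩
    let YA : Pt G T.left := ⟨(z.left ≫ A) ≫ G.t⟩
    have eA : z.left ≫ A = z'.left ≫ A := congrArg Subtype.val (InP.ext hP
      (f := (⟨z.left ≫ A, rfl, rfl⟩ : XA ⟶ YA)) (g := ⟨z'.left ≫ A, hsA.symm, htA.symm⟩)
      ⟨z.left ≫ pullback.fst _ _ ≫ pullback.fst (ιP ≫ G.s) G.t, by simp [A]⟩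
      ⟨z'.left ≫ pullback.fst _ _ ≫ pullback.fst (ιP ≫ G.s) G.t, by simp [A]⟩)
    apply Over.OverMorphism.ext
    apply pullback.hom_ext
    · apply pullback.hom_ext
      · rw [← cancel_mono ιP]
        simpa [A] using eA
      · simpa [σ₀, π₂] using hs
    · rw [← cancel_mono ιP]
      simpa [D] using eD
  all_goals
    have key' : ∀ a b : T ⟶ Over.mk G.pR, (∃ r : T ⟶ E, r ≫ τ = a ∧ r ≫ σ = b) ↔ Act ιP b.left a.left := by
      intro a b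
      rw [← key]
      constructor
      · rintro ⟨r, rfl, rfl⟩; exact ⟨r.left, rfl, rfl⟩
      · rintro ⟨z, hz₁, hz₂⟩
        refine ⟨Over.homMk z ?_, Over.OverMorphism.ext hz₂, Over.OverMorphism.ext hz₁⟩
        change z ≫ σ₀ ≫ G.pR = T.hom
        rw [← Category.assoc, hz₁]
        exact Over.w b
  · exact (key' x x).2 (Act.refl hP _)
  · exact (key' _ _).2 (Act.symm hP ((key' _ _).1 hxy))
  · exact (key' _ _).2 (Act.trans hP ((key' _ _).1 hyw) ((key' _ _).1 hxy))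

end Groth.Agent.FinGrpdLib
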