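import Groth.Agent.FinGrpdLib.Affine
/-!
Quotients of groupoid schemes with finite locally free source when orbits lie in affine opens.
-/

set_option autoImplicit false
set_option backward.isDefEq.respectTransparency false
universe u

open CategoryTheory CategoryTheory.Limits AlgebraicGeometry Opposite TopologicalSpace

noncomputable section

namespace Groth.Agent.FinGrpdLib

variable {S : Scheme.{u}} (G : Grpd.GroupoidScheme S)

/-- Invariant affine opens. -/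
abbrev InvAff : Type u := {W : G.U.Opens // IsAffineOpen W ∧ G.s ⁻¹ᵁ W = G.t ⁻¹ᵁ W}

/-- Orbits lie in affine opens. -/
def OrbitsAffine : Prop := ∀ x : G.U, ∃ V : G.U.Opens, IsAffineOpen V ∧ ∀ y, Rel G y x → y ∈ V

variable {G}

/-- The restricted groupoid. -/
abbrev resA (W : InvAff G) : Grpd.GroupoidScheme S := res G W.1 W.2.2

/-- The affine quotient of an invariant affine open. -/
def QObj (W : InvAff G) : Scheme.{u} := Spec (CommRingCat.of (resA W).invariants)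

/-- The quotient map of an invariant affine open. -/
def qMap (W : InvAff G) : W.1.toScheme ⟶ QObj W := (resA W).toQuot

instance (W : InvAff G) : IsAffine (QObj W) := inferInstanceAs (IsAffine (Spec _))

variable [IsFinite G.s] [Flat G.s] [LocallyOfFinitePresentation G.s]

theorem isAffine_resA (W : InvAff G) : IsAffine (resA W).U ∧ IsAffine (resA W).R :=
  ⟨W.2.1, W.2.1.preimage G.s⟩

theorem isQ_qMap (W : InvAff G) : IsQ (resA W).s (resA W).t (qMap W) :=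
  haveI := (isAffine_resA W).1
  haveI := (isAffine_resA W).2
  isQ_toQuot (resA W)

theorem qMap_fibre {W : InvAff G} {a b : W.1.toScheme} (h : qMap W a = qMap W b) : Rel G (W.1.ι a) (W.1.ι b) := by
  obtain ⟨r, hr₁, hr₂⟩ := (isQ_qMap W).fibre a b h
  refine ⟨(G.s ⁻¹ᵁ W.1).ι r, ?_, ?_⟩
  · rw [← Scheme.Hom.comp_apply, ← Scheme.Hom.resLE_comp_ι G.t W.2.2.le, Scheme.Hom.comp_apply]
    exact congrArg W.1.ι hr₁
  · rw [← Scheme.Hom.comp_apply, ← morphismRestrict_ι, Scheme.Hom.comp_apply]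
    exact congrArg W.1.ι hr₂

theorem qMap_eq {W : InvAff G} {a b : W.1.toScheme} (h : Rel G (W.1.ι a) (W.1.ι b)) : qMap W a = qMap W b := by
  obtain ⟨r, hr₁, hr₂⟩ := h
  have hr : r ∈ G.s ⁻¹ᵁ W.1 := by
    change G.s r ∈ W.1
    rw [hr₂]
    exact b.2
  let r' : (resA W).R := (⟨r, hr⟩ : (G.s ⁻¹ᵁ W.1).toScheme)
  have e₁ : (resA W).t r' = a := W.1.ι.isOpenEmbedding.injective (by
    change (G.t.resLE W.1 (G.s ⁻¹ᵁ W.1) W.2.2.le ≫ W.1.ι) ⟨r, hr⟩ = _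
    rw [Scheme.Hom.resLE_comp_ι]
    exact hr₁)
  have e₂ : (resA W).s r' = b := W.1.ι.isOpenEmbedding.injective (by
    change ((G.s ∣_ W.1) ≫ W.1.ι) ⟨r, hr⟩ = _
    rw [morphismRestrict_ι]
    exact hr₂)
  rw [← e₁, ← e₂]
  exact (congrArg (fun k => k r') (isQ_qMap W).w).symm

theorem mapHom_cond {W V : InvAff G} (h : W.1 ≤ V.1) :
    (resA W).s ≫ G.U.homOfLE h ≫ qMap V = (resA W).t ≫ G.U.homOfLE h ≫ qMap V := by
  rw [← Category.assoc, ← Category.assoc]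
  refine res_eq G V.1 V.2.2 _ _ (G.s ⁻¹ᵁ W.1).ι ?_ ?_ _ (isQ_qMap V).w
  · rw [Category.assoc, Scheme.homOfLE_ι]
    exact (morphismRestrict_ι _ _).symm
  · rw [Category.assoc, Scheme.homOfLE_ι]
    exact (Scheme.Hom.resLE_comp_ι _ _).symm

/-- The transition maps. -/
def mapHom {W V : InvAff G} (h : W.1 ≤ V.1) : QObj W ⟶ QObj V :=
  (isQ_qMap W).desc (G.U.homOfLE h ≫ qMap V) (mapHom_cond h)

theorem qMap_mapHom {W V : InvAff G} (h : W.1 ≤ V.1) : qMap W ≫ mapHom h = G.U.homOfLE h ≫ qMap V :=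
  (isQ_qMap W).fac _ (mapHom_cond h)

variable (G) in
/-- The diagram of affine quotients. -/
def diagram : InvAff G ⥤ Scheme.{u} where
  obj W := QObj W
  map f := mapHom (leOfHom f)
  map_id W := (isQ_qMap W).hom_ext (by
    rw [qMap_mapHom, Scheme.homOfLE_rfl]
    exact (Category.id_comp _).trans (Category.comp_id _).symm)
  map_comp {U V W} f g := (isQ_qMap U).hom_ext (by
    rw [qMap_mapHom, ← Category.assoc, qMap_mapHom, Category.assoc, qMap_mapHom, Scheme.homOfLE_homOfLE_assoc])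

theorem isOpenImmersion_mapHom {W V : InvAff G} (h : W.1 ≤ V.1) : IsOpenImmersion (mapHom h) := by
  let T : Set V.1.toScheme := {a | V.1.ι a ∈ W.1}
  have hT : IsOpen T := W.1.2.preimage V.1.ι.continuous
  have hpre : qMap V ⁻¹' (qMap V '' T) = T := by
    refine Set.Subset.antisymm ?_ (Set.subset_preimage_image _ _)
    rintro a ⟨b, hb, hab⟩
    exact ((invariant_iff G W.1).1 W.2.2) (qMap_fibre hab) hb
  have himg : IsOpen (qMap V '' T) := by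
    refine ((isQ_qMap V).isQuotientMap.isOpen_preimage).1 ?_
    exact (congrArg IsOpen hpre).mpr hT
  let O : (QObj V).Opens := ⟨qMap V '' T, himg⟩
  have hmemO : ∀ a, a ∈ qMap V ⁻¹ᵁ O ↔ V.1.ι a ∈ W.1 := fun a => Set.ext_iff.1 hpre a
  have ht : (resA V).s ⁻¹ᵁ (qMap V ⁻¹ᵁ O) ≤ (resA V).t ⁻¹ᵁ (qMap V ⁻¹ᵁ O) := fun r hr => by
    change ((resA V).t ≫ qMap V) r ∈ O
    rw [← (isQ_qMap V).w]
    exact hr
  have hq := (isQ_qMap V).restrict O ht
  have hr : Set.range ((qMap V ⁻¹ᵁ O).ι ≫ V.1.ι) ⊆ Set.range W.1.ι := by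
    rw [Scheme.Opens.range_ι]
    rintro _ ⟨a, rfl⟩
    exact (hmemO _).1 a.2
  let k₁ : (qMap V ⁻¹ᵁ O).toScheme ⟶ W.1.toScheme := IsOpenImmersion.lift W.1.ι ((qMap V ⁻¹ᵁ O).ι ≫ V.1.ι) hr
  have hk₁ : k₁ ≫ W.1.ι = (qMap V ⁻¹ᵁ O).ι ≫ V.1.ι := IsOpenImmersion.lift_fac _ _ _
  have hr2 : Set.range (G.U.homOfLE h) ⊆ Set.range (qMap V ⁻¹ᵁ O).ι := by
    rw [Scheme.Opens.range_ι]
    rintro _ ⟨a, rfl⟩
    refine (hmemO _).2 ?_
    rw [← Scheme.Hom.comp_apply, Scheme.homOfLE_ι]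
    exact a.2
  let k₂ : W.1.toScheme ⟶ (qMap V ⁻¹ᵁ O).toScheme := IsOpenImmersion.lift (qMap V ⁻¹ᵁ O).ι (G.U.homOfLE h) hr2
  have hk₂ : k₂ ≫ (qMap V ⁻¹ᵁ O).ι = G.U.homOfLE h := IsOpenImmersion.lift_fac _ _ _
  let d₁ : O.toScheme ⟶ QObj W := hq.desc (k₁ ≫ qMap W) (by
    rw [← Category.assoc, ← Category.assoc]
    refine res_eq G W.1 W.2.2 _ _ (((resA V).s ⁻¹ᵁ (qMap V ⁻¹ᵁ O)).ι ≫ (G.s ⁻¹ᵁ V.1).ι) ?_ ?_ _ (isQ_qMap W).w
    · rw [Category.assoc, Category.assoc, hk₁, morphismRestrict_ι_assoc]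
      exact congrArg _ (morphismRestrict_ι _ _).symm
    · rw [Category.assoc, Category.assoc, hk₁, Scheme.Hom.resLE_comp_ι_assoc]
      exact congrArg _ (Scheme.Hom.resLE_comp_ι _ _).symm)
  have hd₁ : (qMap V ∣_ O) ≫ d₁ = k₁ ≫ qMap W := hq.fac _ _
  let d₂ : QObj W ⟶ O.toScheme := (isQ_qMap W).desc (k₂ ≫ (qMap V ∣_ O)) (by
    rw [← cancel_mono O.ι]
    simp only [Category.assoc, morphismRestrict_ι, reassoc_of% hk₂]
    exact mapHom_cond h)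
  have hd₂ : qMap W ≫ d₂ = k₂ ≫ (qMap V ∣_ O) := (isQ_qMap W).fac _ _
  have h12 : k₂ ≫ k₁ = 𝟙 _ := by
    rw [← cancel_mono W.1.ι, Category.assoc, hk₁, reassoc_of% hk₂, Scheme.homOfLE_ι, Category.id_comp]
  have h21 : k₁ ≫ k₂ = 𝟙 _ := by
    rw [← cancel_mono (qMap V ⁻¹ᵁ O).ι, Category.assoc, hk₂, Category.id_comp, ← cancel_mono V.1.ι,
      Category.assoc, Scheme.homOfLE_ι, hk₁]
  haveI : IsIso d₂ := ⟨d₁, (isQ_qMap W).hom_ext (by
      rw [← Category.assoc, hd₂, Category.assoc, hd₁, ← Category.assoc, h12]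
      exact (Category.id_comp _).trans (Category.comp_id _).symm),
    hq.hom_ext (by
      rw [← Category.assoc, hd₁, Category.assoc, hd₂, ← Category.assoc, h21, Category.id_comp, Category.comp_id])⟩
  have hfac : mapHom h = d₂ ≫ O.ι := (isQ_qMap W).hom_ext (by
    rw [qMap_mapHom, ← Category.assoc, hd₂, Category.assoc, morphismRestrict_ι, reassoc_of% hk₂])
  rw [hfac]
  infer_instance

instance {W V : InvAff G} (f : W ⟶ V) : IsOpenImmersion ((diagram G).map f) := isOpenImmersion_mapHom (leOfHom f)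

theorem exists_invAff (h : OrbitsAffine G) (x : G.U) (O : G.U.Opens) (hO : ∀ y, Rel G y x → y ∈ O) :
    ∃ L : InvAff G, x ∈ L.1 ∧ L.1 ≤ O := by
  obtain ⟨V, hV, hxV⟩ := h x
  obtain ⟨W, hW, hxW, hinv, hWO, -⟩ := exists_invariant_affine G x hV O hxV hO
  exact ⟨⟨W, hW, hinv⟩, hxW, hWO⟩

theorem mem_of_rel {W : InvAff G} {x y : G.U} (h : Rel G y x) (hx : x ∈ W.1) : y ∈ W.1 :=
  ((invariant_iff G W.1).1 W.2.2) h.symm hx

theorem isLocallyDirected (h : OrbitsAffine G) : ((diagram G) ⋙ Scheme.forget).IsLocallyDirected := by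
  refine ⟨fun {U V W} fU fV y z e => ?_⟩
  obtain ⟨a, rfl⟩ := (isQ_qMap U).surjective y
  obtain ⟨b, rfl⟩ := (isQ_qMap V).surjective z
  have e' : qMap W (G.U.homOfLE (leOfHom fU) a) = qMap W (G.U.homOfLE (leOfHom fV) b) := by
    rw [← Scheme.Hom.comp_apply, ← Scheme.Hom.comp_apply, ← qMap_mapHom, ← qMap_mapHom]
    exact e
  have hg := qMap_fibre e'
  rw [← Scheme.Hom.comp_apply _ W.1.ι, ← Scheme.Hom.comp_apply _ W.1.ι, Scheme.homOfLE_ι, Scheme.homOfLE_ι] at hg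
  have hbU : V.1.ι b ∈ U.1 := mem_of_rel hg.symm a.2
  obtain ⟨l, hbL, hLle⟩ := exists_invAff h (V.1.ι b) (U.1 ⊓ V.1)
    fun y hy => ⟨mem_of_rel hy hbU, mem_of_rel hy b.2⟩
  let c : l.1.toScheme := ⟨V.1.ι b, hbL⟩
  have hc : l.1.ι c = V.1.ι b := rfl
  refine ⟨l, homOfLE (hLle.trans inf_le_left), homOfLE (hLle.trans inf_le_right), qMap l c, ?_, ?_⟩
  · show mapHom _ (qMap l c) = qMap U a
    rw [← Scheme.Hom.comp_apply, qMap_mapHom, Scheme.Hom.comp_apply]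
    apply qMap_eq
    rw [← Scheme.Hom.comp_apply _ U.1.ι, Scheme.homOfLE_ι, hc]
    exact hg.symm
  · show mapHom _ (qMap l c) = qMap V b
    rw [← Scheme.Hom.comp_apply, qMap_mapHom, Scheme.Hom.comp_apply]
    congr 1
    refine V.1.ι.isOpenEmbedding.injective ?_
    rw [← Scheme.Hom.comp_apply, Scheme.homOfLE_ι, hc]

/-- Sections of a morphism over an open of the target contained in a chart given by a quotient. -/
theorem app_bij_of_factor {Y Q : Scheme.{u}} {p : G.U ⟶ Y} {W : G.U.Opens} {hW : G.s ⁻¹ᵁ W = G.t ⁻¹ᵁ W}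
    (q : W.toScheme ⟶ Q) (hq : IsQ (res G W hW).s (res G W hW).t q) (j : Q ⟶ Y) [IsOpenImmersion j]
    (hfac : q ≫ j = W.ι ≫ p) (hpre : p ⁻¹ᵁ j.opensRange = W) (V : Y.Opens) (hV : V ≤ j.opensRange) :
    Function.Injective (p.app V).hom ∧
      ∀ a : Γ(G.U, p ⁻¹ᵁ V), Inv G.s G.t a → ∃ b, (p.app V).hom b = a := by
  let W₁ : Q.Opens := j ⁻¹ᵁ V
  have hle : p ⁻¹ᵁ V ≤ W := fun x hx => hpre.le (hV hx)
  have hW₁ : W.ι ''ᵁ (q ⁻¹ᵁ W₁) = p ⁻¹ᵁ V := by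
    refine Opens.ext (Set.ext fun x => ⟨?_, fun hx => ?_⟩)
    · rintro ⟨a, ha, rfl⟩
      show p (W.ι a) ∈ V
      rw [← Scheme.Hom.comp_apply, ← hfac, Scheme.Hom.comp_apply]
      exact ha
    · refine ⟨⟨x, hle hx⟩, ?_, rfl⟩
      show j (q ⟨x, hle hx⟩) ∈ V
      rw [← Scheme.Hom.comp_apply, hfac]
      exact hx
  let e : Γ(G.U, p ⁻¹ᵁ V) ⟶ Γ(W.toScheme, q ⁻¹ᵁ W₁) := G.U.presheaf.map (eqToHom hW₁).op
  have hsq : j.app V ≫ q.app W₁ = p.app V ≫ e := by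
    have h3 : ∀ (k : W.toScheme ⟶ Y) (hk : k = W.ι ≫ p) (h1 : q ⁻¹ᵁ W₁ ≤ k ⁻¹ᵁ V)
        (h2 : q ⁻¹ᵁ W₁ ≤ (W.ι ≫ p) ⁻¹ᵁ V), k.appLE V _ h1 = (W.ι ≫ p).appLE V _ h2 := by
      rintro k rfl h1 h2; rfl
    have h1 := h3 (q ≫ j) hfac le_rfl (by rw [← hfac]; rfl)
    rw [← Scheme.Hom.appLE_comp_appLE q j V W₁ _ le_rfl le_rfl, ← Scheme.Hom.appLE_comp_appLE W.ι p V (p ⁻¹ᵁ V) _
      le_rfl (by intro a ha; exact hW₁.le ⟨a, ha, rfl⟩), Scheme.Hom.appLE_eq_app, Scheme.Hom.appLE_eq_app,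
      Scheme.Hom.appLE_eq_app, Scheme.Opens.ι_appLE] at h1
    exact h1
  haveI : IsIso (j.app V) := j.isIso_app V hV
  haveI : IsIso e := by
    haveI : IsIso (eqToHom hW₁).op := inferInstance
    exact CategoryTheory.Functor.map_isIso G.U.presheaf (eqToHom hW₁).op
  have hj := ConcreteCategory.bijective_of_isIso (j.app V)
  have he := ConcreteCategory.bijective_of_isIso e
  have hsq' : ∀ b, (q.app W₁).hom ((j.app V).hom b) = e.hom ((p.app V).hom b) :=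
    fun b => congrArg (fun φ : _ ⟶ _ => CommRingCat.Hom.hom φ b) hsq
  refine ⟨fun a b hab => hj.1 (hq.injective W₁ ?_), fun a ha => ?_⟩
  · exact (hsq' a).trans ((congrArg e.hom hab).trans (hsq' b).symm)
  · obtain ⟨b', hb'⟩ := hq.range W₁ (e.hom a) fun O hs ht => by
      have hk : ∀ (k : G.R ⟶ G.U) (hk : G.s ⁻¹ᵁ W ≤ k ⁻¹ᵁ W)
          (h₁ : O ≤ k.resLE W (G.s ⁻¹ᵁ W) hk ⁻¹ᵁ (q ⁻¹ᵁ W₁)) (h₂ : (G.s ⁻¹ᵁ W).ι ''ᵁ O ≤ k ⁻¹ᵁ (p ⁻¹ᵁ V)),
          e ≫ (k.resLE W (G.s ⁻¹ᵁ W) hk).appLE _ O h₁ = k.appLE (p ⁻¹ᵁ V) ((G.s ⁻¹ᵁ W).ι ''ᵁ O) h₂ := by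
        intro k hk h₁ h₂
        rw [Scheme.Hom.resLE_appLE]
        exact Scheme.Hom.map_appLE _ _ _
      have hs' : O ≤ G.s.resLE W (G.s ⁻¹ᵁ W) le_rfl ⁻¹ᵁ (q ⁻¹ᵁ W₁) := by
        have : G.s.resLE W (G.s ⁻¹ᵁ W) le_rfl = G.s ∣_ W := by
          rw [← cancel_mono W.ι, morphismRestrict_ι, Scheme.Hom.resLE_comp_ι]
        rw [this]; exact hs
      have hsr : (G.s ∣_ W).appLE (q ⁻¹ᵁ W₁) O hs = (G.s.resLE W (G.s ⁻¹ᵁ W) le_rfl).appLE (q ⁻¹ᵁ W₁) O hs' := by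
        have : G.s ∣_ W = G.s.resLE W (G.s ⁻¹ᵁ W) le_rfl := by
          rw [← cancel_mono W.ι, morphismRestrict_ι, Scheme.Hom.resLE_comp_ι]
        have hc : ∀ (k : (G.s ⁻¹ᵁ W).toScheme ⟶ W.toScheme) (_ : G.s ∣_ W = k) (hk : O ≤ k ⁻¹ᵁ (q ⁻¹ᵁ W₁)),
            (G.s ∣_ W).appLE _ O hs = k.appLE _ O hk := by rintro k rfl hk; rfl
        exact hc _ this hs'
      have g₁ : (G.s ⁻¹ᵁ W).ι ''ᵁ O ≤ G.s ⁻¹ᵁ (p ⁻¹ᵁ V) := by
        rw [← hW₁]; exact (Scheme.Hom.le_resLE_preimage_iff G.s le_rfl _ _).mp hs'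
      have g₂ : (G.s ⁻¹ᵁ W).ι ''ᵁ O ≤ G.t ⁻¹ᵁ (p ⁻¹ᵁ V) := by
        rw [← hW₁]; exact (Scheme.Hom.le_resLE_preimage_iff G.t hW.le _ _).mp ht
      change ((G.s ∣_ W).appLE (q ⁻¹ᵁ W₁) O hs).hom (e.hom a) =
        ((G.t.resLE W (G.s ⁻¹ᵁ W) hW.le).appLE (q ⁻¹ᵁ W₁) O ht).hom (e.hom a)
      rw [hsr]
      exact (congrArg (fun φ : _ ⟶ _ => CommRingCat.Hom.hom φ a) (hk G.s le_rfl hs' g₁)).trans
        ((ha _ g₁ g₂).trans (congrArg (fun φ : _ ⟶ _ => CommRingCat.Hom.hom φ a) (hk G.t hW.le ht g₂)).symm)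
    obtain ⟨b, rfl⟩ := hj.2 b'
    exact ⟨b, he.1 ((hsq' b).symm.trans hb')⟩

variable (G) in
/-- Quotients exist when every orbit lies in an affine open. -/
theorem exists_isQ (h : OrbitsAffine G) :
    ∃ (Y : Scheme.{u}) (p : G.U ⟶ Y), IsQ G.s G.t p ∧
      ∀ W : InvAff G, ∃ (j : QObj W ⟶ Y) (_ : IsOpenImmersion j), qMap W ≫ j = W.1.ι ≫ p ∧ p ⁻¹ᵁ j.opensRange = W.1 := by
  haveI := isLocallyDirected h
  let Y := colimit (diagram G)
  let F : (W : InvAff G) → (W.1.toScheme ⟶ Y) := fun W => qMap W ≫ colimit.ι (diagram G) W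
  have hFle : ∀ {L W : InvAff G} (hLW : L.1 ≤ W.1), G.U.homOfLE hLW ≫ F W = F L := fun {L W} hLW => by
    simp only [F]
    rw [← Category.assoc, ← qMap_mapHom, Category.assoc]
    exact congrArg (qMap L ≫ ·) (colimit.w (diagram G) (homOfLE hLW))
  have hcov : iSup (fun W : InvAff G => W.1) = ⊤ := eq_top_iff.2 fun x _ => by
    obtain ⟨L, hxL, -⟩ := exists_invAff h x ⊤ fun y _ => trivial
    exact Opens.mem_iSup.2 ⟨L, hxL⟩
  let 𝒰 := G.U.openCoverOfIsOpenCover (fun W : InvAff G => W.1) hcov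
  have hagree : ∀ U V : InvAff G, pullback.fst U.1.ι V.1.ι ≫ F U = pullback.snd U.1.ι V.1.ι ≫ F V := by
    intro U V
    let P := pullback U.1.ι V.1.ι
    let a : P ⟶ G.U := pullback.fst U.1.ι V.1.ι ≫ U.1.ι
    let I := {L : InvAff G // L.1 ≤ U.1 ∧ L.1 ≤ V.1}
    have hI : iSup (fun L : I => a ⁻¹ᵁ L.1.1) = ⊤ := eq_top_iff.2 fun z _ => by
      have hzU : a z ∈ U.1 := (pullback.fst U.1.ι V.1.ι z).2
      have hzV : a z ∈ V.1 := by
        simp only [a]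
        rw [pullback.condition]
        exact (pullback.snd U.1.ι V.1.ι z).2
      obtain ⟨L, hxL, hLle⟩ := exists_invAff h (a z) (U.1 ⊓ V.1)
        fun y hy => ⟨mem_of_rel hy hzU, mem_of_rel hy hzV⟩
      exact Opens.mem_iSup.2 ⟨⟨L, hLle.trans inf_le_left, hLle.trans inf_le_right⟩, hxL⟩
    refine Scheme.Cover.hom_ext (P.openCoverOfIsOpenCover (fun L : I => a ⁻¹ᵁ L.1.1) hI) _ _ fun L => ?_
    let L' : I := L
    show (a ⁻¹ᵁ L'.1.1).ι ≫ pullback.fst _ _ ≫ F U = (a ⁻¹ᵁ L'.1.1).ι ≫ pullback.snd _ _ ≫ F V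
    let τ : (a ⁻¹ᵁ L'.1.1).toScheme ⟶ L'.1.1.toScheme := a ∣_ L'.1.1
    have hτ : τ ≫ L'.1.1.ι = (a ⁻¹ᵁ L'.1.1).ι ≫ a := morphismRestrict_ι _ _
    have e1 : (a ⁻¹ᵁ L'.1.1).ι ≫ pullback.fst U.1.ι V.1.ι = τ ≫ G.U.homOfLE L'.2.1 := by
      rw [← cancel_mono U.1.ι, Category.assoc, Category.assoc, Scheme.homOfLE_ι, hτ]
    have e2 : (a ⁻¹ᵁ L'.1.1).ι ≫ pullback.snd U.1.ι V.1.ι = τ ≫ G.U.homOfLE L'.2.2 := by
      rw [← cancel_mono V.1.ι, Category.assoc, Category.assoc, Scheme.homOfLE_ι, hτ, ← pullback.condition]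
    rw [reassoc_of% e1, reassoc_of% e2, hFle, hFle]
  let p : G.U ⟶ Y := 𝒰.glueMorphisms F hagree
  have hp : ∀ W : InvAff G, W.1.ι ≫ p = F W := fun W => 𝒰.ι_glueMorphisms F hagree W
  have hpre : ∀ W : InvAff G, p ⁻¹ᵁ (colimit.ι (diagram G) W).opensRange = W.1 := fun W => by
    refine Opens.ext (Set.ext fun x => ⟨?_, fun hx => ?_⟩)
    · rintro ⟨y, hy⟩
      obtain ⟨V, hV⟩ := Opens.mem_iSup.1 (show x ∈ iSup (fun V : InvAff G => V.1) from hcov ▸ trivial)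
      obtain ⟨xv, rfl⟩ : ∃ xv : V.1.toScheme, V.1.ι xv = x := ⟨⟨x, hV⟩, rfl⟩
      rw [← Scheme.Hom.comp_apply, hp] at hy
      obtain ⟨k, fi, fj, z, -, hz⟩ := (Scheme.IsLocallyDirected.ι_eq_ι_iff (diagram G)).1
        (show colimit.ι (diagram G) W y = colimit.ι (diagram G) V (qMap V xv) from hy)
      obtain ⟨c, rfl⟩ := (isQ_qMap k).surjective z
      change mapHom (leOfHom fj) (qMap k c) = qMap V xv at hz
      rw [← Scheme.Hom.comp_apply, qMap_mapHom, Scheme.Hom.comp_apply] at hz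
      have hg := qMap_fibre hz
      rw [← Scheme.Hom.comp_apply _ V.1.ι, Scheme.homOfLE_ι] at hg
      exact mem_of_rel hg.symm ((leOfHom fi) c.2)
    · refine ⟨qMap W ⟨x, hx⟩, ?_⟩
      show (F W) ⟨x, hx⟩ = p x
      rw [← hp W]
      rfl
  have hcovY : iSup (fun W : InvAff G => (colimit.ι (diagram G) W).opensRange) = ⊤ := eq_top_iff.2 fun y _ => by
    obtain ⟨W, yW, rfl⟩ := Scheme.IsLocallyDirected.ι_jointly_surjective (diagram G) y
    exact Opens.mem_iSup.2 ⟨W, yW, rfl⟩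
  have hw : G.s ≫ p = G.t ≫ p := by
    have hcR : iSup (fun W : InvAff G => G.s ⁻¹ᵁ W.1) = ⊤ := eq_top_iff.2 fun r _ => by
      obtain ⟨W, hW⟩ := Opens.mem_iSup.1 (show G.s r ∈ iSup (fun W : InvAff G => W.1) from hcov ▸ trivial)
      exact Opens.mem_iSup.2 ⟨W, hW⟩
    refine Scheme.Cover.hom_ext (G.R.openCoverOfIsOpenCover (fun W : InvAff G => G.s ⁻¹ᵁ W.1) hcR) _ _ fun W => ?_
    let W' : InvAff G := W
    change (G.s ⁻¹ᵁ W'.1).ι ≫ G.s ≫ p = (G.s ⁻¹ᵁ W'.1).ι ≫ G.t ≫ p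
    rw [← morphismRestrict_ι_assoc, ← Scheme.Hom.resLE_comp_ι_assoc G.t W'.2.2.le, hp]
    simp only [F]
    exact (Category.assoc _ _ _).symm.trans ((congrArg (· ≫ colimit.ι (diagram G) W') (isQ_qMap W').w).trans
      (Category.assoc _ _ _))
  have hsec := sections_of_basis (s := G.s) (t := G.t) (p := p)
    {V | ∃ W : InvAff G, V ≤ (colimit.ι (diagram G) W).opensRange} ?_ ?_ ?_
  · refine ⟨Y, p, ⟨hw, ?_, fun y => ?_, fun x y hxy => ?_, hsec.1, hsec.2⟩,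
      fun W => ⟨colimit.ι (diagram G) W, inferInstance, (hp W).symm, hpre W⟩⟩
    · rw [IsZariskiLocalAtTarget.iff_of_iSup_eq_top (P := @IsIntegralHom) _ hcovY]
      intro W
      haveI := (isAffine_resA W).1
      haveI := (isAffine_resA W).2
      haveI : IsIntegralHom (qMap W) := isIntegralHom_toQuot (resA W)
      have sq : IsPullback (qMap W) W.1.ι (colimit.ι (diagram G) W) p :=
        IsOpenImmersion.isPullback _ _ _ _ (hp W) (by rw [hpre W, Scheme.Opens.opensRange_ι])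
      have sq' := isPullback_morphismRestrict p (colimit.ι (diagram G) W).opensRange
      let e := IsOpenImmersion.isoOfRangeEq (colimit.ι (diagram G) W) (colimit.ι (diagram G) W).opensRange.ι
        (by rw [Scheme.Opens.range_ι]; rfl)
      have sq'' : IsPullback (qMap W ≫ e.hom) W.1.ι (colimit.ι (diagram G) W).opensRange.ι p :=
        sq.of_iso (Iso.refl _) e (Iso.refl _) (Iso.refl _) (by simp) (by simp) (by simp [e]) (by simp)
      rw [← sq'.isoPullback_hom_fst, MorphismProperty.cancel_left_of_respectsIso (P := @IsIntegralHom),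
        ← sq''.isoPullback_inv_fst, MorphismProperty.cancel_left_of_respectsIso (P := @IsIntegralHom)]
      infer_instance
    · obtain ⟨W, yW, rfl⟩ := Scheme.IsLocallyDirected.ι_jointly_surjective (diagram G) y
      obtain ⟨x, rfl⟩ := (isQ_qMap W).surjective yW
      exact ⟨W.1.ι x, congrArg (fun k => k x) (hp W)⟩
    · obtain ⟨W, hW⟩ := Opens.mem_iSup.1 (show y ∈ iSup (fun W : InvAff G => W.1) from hcov ▸ trivial)
      have hx : x ∈ W.1 := by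
        rw [← hpre W]
        change p x ∈ (colimit.ι (diagram G) W).opensRange
        rw [hxy]
        exact (hpre W).ge hW
      have hqq : qMap W ⟨x, hx⟩ = qMap W ⟨y, hW⟩ := by
        apply (colimit.ι (diagram G) W).isOpenEmbedding.injective
        change F W ⟨x, hx⟩ = F W ⟨y, hW⟩
        rw [← hp W]
        exact hxy
      exact qMap_fibre hqq
  · refine Opens.isBasis_iff_nbhd.2 fun {O} {y} hy => ?_
    obtain ⟨W, hW⟩ := Opens.mem_iSup.1 (show y ∈ iSup (fun W : InvAff G =>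
      (colimit.ι (diagram G) W).opensRange) from hcovY ▸ trivial)
    exact ⟨O ⊓ (colimit.ι (diagram G) W).opensRange, ⟨W, inf_le_right⟩, ⟨hy, hW⟩, inf_le_left⟩
  · rintro V ⟨W, hW⟩
    exact (app_bij_of_factor (Q := (diagram G).obj W) (qMap W) (isQ_qMap W) (colimit.ι (diagram G) W)
      (hp W).symm (hpre W) V hW).1
  · rintro V ⟨W, hW⟩
    exact (app_bij_of_factor (Q := (diagram G).obj W) (qMap W) (isQ_qMap W) (colimit.ι (diagram G) W)
      (hp W).symm (hpre W) V hW).2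

end Groth.Agent.FinGrpdLib
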