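import Groth.Agent.FinGrpdLib.Res
import Groth.Agent.QuotLib.DescGen
/-!
Quotients of a pair of morphisms: integral, orbits as fibres, invariant sections.
-/

set_option autoImplicit false
set_option backward.isDefEq.respectTransparency false
universe u

open CategoryTheory CategoryTheory.Limits AlgebraicGeometry Opposite TopologicalSpace

noncomputable section

namespace Groth.Agent.FinGrpdLib

variable {R U Y Z : Scheme.{u}}

/-- A section whose two pullbacks agree. -/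
def Inv (s t : R ⟶ U) {V : U.Opens} (a : Γ(U, V)) : Prop :=
  ∀ (W : R.Opens) (hs : W ≤ s ⁻¹ᵁ V) (ht : W ≤ t ⁻¹ᵁ V), (s.appLE V W hs).hom a = (t.appLE V W ht).hom a

/-- An integral morphism with the orbits as fibres and the invariant sections as functions. -/
structure IsQ (s t : R ⟶ U) (p : U ⟶ Y) : Prop where
  w : s ≫ p = t ≫ p
  integral : IsIntegralHom p
  surjective : Function.Surjective p
  fibre : ∀ x y, p x = p y → ∃ r, t r = x ∧ s r = y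
  injective : ∀ V : Y.Opens, Function.Injective (p.app V).hom
  range : ∀ (V : Y.Opens) (a : Γ(U, p ⁻¹ᵁ V)), Inv s t a → ∃ b, (p.app V).hom b = a

variable {s t : R ⟶ U} {p : U ⟶ Y}

theorem inv_map {V V' : U.Opens} (h : V' ≤ V) {a : Γ(U, V)} (ha : Inv s t a) :
    Inv s t ((U.presheaf.map (homOfLE h).op).hom a) := fun W hs ht => by
  rw [← RingHom.comp_apply, ← RingHom.comp_apply, ← CommRingCat.hom_comp, ← CommRingCat.hom_comp,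
    Scheme.Hom.map_appLE, Scheme.Hom.map_appLE]
  exact ha W (fun x hx => h (hs hx)) (fun x hx => h (ht hx))

theorem inv_appLE (f : U ⟶ Z) (hf : s ≫ f = t ≫ f) {V : U.Opens} {O : Z.Opens} (e : V ≤ f ⁻¹ᵁ O) (b : Γ(Z, O)) :
    Inv s t ((f.appLE O V e).hom b) := fun W hs ht => by
  rw [← RingHom.comp_apply, ← RingHom.comp_apply, ← CommRingCat.hom_comp, ← CommRingCat.hom_comp,
    Scheme.Hom.appLE_comp_appLE, Scheme.Hom.appLE_comp_appLE]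
  have h3 : ∀ (k : R ⟶ Z) (_ : s ≫ f = k) (hk : W ≤ k ⁻¹ᵁ O) (hk' : W ≤ (s ≫ f) ⁻¹ᵁ O),
      (s ≫ f).appLE O W hk' = k.appLE O W hk := by rintro k rfl hk hk'; rfl
  rw [h3 _ hf]

theorem inv_app (hw : s ≫ p = t ≫ p) (V : Y.Opens) (b : Γ(Y, V)) : Inv s t ((p.app V).hom b) := by
  rw [← Scheme.Hom.appLE_eq_app]
  exact inv_appLE p hw le_rfl b

theorem IsQ.isQuotientMap (hp : IsQ s t p) : Topology.IsQuotientMap p :=
  haveI := hp.integral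
  p.isClosedMap.isQuotientMap p.continuous hp.surjective

theorem IsQ.isOpenMap (hp : IsQ s t p) (ht : IsOpenMap t) : IsOpenMap p := fun O hO => by
  rw [← hp.isQuotientMap.isOpen_preimage]
  have : p ⁻¹' (p '' O) = t '' (s ⁻¹' O) := by
    ext x
    constructor
    · rintro ⟨y, hy, hyx⟩
      obtain ⟨r, hr₁, hr₂⟩ := hp.fibre x y hyx.symm
      exact ⟨r, show s r ∈ O by rw [hr₂]; exact hy, hr₁⟩
    · rintro ⟨r, hr, rfl⟩
      refine ⟨s r, hr, ?_⟩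
      rw [← Scheme.Hom.comp_apply, hp.w, Scheme.Hom.comp_apply]
  rw [this]
  exact ht _ (hO.preimage s.continuous)

/-- Morphisms out of a quotient are determined by their composites. -/
theorem IsQ.hom_ext (hp : IsQ s t p) {f g : Y ⟶ Z} (e : p ≫ f = p ≫ g) : f = g := by
  have hb : f.base = g.base := by
    refine ConcreteCategory.hom_ext _ _ fun y => ?_
    obtain ⟨x, rfl⟩ := hp.surjective y
    rw [← Scheme.Hom.comp_apply, e, Scheme.Hom.comp_apply]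
  refine Scheme.Hom.ext hb fun O => ?_
  refine CommRingCat.hom_ext (RingHom.ext fun a => hp.injective _ ?_)
  have h3 : ∀ (k : U ⟶ Z) (hk : p ≫ g = k) (hk' : p ⁻¹ᵁ (g ⁻¹ᵁ O) ≤ k ⁻¹ᵁ O),
      (p ≫ g).appLE O (p ⁻¹ᵁ (g ⁻¹ᵁ O)) le_rfl = k.appLE O _ hk' := by rintro k rfl hk'; rfl
  have e2 := h3 (p ≫ f) e.symm (by rw [e]; rfl)
  rw [← Scheme.Hom.appLE_comp_appLE p g O (g ⁻¹ᵁ O) _ le_rfl le_rfl,
    ← Scheme.Hom.appLE_comp_appLE p f O (g ⁻¹ᵁ O) _ (by rw [show f ⁻¹ᵁ O = g ⁻¹ᵁ O from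
      congrArg (fun f => (TopologicalSpace.Opens.map f).obj O) hb]) le_rfl,
    Scheme.Hom.appLE_eq_app, Scheme.Hom.appLE_eq_app] at e2
  exact (congrArg (fun φ : _ ⟶ _ => CommRingCat.Hom.hom φ a) e2).symm

theorem IsQ.data (hp : IsQ s t p) : QuotLib.DescGen.Data p (fun _ a => Inv s t a) :=
  ⟨hp.isQuotientMap, hp.injective, hp.range⟩

theorem IsQ.desc_cond (hp : IsQ s t p) {h : U ⟶ Z} (hh : s ≫ h = t ≫ h) :
    (∀ x x' : U, p.base x = p.base x' → h.base x = h.base x') ∧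
      ∀ (W : Z.Opens) (V : Y.Opens) (e : p ⁻¹ᵁ V ≤ h ⁻¹ᵁ W) (b : Γ(Z, W)),
        Inv s t ((h.appLE W _ e).hom b) := by
  refine ⟨fun x x' hxx' => ?_, fun W V e b => inv_appLE h hh e b⟩
  obtain ⟨r, rfl, rfl⟩ := hp.fibre x x' hxx'
  rw [← Scheme.Hom.comp_apply, ← Scheme.Hom.comp_apply, hh]

/-- The descended morphism. -/
def IsQ.desc (hp : IsQ s t p) (h : U ⟶ Z) (hh : s ≫ h = t ≫ h) : Y ⟶ Z :=
  QuotLib.DescGen.desc hp.data h (hp.desc_cond hh)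

theorem IsQ.fac (hp : IsQ s t p) (h : U ⟶ Z) (hh : s ≫ h = t ≫ h) : p ≫ hp.desc h hh = h :=
  QuotLib.DescGen.comp_desc hp.data h (hp.desc_cond hh)

/-- A quotient is a coequalizer. -/
def IsQ.isColimit (hp : IsQ s t p) : IsColimit (Cofork.ofπ p hp.w.symm) :=
  Cofork.IsColimit.mk _ (fun c => hp.desc c.π c.condition.symm) (fun c => hp.fac c.π c.condition.symm)
    (fun c m hm => hp.hom_ext (hm.trans (hp.fac c.π c.condition.symm).symm))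

/-- The conditions on sections can be checked on a basis. -/
theorem sections_of_basis (B : Set Y.Opens) (hB : Opens.IsBasis B)
    (hinj : ∀ V ∈ B, Function.Injective (p.app V).hom)
    (hsurj : ∀ V ∈ B, ∀ a : Γ(U, p ⁻¹ᵁ V), Inv s t a → ∃ b, (p.app V).hom b = a) :
    (∀ V : Y.Opens, Function.Injective (p.app V).hom) ∧
      ∀ (V : Y.Opens) (a : Γ(U, p ⁻¹ᵁ V)), Inv s t a → ∃ b, (p.app V).hom b = a := by
  have hcov : ∀ O : Y.Opens, O ≤ iSup fun V : {V // V ∈ B ∧ V ≤ O} => (V : Y.Opens) := fun O y hy => by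
    obtain ⟨V, hV, hyV, hVO⟩ := Opens.isBasis_iff_nbhd.1 hB hy
    exact Opens.mem_iSup.2 ⟨⟨V, hV, hVO⟩, hyV⟩
  have happ : ∀ {O V : Y.Opens} (hOV : V ≤ O) (b : Γ(Y, O)),
      (p.app V).hom ((Y.presheaf.map (homOfLE hOV).op).hom b) =
        (U.presheaf.map (homOfLE (x := p ⁻¹ᵁ V) (y := p ⁻¹ᵁ O) fun x hx => hOV hx).op).hom ((p.app O).hom b) :=
    fun hOV b => congrArg (fun φ : _ ⟶ _ => CommRingCat.Hom.hom φ b) (Scheme.Hom.naturality p (homOfLE hOV).op)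
  have hinjall : ∀ O : Y.Opens, Function.Injective (p.app O).hom := fun O a b hab => by
    refine TopCat.Sheaf.eq_of_locally_eq' Y.sheaf (fun V : {V // V ∈ B ∧ V ≤ O} => (V : Y.Opens)) O
      (fun V => homOfLE V.2.2) (hcov O) a b fun V => hinj V V.2.1 ?_
    exact (happ V.2.2 a).trans ((congrArg _ hab).trans (happ V.2.2 b).symm)
  refine ⟨hinjall, fun O a ha => ?_⟩
  let I := {V // V ∈ B ∧ V ≤ O}
  choose b hb using fun V : I => hsurj V.1 V.2.1 _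
    (inv_map (V := p ⁻¹ᵁ O) (V' := p ⁻¹ᵁ (V : Y.Opens)) (fun x hx => V.2.2 hx) ha)
  obtain ⟨gl, hgl, -⟩ := TopCat.Sheaf.existsUnique_gluing' Y.sheaf (fun V : I => (V : Y.Opens)) O
    (fun V => homOfLE V.2.2) (hcov O) b fun V W => hinjall _ (by
      refine (happ inf_le_left (b V)).trans (Eq.trans ?_ (happ inf_le_right (b W)).symm)
      rw [hb, hb, ← CommRingCat.comp_apply, ← CommRingCat.comp_apply, ← Functor.map_comp, ← Functor.map_comp]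
      rfl)
  refine ⟨gl, TopCat.Sheaf.eq_of_locally_eq' U.sheaf (fun V : I => p ⁻¹ᵁ (V : Y.Opens)) (p ⁻¹ᵁ O)
    (fun V => homOfLE fun x hx => V.2.2 hx) (fun x hx => ?_) _ _ fun V => ?_⟩
  · obtain ⟨V, hV⟩ := Opens.mem_iSup.1 (hcov O hx)
    exact Opens.mem_iSup.2 ⟨V, hV⟩
  · refine Eq.trans (happ V.2.2 gl).symm ?_
    rw [show (Y.presheaf.map (homOfLE V.2.2).op).hom gl = b V from hgl V]
    exact hb V

/-- The restriction of a quotient to an open of the target. -/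
theorem IsQ.restrict (hp : IsQ s t p) (O : Y.Opens) (ht : s ⁻¹ᵁ (p ⁻¹ᵁ O) ≤ t ⁻¹ᵁ (p ⁻¹ᵁ O)) :
    IsQ (s ∣_ (p ⁻¹ᵁ O)) (t.resLE (p ⁻¹ᵁ O) (s ⁻¹ᵁ (p ⁻¹ᵁ O)) ht) (p ∣_ O) := by
  haveI := hp.integral
  refine ⟨?_, inferInstance, fun y => ?_, fun x y hxy => ?_, fun V a b hab => ?_, fun V a ha => ?_⟩
  · rw [← cancel_mono O.ι, Category.assoc, Category.assoc, morphismRestrict_ι, morphismRestrict_ι_assoc,
      Scheme.Hom.resLE_comp_ι_assoc, hp.w]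
  · obtain ⟨x, hx⟩ := hp.surjective (O.ι y)
    have hxO : x ∈ p ⁻¹ᵁ O := by
      change p x ∈ O
      rw [hx]
      exact y.2
    refine ⟨⟨x, hxO⟩, O.ι.isOpenEmbedding.injective ?_⟩
    rw [← Scheme.Hom.comp_apply, morphismRestrict_ι, Scheme.Hom.comp_apply]
    exact hx
  · have h' := congrArg O.ι hxy
    rw [← Scheme.Hom.comp_apply, ← Scheme.Hom.comp_apply, morphismRestrict_ι, Scheme.Hom.comp_apply,
      Scheme.Hom.comp_apply] at h'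
    obtain ⟨r, hr₁, hr₂⟩ := hp.fibre _ _ h'
    have hr : r ∈ s ⁻¹ᵁ (p ⁻¹ᵁ O) := by
      change s r ∈ p ⁻¹ᵁ O
      rw [hr₂]
      exact y.2
    refine ⟨⟨r, hr⟩, (p ⁻¹ᵁ O).ι.isOpenEmbedding.injective ?_, (p ⁻¹ᵁ O).ι.isOpenEmbedding.injective ?_⟩
    · rw [← Scheme.Hom.comp_apply, Scheme.Hom.resLE_comp_ι, Scheme.Hom.comp_apply]
      exact hr₁
    · rw [← Scheme.Hom.comp_apply, morphismRestrict_ι, Scheme.Hom.comp_apply]
      exact hr₂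
  · rw [morphismRestrict_app] at hab
    exact hp.injective _ ((ConcreteCategory.bijective_of_isIso (U.presheaf.map
      (eqToHom (image_morphismRestrict_preimage p O V)).op)).1 hab)
  · let V' : Y.Opens := O.ι ''ᵁ V
    have hV : (p ⁻¹ᵁ O).ι ''ᵁ ((p ∣_ O) ⁻¹ᵁ V) = p ⁻¹ᵁ V' := image_morphismRestrict_preimage p O V
    let a' : Γ(U, p ⁻¹ᵁ V') := (U.presheaf.map (eqToHom hV.symm).op).hom a
    obtain ⟨b, hb⟩ := hp.range V' a' fun W hs ht' => by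
      have hW : W ≤ s ⁻¹ᵁ (p ⁻¹ᵁ O) := fun r hr => by
        obtain ⟨z, -, hz⟩ := hs hr
        change p (s r) ∈ O
        rw [← hz]
        exact z.2
      have hWW : (s ⁻¹ᵁ (p ⁻¹ᵁ O)).ι ''ᵁ ((s ⁻¹ᵁ (p ⁻¹ᵁ O)).ι ⁻¹ᵁ W) = W :=
        Opens.ext ((Set.image_preimage_eq_inter_range).trans (by
          rw [Scheme.Opens.range_ι]; exact Set.inter_eq_left.2 hW))
      let W₀ : ((s ⁻¹ᵁ (p ⁻¹ᵁ O)).toScheme).Opens := (s ⁻¹ᵁ (p ⁻¹ᵁ O)).ι ⁻¹ᵁ W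
      have e₁ : W₀ ≤ (s ∣_ (p ⁻¹ᵁ O)) ⁻¹ᵁ ((p ∣_ O) ⁻¹ᵁ V) := fun r hr => by
        obtain ⟨z, hz, hzr⟩ := hV.ge (hs (hr : (s ⁻¹ᵁ (p ⁻¹ᵁ O)).ι r ∈ W))
        have : (s ∣_ (p ⁻¹ᵁ O)) r = z := (p ⁻¹ᵁ O).ι.isOpenEmbedding.injective (by
          rw [← Scheme.Hom.comp_apply, morphismRestrict_ι, Scheme.Hom.comp_apply]
          exact hzr.symm)
        change (s ∣_ (p ⁻¹ᵁ O)) r ∈ (p ∣_ O) ⁻¹ᵁ V
        rw [this]; exact hz
      have e₂ : W₀ ≤ t.resLE (p ⁻¹ᵁ O) (s ⁻¹ᵁ (p ⁻¹ᵁ O)) ht ⁻¹ᵁ ((p ∣_ O) ⁻¹ᵁ V) := fun r hr => by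
        obtain ⟨z, hz, hzr⟩ := hV.ge (ht' (hr : (s ⁻¹ᵁ (p ⁻¹ᵁ O)).ι r ∈ W))
        have : t.resLE (p ⁻¹ᵁ O) (s ⁻¹ᵁ (p ⁻¹ᵁ O)) ht r = z := (p ⁻¹ᵁ O).ι.isOpenEmbedding.injective (by
          rw [← Scheme.Hom.comp_apply, Scheme.Hom.resLE_comp_ι, Scheme.Hom.comp_apply]
          exact hzr.symm)
        change t.resLE (p ⁻¹ᵁ O) (s ⁻¹ᵁ (p ⁻¹ᵁ O)) ht r ∈ (p ∣_ O) ⁻¹ᵁ V
        rw [this]; exact hz
      have h := ha W₀ e₁ e₂
      have hsr : s ∣_ (p ⁻¹ᵁ O) = s.resLE (p ⁻¹ᵁ O) (s ⁻¹ᵁ (p ⁻¹ᵁ O)) le_rfl := by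
        rw [← cancel_mono (p ⁻¹ᵁ O).ι, morphismRestrict_ι, Scheme.Hom.resLE_comp_ι]
      have hcongr : ∀ (k : (s ⁻¹ᵁ (p ⁻¹ᵁ O)).toScheme ⟶ (p ⁻¹ᵁ O).toScheme) (_ : s ∣_ (p ⁻¹ᵁ O) = k)
          (hk : W₀ ≤ k ⁻¹ᵁ ((p ∣_ O) ⁻¹ᵁ V)),
          (s ∣_ (p ⁻¹ᵁ O)).appLE _ W₀ e₁ = k.appLE _ W₀ hk := by rintro k rfl hk; rfl
      rw [hcongr _ hsr (hsr ▸ e₁), Scheme.Hom.resLE_appLE, Scheme.Hom.resLE_appLE] at h
      have key : ∀ (k : R ⟶ U) (h₁ : (s ⁻¹ᵁ (p ⁻¹ᵁ O)).ι ''ᵁ W₀ ≤ k ⁻¹ᵁ ((p ⁻¹ᵁ O).ι ''ᵁ ((p ∣_ O) ⁻¹ᵁ V)))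
          (h₂ : W ≤ k ⁻¹ᵁ (p ⁻¹ᵁ V')),
          U.presheaf.map (eqToHom hV.symm).op ≫ k.appLE _ W h₂ =
            k.appLE _ _ h₁ ≫ R.presheaf.map (eqToHom hWW.symm).op := fun k h₁ h₂ => by
        rw [Scheme.Hom.map_appLE, Scheme.Hom.appLE_map]
      refine (congrArg (fun φ : _ ⟶ _ => CommRingCat.Hom.hom φ a) (key s ((Scheme.Hom.le_resLE_preimage_iff s _ _ _).mp (hsr ▸ e₁)) hs)).trans ?_
      refine Eq.trans ?_ (congrArg (fun φ : _ ⟶ _ => CommRingCat.Hom.hom φ a) (key t ((Scheme.Hom.le_resLE_preimage_iff t ht _ _).mp e₂) ht')).symm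
      exact congrArg (R.presheaf.map (eqToHom hWW.symm).op).hom h
    refine ⟨b, (ConcreteCategory.bijective_of_isIso (U.presheaf.map (eqToHom hV.symm).op)).1 ?_⟩
    refine Eq.trans ?_ hb
    rw [morphismRestrict_app]
    show (p.app V' ≫ U.presheaf.map _ ≫ U.presheaf.map _).hom b = _
    rw [← Functor.map_comp]
    refine (congrArg (fun q => (p.app V' ≫ U.presheaf.map q).hom b) (Subsingleton.elim _ (𝟙 _))).trans ?_
    rw [CategoryTheory.Functor.map_id, Category.comp_id]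

end Groth.Agent.FinGrpdLib
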