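import Groth.Agent.FinGrpdLib.Scheme
/-!
Orbits of a groupoid scheme with finite locally free source, and invariant affine neighbourhoods.
-/

set_option autoImplicit false
set_option backward.isDefEq.respectTransparency false
universe u

open CategoryTheory CategoryTheory.Limits AlgebraicGeometry TopologicalSpace

namespace Groth.Agent.FinGrpdLib

/-- For a finite projective algebra the set of primes below a prime containing a given element is the zero
set of one element. -/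
theorem exists_norm_elt {B C : Type u} [CommRing B] [CommRing C] (σ : B →+* C) (h₁ : σ.Finite) (h₂ : σ.Flat)
    (h₃ : σ.FinitePresentation) (g : C) :
    ∃ N : B, ∀ P : PrimeSpectrum B, N ∈ P.asIdeal ↔ ∃ Q : PrimeSpectrum C, Q.comap σ = P ∧ g ∈ Q.asIdeal := by
  obtain ⟨n, v, l, hl, hv⟩ := exists_coords σ h₁ h₂ h₃
  refine ⟨Matrix.det (mat v l g + (1 - mat v l 1)), fun P => ?_⟩
  let k := AlgebraicClosure P.asIdeal.ResidueField
  let x : B →+* k := (algebraMap P.asIdeal.ResidueField k).comp (algebraMap B P.asIdeal.ResidueField)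
  have hx : RingHom.ker x = P.asIdeal := by
    rw [RingHom.ker_comp_of_injective _ (RingHom.injective _), Ideal.ker_algebraMap_residueField]
  have key : ∀ {k : Type u} [Field k] [IsAlgClosed k] (x : B →+* k),
      x (Matrix.det (mat v l g + (1 - mat v l 1))) = 0 ↔ ∃ f : C →+* k, f.comp σ = x ∧ f g = 0 := by
    intro k _ _ x
    have h := det_eq_zero_iff x σ hl hv (ι := Unit) (fun _ => 1) (fun _ => g)
    simp only [Finset.univ_unique, Finset.sum_singleton, one_smul, one_mul] at h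
    rw [← h, RingHom.map_det]
    simp [Matrix.map_add, Matrix.map_sub, Matrix.map_one]
  constructor
  · intro hN
    obtain ⟨f, hf, hfg⟩ := (key x).1 (RingHom.mem_ker.1 (hx.symm ▸ hN))
    refine ⟨⟨RingHom.ker f, RingHom.ker_isPrime f⟩, PrimeSpectrum.ext ?_, hfg⟩
    rw [PrimeSpectrum.comap_asIdeal, RingHom.comap_ker, hf, hx]
  · rintro ⟨Q, rfl, hg⟩
    let k' := AlgebraicClosure Q.asIdeal.ResidueField
    let f : C →+* k' := (algebraMap Q.asIdeal.ResidueField k').comp (algebraMap C Q.asIdeal.ResidueField)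
    have hf : RingHom.ker f = Q.asIdeal := by
      rw [RingHom.ker_comp_of_injective _ (RingHom.injective _), Ideal.ker_algebraMap_residueField]
    have h0 := (key (f.comp σ)).2 ⟨f, rfl, RingHom.mem_ker.1 (hf.symm ▸ hg)⟩
    change _ ∈ Ideal.comap σ Q.asIdeal
    rw [← hf, RingHom.comap_ker]
    exact h0

/-- Finitely many points in an affine open and in an open `W` lie in a basic open inside `W`. -/
theorem exists_basicOpen_mem {X : Scheme.{u}} {ι : Type*} [Finite ι] {U : X.Opens} (hU : IsAffineOpen U) (W : X.Opens)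
    (x : ι → X) (hxU : ∀ i, x i ∈ U) (hxW : ∀ i, x i ∈ W) :
    ∃ f : Γ(X, U), X.basicOpen f ≤ W ∧ ∀ i, x i ∈ X.basicOpen f := by
  classical
  haveI := Fintype.ofFinite ι
  obtain ⟨J, hJ⟩ := (PrimeSpectrum.isClosed_iff_zeroLocus_ideal _).1 (hU.fromSpec ⁻¹ᵁ W).2.isClosed_compl
  let P : ι → Ideal Γ(X, U) := fun i => (hU.primeIdealOf ⟨x i, hxU i⟩).asIdeal
  have hnot : ¬ ((J : Set Γ(X, U)) ⊆ ⋃ i ∈ ((Finset.univ : Finset ι) : Set ι), P i) := by
    intro hsub
    rcases isEmpty_or_nonempty ι with hι | ⟨⟨i₀⟩⟩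
    · simpa using hsub J.zero_mem
    · obtain ⟨i, -, hi⟩ := (Ideal.subset_union_prime (s := (Finset.univ : Finset ι)) (f := P) i₀ i₀
        (fun i _ _ _ => (hU.primeIdealOf ⟨x i, hxU i⟩).isPrime)).1 hsub
      have h1 : hU.primeIdealOf ⟨x i, hxU i⟩ ∈ PrimeSpectrum.zeroLocus (J : Set Γ(X, U)) := hi
      rw [← hJ] at h1
      exact h1 (show hU.fromSpec (hU.primeIdealOf ⟨x i, hxU i⟩) ∈ W by
        rw [hU.fromSpec_primeIdealOf]; exact hxW i)
  obtain ⟨f, hfJ, hf⟩ := Set.not_subset.1 hnot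
  refine ⟨f, fun z hz => ?_, fun i => ?_⟩
  · obtain ⟨w, rfl⟩ : z ∈ Set.range hU.fromSpec := by
      rw [hU.range_fromSpec]; exact X.basicOpen_le f hz
    have hw : w ∈ hU.fromSpec ⁻¹ᵁ X.basicOpen f := hz
    rw [hU.fromSpec_preimage_basicOpen] at hw
    by_contra hne
    have h2 : w ∈ PrimeSpectrum.zeroLocus (J : Set Γ(X, U)) := by rw [← hJ]; exact hne
    exact hw (h2 hfJ)
  · suffices hh : hU.fromSpec (hU.primeIdealOf ⟨x i, hxU i⟩) ∈ X.basicOpen f by
      rwa [hU.fromSpec_primeIdealOf] at hh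
    show hU.primeIdealOf ⟨x i, hxU i⟩ ∈ hU.fromSpec ⁻¹ᵁ X.basicOpen f
    rw [hU.fromSpec_preimage_basicOpen]
    exact fun h => hf (Set.mem_iUnion₂.2 ⟨i, Finset.mem_coe.2 (Finset.mem_univ i), h⟩)

theorem mem_basicOpen_iff {X : Scheme.{u}} {D : X.Opens} (hD : IsAffineOpen D) {x : X} (hx : x ∈ D)
    (f : Γ(X, D)) : x ∈ X.basicOpen f ↔ f ∉ (hD.primeIdealOf ⟨x, hx⟩).asIdeal := by
  have h := SetLike.ext_iff.1 (hD.fromSpec_preimage_basicOpen f) (hD.primeIdealOf ⟨x, hx⟩)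
  rw [Scheme.Hom.mem_preimage, hD.fromSpec_primeIdealOf] at h
  exact h

variable {S : Scheme.{u}} (G : Grpd.GroupoidScheme S)

theorem i_comp_i : G.i ≫ G.i = 𝟙 G.R := by
  have key : ∀ {T : Scheme.{u}} (α : T ⟶ G.R), α ≫ G.i ≫ G.i = α := by
    intro T α
    have h1 : (α ≫ G.i ≫ G.i) ≫ G.s = (α ≫ G.i) ≫ G.t := by simp only [Category.assoc, G.i_s]
    have h2 : (α ≫ G.i) ≫ G.s = α ≫ G.t := by rw [Category.assoc, G.i_s]
    have h := G.assoc (α ≫ G.i ≫ G.i) (α ≫ G.i) α h1 h2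
    have e1 : pullback.lift (α ≫ G.i ≫ G.i) (α ≫ G.i) h1 ≫ G.c = α ≫ G.t ≫ G.e := by
      have := G.i_comp (α ≫ G.i)
      simp only [Category.assoc] at this
      rw [this, ← Category.assoc G.i, G.i_s]
    have e2 : pullback.lift (α ≫ G.i) α h2 ≫ G.c = (α ≫ G.i ≫ G.i) ≫ G.s ≫ G.e := by
      rw [G.i_comp α]
      simp only [Category.assoc]
      rw [← Category.assoc G.i G.s, G.i_s, ← Category.assoc G.i G.t, G.i_t]
    have hL : pullback.lift (pullback.lift (α ≫ G.i ≫ G.i) (α ≫ G.i) h1 ≫ G.c) α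
        ((G.comp_s _ _ h1).trans h2) ≫ G.c = α := by
      simp only [e1]
      exact G.e_comp α
    have hR : pullback.lift (α ≫ G.i ≫ G.i) (pullback.lift (α ≫ G.i) α h2 ≫ G.c)
        (h1.trans (G.comp_t _ _ h2).symm) ≫ G.c = α ≫ G.i ≫ G.i := by
      simp only [e2]
      exact G.comp_e _
    exact (hR.symm.trans h.symm).trans hL
  simpa using key (𝟙 G.R)

theorem isIso_i : IsIso G.i := ⟨G.i, i_comp_i G, i_comp_i G⟩

theorem prop_t (P : MorphismProperty Scheme.{u}) [P.RespectsIso] (hs : P G.s) : P G.t := by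
  haveI := isIso_i G
  rw [← G.i_s, P.cancel_left_of_respectsIso]
  exact hs

/-- A finite locally free source gives a finite locally free target. -/
theorem t_props [IsFinite G.s] [Flat G.s] [LocallyOfFinitePresentation G.s] :
    IsFinite G.t ∧ Flat G.t ∧ LocallyOfFinitePresentation G.t :=
  ⟨prop_t G @IsFinite ‹_›, prop_t G @Flat ‹_›, prop_t G @LocallyOfFinitePresentation ‹_›⟩

/-- Two points are related if they are the target and source of an arrow. -/
def Rel (x y : G.U) : Prop := ∃ r : G.R, G.t r = x ∧ G.s r = y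

theorem Rel.refl (x : G.U) : Rel G x x :=
  ⟨G.e x, by rw [← Scheme.Hom.comp_apply, G.e_t]; rfl, by rw [← Scheme.Hom.comp_apply, G.e_s]; rfl⟩

variable {G}

theorem Rel.symm {x y : G.U} (h : Rel G x y) : Rel G y x := by
  obtain ⟨r, rfl, rfl⟩ := h
  exact ⟨G.i r, by rw [← Scheme.Hom.comp_apply, G.i_t], by rw [← Scheme.Hom.comp_apply, G.i_s]⟩

theorem Rel.trans {x y z : G.U} (h : Rel G x y) (h' : Rel G y z) : Rel G x z := by
  obtain ⟨r, rfl, hy⟩ := h
  obtain ⟨r', hy', rfl⟩ := h'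
  obtain ⟨w, hw₁, hw₂⟩ := Scheme.Pullback.exists_preimage_pullback (f := G.s) (g := G.t) r r' (hy.trans hy'.symm)
  refine ⟨G.c w, ?_, ?_⟩
  · rw [← Scheme.Hom.comp_apply, c_t, Scheme.Hom.comp_apply, hw₁]
  · rw [← Scheme.Hom.comp_apply, c_s, Scheme.Hom.comp_apply, hw₂]

variable (G) in
/-- An open is invariant if it is saturated. -/
theorem invariant_iff (W : G.U.Opens) :
    G.s ⁻¹ᵁ W = G.t ⁻¹ᵁ W ↔ ∀ {x y}, Rel G x y → x ∈ W → y ∈ W := by
  constructor
  · rintro h x y ⟨r, rfl, rfl⟩ hx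
    exact h.ge hx
  · intro h
    refine le_antisymm (fun r hr => ?_) (fun r hr => h ⟨r, rfl, rfl⟩ hr)
    exact h (Rel.symm ⟨r, rfl, rfl⟩) hr

variable (G) in
/-- The points all of whose relatives lie in an open. -/
theorem exists_interior [IsFinite G.s] (O : G.U.Opens) :
    ∃ W : G.U.Opens, ∀ x, x ∈ W ↔ ∀ y, Rel G y x → y ∈ O := by
  refine ⟨⟨(G.s '' (G.t ⁻¹' (O : Set G.U)ᶜ))ᶜ, ?_⟩, fun x => ?_⟩
  · exact (G.s.isClosedMap _ (O.2.isClosed_compl.preimage G.t.continuous)).isOpen_compl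
  · constructor
    · rintro h y ⟨r, rfl, rfl⟩
      by_contra hy
      exact h ⟨r, hy, rfl⟩
    · rintro h ⟨r, hr, rfl⟩
      exact hr (h _ ⟨r, rfl, rfl⟩)

/-- Orbits are finite. -/
theorem finite_rel [IsFinite G.s] (x : G.U) : {y | Rel G y x}.Finite := by
  refine ((IsFinite.finite_preimage_singleton G.s x).image G.t).subset ?_
  rintro y ⟨r, rfl, hr⟩
  exact ⟨r, hr, rfl⟩

variable (G) in
/-- An orbit in an affine open and in an open has an invariant affine neighbourhood inside that open. -/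
theorem exists_invariant_affine [IsFinite G.s] [Flat G.s] [LocallyOfFinitePresentation G.s] (u : G.U)
    {V : G.U.Opens} (hV : IsAffineOpen V) (O : G.U.Opens) (hVu : ∀ y, Rel G y u → y ∈ V)
    (hOu : ∀ y, Rel G y u → y ∈ O) :
    ∃ W : G.U.Opens, IsAffineOpen W ∧ u ∈ W ∧ G.s ⁻¹ᵁ W = G.t ⁻¹ᵁ W ∧ W ≤ O ∧ W ≤ V := by
  obtain ⟨V', hV'⟩ := exists_interior G (V ⊓ O)
  obtain ⟨f, hf, hfu⟩ : ∃ f : Γ(G.U, V), G.U.basicOpen f ≤ V' ∧ ∀ y, Rel G y u → y ∈ G.U.basicOpen f := by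
    haveI : Finite ↥{y | Rel G y u} := (finite_rel u).to_subtype
    obtain ⟨f, hf, hfu⟩ := exists_basicOpen_mem hV V' (fun y : ↥{y | Rel G y u} => (y : G.U))
      (fun y => hVu _ y.2) (fun y => (hV' _).2 fun z hz => ⟨hVu _ (hz.trans y.2), hOu _ (hz.trans y.2)⟩)
    exact ⟨f, hf, fun y hy => hfu ⟨y, hy⟩⟩
  obtain ⟨W, hW⟩ := exists_interior G (G.U.basicOpen f)
  let D := G.U.basicOpen f
  have hD : IsAffineOpen D := hV.basicOpen f
  have hDR : IsAffineOpen (G.s ⁻¹ᵁ D) := hD.preimage G.s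
  have hle : G.s ⁻¹ᵁ D ≤ G.t ⁻¹ᵁ V := fun r hr => ((hV' _).1 (hf hr) _ ⟨r, rfl, rfl⟩).1
  let g := (G.t.appLE V (G.s ⁻¹ᵁ D) hle).hom f
  have hg : ∀ r, r ∈ G.R.basicOpen g ↔ r ∈ G.s ⁻¹ᵁ D ∧ G.t r ∈ D := fun r => by
    simp only [g, Scheme.basicOpen_appLE]
    rfl
  let σ := (G.s.appLE D (G.s ⁻¹ᵁ D) le_rfl).hom
  obtain ⟨N, hN⟩ := exists_norm_elt σ
    (by simp only [σ, Scheme.Hom.appLE_eq_app]; exact G.s.finite_app D hD)
    (G.s.flat_appLE hD hDR le_rfl)
    (HasRingHomProperty.appLE (P := @LocallyOfFinitePresentation) G.s inferInstance ⟨D, hD⟩ ⟨_, hDR⟩ le_rfl) g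
  have hWN : W = G.U.basicOpen N := by
    refine Opens.ext (Set.ext fun x => ?_)
    change x ∈ W ↔ x ∈ G.U.basicOpen N
    rw [hW]
    constructor
    · intro h
      have hxD : x ∈ D := h x (Rel.refl G x)
      by_contra hx
      rw [mem_basicOpen_iff hD hxD] at hx
      obtain ⟨Q, hQ, hgQ⟩ := (hN (hD.primeIdealOf ⟨x, hxD⟩)).1 (not_not.1 hx)
      let r := hDR.fromSpec Q
      have hr : r ∈ G.s ⁻¹ᵁ D := by
        have : r ∈ Set.range hDR.fromSpec := ⟨Q, rfl⟩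
        rwa [hDR.range_fromSpec] at this
      have hrs : G.s r = x := by
        have e := hD.SpecMap_appLE_fromSpec G.s hDR (le_refl (G.s ⁻¹ᵁ D))
        have e' := congrArg (fun k => k Q) e
        simp only [Scheme.Hom.comp_apply] at e'
        exact e'.symm.trans ((congrArg hD.fromSpec hQ).trans (hD.fromSpec_primeIdealOf ⟨x, hxD⟩))
      have hrg : r ∈ G.R.basicOpen g := (hg r).2 ⟨hr, h _ ⟨r, rfl, hrs⟩⟩
      rw [← Scheme.Hom.mem_preimage, hDR.fromSpec_preimage_basicOpen] at hrg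
      exact hrg hgQ
    · rintro hx y ⟨r, rfl, rfl⟩
      have hr : r ∈ G.s ⁻¹ᵁ D := G.U.basicOpen_le N hx
      by_contra hy
      have hQ : g ∈ (hDR.primeIdealOf ⟨r, hr⟩).asIdeal := by
        by_contra hgQ
        refine hy ((hg r).1 ?_).2
        rw [mem_basicOpen_iff hDR hr]
        exact hgQ
      have hP := (hN (hD.primeIdealOf ⟨G.s r, hr⟩)).2 ⟨_, IsAffineOpen.comap_primeIdealOf_appLE (f := G.s) D hD (G.s ⁻¹ᵁ D) hDR le_rfl hr, hQ⟩
      rw [mem_basicOpen_iff hD hr] at hx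
      exact hx hP
  refine ⟨W, hWN ▸ hD.basicOpen N, (hW u).2 hfu, ?_, fun x hx => ?_, fun x hx => ?_⟩
  · rw [invariant_iff]
    exact fun {x y} hxy hx => (hW y).2 fun z hz => (hW x).1 hx z (hz.trans hxy.symm)
  · exact ((hV' x).1 (hf ((hW x).1 hx x (Rel.refl G x))) x (Rel.refl G x)).2
  · exact G.U.basicOpen_le f ((hW x).1 hx x (Rel.refl G x))

end Groth.Agent.FinGrpdLib
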