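import Groth.Agent.FinGrpdLib.Glue
import Groth.Agent.S1878
import Groth.Prelude.Def_Mor2
/-!
Properties of the quotient of a groupoid scheme with finite locally free source.
-/

set_option autoImplicit false
set_option backward.isDefEq.respectTransparency false
universe u

open CategoryTheory CategoryTheory.Limits AlgebraicGeometry Opposite TopologicalSpace

noncomputable section

namespace Groth.Agent.FinGrpdLib

variable {S : Scheme.{u}} {G : Grpd.GroupoidScheme S} [IsFinite G.s] [Flat G.s] [LocallyOfFinitePresentation G.s]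

variable (G) in
/-- A quotient together with its affine charts. -/
structure Charted (Y : Scheme.{u}) (p : G.U ⟶ Y) : Prop where
  isQ : IsQ G.s G.t p
  orbits : OrbitsAffine G
  chart : ∀ W : InvAff G, ∃ (j : QObj W ⟶ Y) (_ : IsOpenImmersion j),
    qMap W ≫ j = W.1.ι ≫ p ∧ p ⁻¹ᵁ j.opensRange = W.1

variable (G) in
theorem exists_charted (h : OrbitsAffine G) : ∃ (Y : Scheme.{u}) (p : G.U ⟶ Y), Charted G Y p := by
  obtain ⟨Y, p, hp, hc⟩ := exists_isQ G h
  exact ⟨Y, p, hp, h, hc⟩

theorem orbitsAffine_of_image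
    (hb : ∀ x : G.U, ∃ V : G.U.Opens, IsAffineOpen V ∧ G.t.base '' (G.s.base ⁻¹' {x}) ⊆ (V : Set G.U)) :
    OrbitsAffine G := fun x => by
  obtain ⟨V, hV, h⟩ := hb x
  exact ⟨V, hV, fun y ⟨r, hr, hr'⟩ => h ⟨r, hr', hr⟩⟩

variable {Y : Scheme.{u}} {p : G.U ⟶ Y}

theorem Charted.exists_chart (h : Charted G Y p) (x : G.U) :
    ∃ (W : InvAff G) (j : QObj W ⟶ Y) (_ : IsOpenImmersion j),
      qMap W ≫ j = W.1.ι ≫ p ∧ p ⁻¹ᵁ j.opensRange = W.1 ∧ x ∈ W.1 := by
  obtain ⟨W, hxW, -⟩ := exists_invAff h.orbits x ⊤ fun y _ => trivial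
  obtain ⟨j, hj, h1, h2⟩ := h.chart W
  exact ⟨W, j, hj, h1, h2, hxW⟩

/-- A property local on the target can be checked on the affine charts. -/
theorem Charted.prop (h : Charted G Y p) (P : MorphismProperty Scheme.{u}) [IsZariskiLocalAtTarget P]
    (hP : ∀ W : InvAff G, P (qMap W)) : P p := by
  choose j hj hfac hpre using h.chart
  haveI := hj
  have hcov : iSup (fun W : InvAff G => (j W).opensRange) = ⊤ := eq_top_iff.2 fun y _ => by
    obtain ⟨x, rfl⟩ := h.isQ.surjective y
    obtain ⟨W, hxW, -⟩ := exists_invAff h.orbits x ⊤ fun z _ => trivial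
    exact Opens.mem_iSup.2 ⟨W, (hpre W).ge hxW⟩
  rw [IsZariskiLocalAtTarget.iff_of_iSup_eq_top (P := P) _ hcov]
  intro W
  have sq : IsPullback (qMap W) W.1.ι (j W) p :=
    IsOpenImmersion.isPullback _ _ _ _ (hfac W).symm (by rw [hpre W, Scheme.Opens.opensRange_ι])
  have sq' := isPullback_morphismRestrict p (j W).opensRange
  let e := IsOpenImmersion.isoOfRangeEq (j W) (j W).opensRange.ι (by rw [Scheme.Opens.range_ι]; rfl)
  have sq'' : IsPullback (qMap W ≫ e.hom) W.1.ι (j W).opensRange.ι p :=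
    sq.of_iso (Iso.refl _) e (Iso.refl _) (Iso.refl _) (by simp) (by simp) (by simp [e]) (by simp)
  rw [← sq'.isoPullback_hom_fst, MorphismProperty.cancel_left_of_respectsIso P,
    ← sq''.isoPullback_inv_fst, MorphismProperty.cancel_left_of_respectsIso P,
    MorphismProperty.cancel_right_of_respectsIso P]
  exact hP W

/-- For an equivalence relation the quotient map is finite locally free. -/
theorem Charted.isFinLocFree [Mono G.j] (h : Charted G Y p) : Mor2.IsFinLocFree p := by
  haveI := (t_props G).1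
  have H : ∀ W : InvAff G, (IsFinite (qMap W) ∧ Flat (qMap W)) ∧ LocallyOfFinitePresentation (qMap W) := fun W => by
    haveI := (isAffine_resA W).1
    haveI := (isAffine_resA W).2
    haveI := (t_props (resA W)).1
    obtain ⟨⟨h₁, h₂, h₃⟩, -⟩ := toQuot_finite_flat (resA W)
    exact ⟨⟨h₁, h₂⟩, h₃⟩
  exact ⟨h.prop @IsFinite fun W => (H W).1.1, h.prop @Flat fun W => (H W).1.2,
    h.prop @LocallyOfFinitePresentation fun W => (H W).2⟩

/-- For an equivalence relation the relation is the kernel pair. -/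
theorem Charted.isPullback [Mono G.j] (h : Charted G Y p) : IsPullback G.t G.s p p := by
  haveI := (t_props G).1
  have huniq : ∀ {T : Scheme.{u}} (r r' : T ⟶ G.R), r ≫ G.t = r' ≫ G.t → r ≫ G.s = r' ≫ G.s → r = r' :=
    fun {T} r r' ht hs => by
      rw [← cancel_mono G.j]
      apply pullback.hom_ext <;> simpa [Grpd.GroupoidScheme.j] using ‹_›
  have hex : ∀ {T : Scheme.{u}} (a b : T ⟶ G.U), a ≫ p = b ≫ p → ∃ r : T ⟶ G.R, r ≫ G.t = a ∧ r ≫ G.s = b := by
    intro T a b hab
    have hloc : ∀ z : T, ∃ O : T.Opens, z ∈ O ∧ ∃ r : O.toScheme ⟶ G.R, r ≫ G.t = O.ι ≫ a ∧ r ≫ G.s = O.ι ≫ b := by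
      intro z
      obtain ⟨W, j, hj, hfac, hpre, hzW⟩ := h.exists_chart (a z)
      haveI := hj
      haveI := (isAffine_resA W).1
      haveI := (isAffine_resA W).2
      haveI := (t_props (resA W)).1
      have hbW : ∀ w ∈ a ⁻¹ᵁ W.1, b w ∈ W.1 := fun w hw => by
        rw [← hpre]
        change (b ≫ p) w ∈ j.opensRange
        rw [← hab]
        exact hpre.ge hw
      let a' := a.resLE W.1 (a ⁻¹ᵁ W.1) le_rfl
      let b' := b.resLE W.1 (a ⁻¹ᵁ W.1) hbW
      have e : a' ≫ qMap W = b' ≫ qMap W := by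
        rw [← cancel_mono j, Category.assoc, Category.assoc, hfac, Scheme.Hom.resLE_comp_ι_assoc,
          Scheme.Hom.resLE_comp_ι_assoc, hab]
      obtain ⟨-, hk⟩ := toQuot_finite_flat (resA W)
      refine ⟨a ⁻¹ᵁ W.1, hzW, hk.lift a' b' e ≫ (G.s ⁻¹ᵁ W.1).ι, ?_, ?_⟩
      · rw [Category.assoc, ← Scheme.Hom.resLE_comp_ι G.t W.2.2.le, ← Category.assoc,
          show hk.lift a' b' e ≫ G.t.resLE W.1 (G.s ⁻¹ᵁ W.1) W.2.2.le = a' from hk.lift_fst a' b' e]
        exact Scheme.Hom.resLE_comp_ι _ _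
      · rw [Category.assoc, ← morphismRestrict_ι, ← Category.assoc,
          show hk.lift a' b' e ≫ (G.s ∣_ W.1) = b' from hk.lift_snd a' b' e]
        exact Scheme.Hom.resLE_comp_ι _ _
    choose O hO r hr₁ hr₂ using hloc
    let 𝒰 := T.openCoverOfIsOpenCover O (eq_top_iff.2 fun z _ => Opens.mem_iSup.2 ⟨z, hO z⟩)
    have hag : ∀ z w : T, pullback.fst (O z).ι (O w).ι ≫ r z = pullback.snd (O z).ι (O w).ι ≫ r w := fun z w => by
      apply huniq
      · rw [Category.assoc, Category.assoc, hr₁, hr₁, pullback.condition_assoc]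
      · rw [Category.assoc, Category.assoc, hr₂, hr₂, pullback.condition_assoc]
    refine ⟨𝒰.glueMorphisms r hag, ?_, ?_⟩ <;> refine Scheme.Cover.hom_ext 𝒰 _ _ fun z => ?_
    · rw [← Category.assoc, Scheme.Cover.ι_glueMorphisms]
      exact hr₁ z
    · rw [← Category.assoc, Scheme.Cover.ι_glueMorphisms]
      exact hr₂ z
  refine ⟨⟨h.isQ.w.symm⟩, ⟨PullbackCone.IsLimit.mk _
    (fun c => (hex c.fst c.snd c.condition).choose) (fun c => (hex c.fst c.snd c.condition).choose_spec.1)
    (fun c => (hex c.fst c.snd c.condition).choose_spec.2)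
    (fun c m h₁ h₂ => huniq m _ (h₁.trans (hex c.fst c.snd c.condition).choose_spec.1.symm)
      (h₂.trans (hex c.fst c.snd c.condition).choose_spec.2.symm))⟩⟩

/-- The relation covers the fibre product over the quotient. -/
theorem Charted.surjective_lift (h : Charted G Y p) :
    Function.Surjective (pullback.lift G.t G.s h.isQ.w.symm).base := by
  haveI ht₁ := (t_props G).1
  intro z
  let P := pullback p p
  let k := AlgebraicClosure (P.residueField z)
  let χ : Spec (CommRingCat.of k) ⟶ P :=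
    Spec.map (CommRingCat.ofHom (algebraMap (P.residueField z) k)) ≫ P.fromSpecResidueField z
  let x₀ := χ ≫ pullback.fst p p
  let x₁ := χ ≫ pullback.snd p p
  obtain ⟨W, j, hj, hfac, hpre, hzW⟩ := h.exists_chart (pullback.fst p p z)
  haveI := hj
  haveI := (isAffine_resA W).1
  haveI := (isAffine_resA W).2
  obtain ⟨ht1, ht2, ht3⟩ := t_props (resA W)
  let pt : Spec (CommRingCat.of k) := default
  have hχ : ∀ q : Spec (CommRingCat.of k), χ q = z := fun q => by
    change (P.fromSpecResidueField z) _ = z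
    exact Scheme.fromSpecResidueField_apply z _
  have h₀ : Set.range x₀ ⊆ Set.range W.1.ι := by
    rw [Scheme.Opens.range_ι]
    rintro _ ⟨q, rfl⟩
    change pullback.fst p p (χ q) ∈ W.1
    rw [hχ]
    exact hzW
  have h₁ : Set.range x₁ ⊆ Set.range W.1.ι := by
    rw [Scheme.Opens.range_ι]
    rintro _ ⟨q, rfl⟩
    change pullback.snd p p (χ q) ∈ W.1
    rw [hχ, ← hpre]
    change (pullback.snd p p ≫ p) z ∈ j.opensRange
    rw [← pullback.condition]
    exact hpre.ge hzW
  let y₀ := IsOpenImmersion.lift W.1.ι x₀ h₀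
  let y₁ := IsOpenImmersion.lift W.1.ι x₁ h₁
  have e : y₀ ≫ (resA W).toQuot = y₁ ≫ (resA W).toQuot := by
    rw [← cancel_mono j, Category.assoc, Category.assoc]
    change y₀ ≫ qMap W ≫ j = y₁ ≫ qMap W ≫ j
    rw [hfac, IsOpenImmersion.lift_fac_assoc, IsOpenImmersion.lift_fac_assoc]
    simp only [x₀, x₁, χ, P, Category.assoc, pullback.condition]
  obtain ⟨r, hr₀, hr₁⟩ := (((Groth.Agent.S1878.result S (resA W)).2 k).2 y₀ y₁).1 e
  refine ⟨(G.s ⁻¹ᵁ W.1).ι (r pt), ?_⟩
  have hl : (r ≫ (G.s ⁻¹ᵁ W.1).ι) ≫ pullback.lift G.t G.s h.isQ.w.symm = χ := by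
    apply pullback.hom_ext
    · rw [Category.assoc, pullback.lift_fst, Category.assoc, ← Scheme.Hom.resLE_comp_ι G.t W.2.2.le, ← Category.assoc,
        show r ≫ G.t.resLE W.1 (G.s ⁻¹ᵁ W.1) W.2.2.le = y₀ from hr₀]
      exact IsOpenImmersion.lift_fac _ _ _
    · rw [Category.assoc, pullback.lift_snd, Category.assoc, ← morphismRestrict_ι, ← Category.assoc,
        show r ≫ (G.s ∣_ W.1) = y₁ from hr₁]
      exact IsOpenImmersion.lift_fac _ _ _
  exact (congrArg (fun k => k pt) hl).trans (hχ pt)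

/-- The quotient of an affine scheme is affine. -/
theorem Charted.isAffine (h : Charted G Y p) [IsAffine G.U] : IsAffine Y := by
  haveI : IsAffine G.R := isAffine_of_isAffineHom G.s
  have h' := isQ_toQuot G
  let a := h.isQ.desc G.toQuot h'.w
  let b := h'.desc p h.isQ.w
  haveI : IsIso a := ⟨b, h.isQ.hom_ext (by rw [← Category.assoc, h.isQ.fac, h'.fac, Category.comp_id]),
    h'.hom_ext (by rw [← Category.assoc, h'.fac, h.isQ.fac, Category.comp_id])⟩
  exact IsAffine.of_isIso a

end Groth.Agent.FinGrpdLib
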