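import Groth.Agent.FinGrpdLib.Orbit
/-!
Restriction of a groupoid scheme to an invariant open.
-/

set_option autoImplicit false
set_option backward.isDefEq.respectTransparency false
universe u

open CategoryTheory CategoryTheory.Limits AlgebraicGeometry TopologicalSpace

noncomputable section

namespace Groth.Agent.FinGrpdLib

variable {S : Scheme.{u}} (G : Grpd.GroupoidScheme S) (W : G.U.Opens) (hW : G.s ⁻¹ᵁ W = G.t ⁻¹ᵁ W)

/-- Composition of composable pairs over an invariant open. -/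
def resC : pullback (G.s ∣_ W) (G.t.resLE W (G.s ⁻¹ᵁ W) hW.le) ⟶ (G.s ⁻¹ᵁ W).toScheme :=
  IsOpenImmersion.lift (G.s ⁻¹ᵁ W).ι
    (pullback.map _ _ G.s G.t (G.s ⁻¹ᵁ W).ι (G.s ⁻¹ᵁ W).ι W.ι (morphismRestrict_ι _ _)
      (Scheme.Hom.resLE_comp_ι _ _) ≫ G.c) (by
    rintro _ ⟨z, rfl⟩
    rw [Scheme.Opens.range_ι]
    change G.s _ ∈ W
    rw [← Scheme.Hom.comp_apply, Category.assoc, c_s, pullback.lift_snd_assoc, Category.assoc,
      Scheme.Hom.comp_apply, Scheme.Hom.comp_apply]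
    exact ((pullback.snd (G.s ∣_ W) (G.t.resLE W (G.s ⁻¹ᵁ W) hW.le)) z).2)

theorem lift_resC {T : Scheme.{u}} (α β : T ⟶ (G.s ⁻¹ᵁ W).toScheme)
    (h : α ≫ (G.s ∣_ W) = β ≫ G.t.resLE W (G.s ⁻¹ᵁ W) hW.le) :
    (pullback.lift α β h ≫ resC G W hW) ≫ (G.s ⁻¹ᵁ W).ι =
      pullback.lift (α ≫ (G.s ⁻¹ᵁ W).ι) (β ≫ (G.s ⁻¹ᵁ W).ι)
        (by rw [Category.assoc, Category.assoc, ← morphismRestrict_ι, ← Scheme.Hom.resLE_comp_ι G.t hW.le,
          reassoc_of% h]) ≫ G.c := by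
  rw [Category.assoc, resC, IsOpenImmersion.lift_fac, ← Category.assoc]
  congr 1
  apply pullback.hom_ext <;> simp

/-- The restriction to an invariant open. -/
def res : Grpd.GroupoidScheme S where
  U := W.toScheme
  R := (G.s ⁻¹ᵁ W).toScheme
  pU := W.ι ≫ G.pU
  pR := (G.s ⁻¹ᵁ W).ι ≫ G.pR
  s := G.s ∣_ W
  t := G.t.resLE W (G.s ⁻¹ᵁ W) hW.le
  e := G.e.resLE (G.s ⁻¹ᵁ W) W (fun x hx => by
    change (G.e ≫ G.s) x ∈ W
    rw [G.e_s]
    exact hx)
  i := G.i.resLE (G.s ⁻¹ᵁ W) (G.s ⁻¹ᵁ W) (fun x hx => by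
    change (G.i ≫ G.s) x ∈ W
    rw [G.i_s]
    exact hW.le hx)
  c := resC G W hW
  s_over := by rw [morphismRestrict_ι_assoc, G.s_over]
  t_over := by rw [Scheme.Hom.resLE_comp_ι_assoc, G.t_over]
  comp_s α β h := by
    rw [← cancel_mono W.ι, Category.assoc, morphismRestrict_ι, ← Category.assoc, lift_resC, G.comp_s,
      Category.assoc, Category.assoc, morphismRestrict_ι]
  comp_t α β h := by
    rw [← cancel_mono W.ι, Category.assoc, Scheme.Hom.resLE_comp_ι, ← Category.assoc, lift_resC, G.comp_t,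
      Category.assoc, Category.assoc, Scheme.Hom.resLE_comp_ι]
  assoc α β γ h₁ h₂ := by
    rw [← cancel_mono (G.s ⁻¹ᵁ W).ι]
    simp only [lift_resC]
    exact G.assoc _ _ _ _ _
  e_s := by
    rw [← cancel_mono W.ι, Category.assoc, morphismRestrict_ι, Scheme.Hom.resLE_comp_ι_assoc, G.e_s,
      Category.comp_id, Category.id_comp]
  e_t := by
    rw [← cancel_mono W.ι, Category.assoc, Scheme.Hom.resLE_comp_ι, Scheme.Hom.resLE_comp_ι_assoc, G.e_t,
      Category.comp_id, Category.id_comp]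
  comp_e α := by
    rw [← cancel_mono (G.s ⁻¹ᵁ W).ι, lift_resC]
    simp only [Category.assoc, Scheme.Hom.resLE_comp_ι, morphismRestrict_ι_assoc]
    simpa only [Category.assoc] using G.comp_e (α ≫ (G.s ⁻¹ᵁ W).ι)
  e_comp α := by
    rw [← cancel_mono (G.s ⁻¹ᵁ W).ι, lift_resC]
    simp only [Category.assoc, Scheme.Hom.resLE_comp_ι, Scheme.Hom.resLE_comp_ι_assoc]
    simpa only [Category.assoc] using G.e_comp (α ≫ (G.s ⁻¹ᵁ W).ι)
  i_s := by
    rw [← cancel_mono W.ι, Category.assoc, morphismRestrict_ι, Scheme.Hom.resLE_comp_ι_assoc, G.i_s,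
      Scheme.Hom.resLE_comp_ι]
  i_t := by
    rw [← cancel_mono W.ι, Category.assoc, Scheme.Hom.resLE_comp_ι, Scheme.Hom.resLE_comp_ι_assoc, G.i_t,
      morphismRestrict_ι]
  comp_i α := by
    rw [← cancel_mono (G.s ⁻¹ᵁ W).ι, lift_resC]
    simp only [Category.assoc, Scheme.Hom.resLE_comp_ι, Scheme.Hom.resLE_comp_ι_assoc]
    simpa only [Category.assoc] using G.comp_i (α ≫ (G.s ⁻¹ᵁ W).ι)
  i_comp α := by
    rw [← cancel_mono (G.s ⁻¹ᵁ W).ι, lift_resC]
    simp only [Category.assoc, Scheme.Hom.resLE_comp_ι, morphismRestrict_ι_assoc]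
    simpa only [Category.assoc] using G.i_comp (α ≫ (G.s ⁻¹ᵁ W).ι)

instance [Flat G.s] : Flat (res G W hW).s := inferInstanceAs (Flat (G.s ∣_ W))

instance [IsFinite G.s] : IsFinite (res G W hW).s := inferInstanceAs (IsFinite (G.s ∣_ W))

instance [LocallyOfFinitePresentation G.s] : LocallyOfFinitePresentation (res G W hW).s :=
  inferInstanceAs (LocallyOfFinitePresentation (G.s ∣_ W))

instance [Mono G.j] : Mono (res G W hW).j := ⟨fun {T} α β h => by
  change α ≫ _ = β ≫ _ at h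
  rw [← cancel_mono (G.s ⁻¹ᵁ W).ι, ← cancel_mono G.j]
  have h₁ := congrArg (· ≫ pullback.fst _ _ ≫ W.ι) h
  have h₂ := congrArg (· ≫ pullback.snd _ _ ≫ W.ι) h
  simp only [Grpd.GroupoidScheme.j, res, Category.assoc, pullback.lift_fst_assoc, pullback.lift_snd_assoc,
    morphismRestrict_ι, Scheme.Hom.resLE_comp_ι] at h₁ h₂
  apply pullback.hom_ext <;> simpa [Grpd.GroupoidScheme.j] using ‹_›⟩

/-- Two maps into an invariant open joined by arrows are equalized by everything equalizing source and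
target of the restriction. -/
theorem res_eq {T Z : Scheme.{u}} (a b : T ⟶ W.toScheme) (ρ : T ⟶ G.R) (ha : ρ ≫ G.s = a ≫ W.ι)
    (hb : ρ ≫ G.t = b ≫ W.ι) (q : W.toScheme ⟶ Z)
    (hq : (res G W hW).s ≫ q = (res G W hW).t ≫ q) : a ≫ q = b ≫ q := by
  let ρ' : T ⟶ (G.s ⁻¹ᵁ W).toScheme := IsOpenImmersion.lift (G.s ⁻¹ᵁ W).ι ρ (by
    rw [Scheme.Opens.range_ι]
    rintro _ ⟨z, rfl⟩
    change (ρ ≫ G.s) z ∈ W
    rw [ha]
    exact (a z).2)
  have e₁ : ρ' ≫ (res G W hW).s = a := by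
    change ρ' ≫ (G.s ∣_ W) = a
    rw [← cancel_mono W.ι, Category.assoc, morphismRestrict_ι, IsOpenImmersion.lift_fac_assoc, ha]
  have e₂ : ρ' ≫ (res G W hW).t = b := by
    change ρ' ≫ G.t.resLE W (G.s ⁻¹ᵁ W) hW.le = b
    rw [← cancel_mono W.ι, Category.assoc, Scheme.Hom.resLE_comp_ι, IsOpenImmersion.lift_fac_assoc, hb]
  rw [← e₁, ← e₂, Category.assoc, Category.assoc, hq]

end Groth.Agent.FinGrpdLib
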