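import Groth.Agent.FinGrpdLib.Base
import Groth.Prelude.Def_Grpd
/-!
Affine groupoid schemes with finite locally free source and target, in terms of their rings.
-/

set_option autoImplicit false
set_option backward.isDefEq.respectTransparency false
universe u

open CategoryTheory CategoryTheory.Limits AlgebraicGeometry TensorProduct

namespace Groth.Agent.FinGrpdLib

variable {S : Scheme.{u}} (G : Grpd.GroupoidScheme S)

theorem lift_fst_snd : pullback.lift (pullback.fst G.s G.t) (pullback.snd G.s G.t) pullback.condition =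
    𝟙 (pullback G.s G.t) := by ext <;> simp

theorem c_s : G.c ≫ G.s = pullback.snd G.s G.t ≫ G.s := by
  have := G.comp_s (pullback.fst G.s G.t) (pullback.snd G.s G.t) pullback.condition
  rwa [lift_fst_snd, Category.id_comp] at this

theorem c_t : G.c ≫ G.t = pullback.fst G.s G.t ≫ G.t := by
  have := G.comp_t (pullback.fst G.s G.t) (pullback.snd G.s G.t) pullback.condition
  rwa [lift_fst_snd, Category.id_comp] at this

/-- `(α, β) ↦ (α ∘ β, β)` identifies composable pairs with pairs of equal source. -/
theorem isPullback_comp : IsPullback G.c (pullback.snd G.s G.t) G.s G.s := by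
  have hw : G.c ≫ G.s = pullback.snd G.s G.t ≫ G.s := by
    have := G.comp_s (pullback.fst G.s G.t) (pullback.snd G.s G.t) pullback.condition
    have hid : pullback.lift (pullback.fst G.s G.t) (pullback.snd G.s G.t) pullback.condition = 𝟙 (pullback G.s G.t) := by
      ext <;> simp
    rwa [hid, Category.id_comp] at this
  -- the inverse: `(γ, β) ↦ (γ ∘ β⁻¹, β)`
  refine IsPullback.of_iso (IsPullback.of_hasPullback G.s G.s) ?_ (Iso.refl _) (Iso.refl _) (Iso.refl _) ?_ ?_ (by simp) (by simp)
  · refine
      { hom := pullback.lift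
          (pullback.lift (pullback.fst G.s G.s) (pullback.snd G.s G.s ≫ G.i)
            (by rw [Category.assoc, G.i_t]; exact pullback.condition) ≫ G.c)
          (pullback.snd G.s G.s) ?_
        inv := pullback.lift G.c (pullback.snd G.s G.t) hw
        hom_inv_id := ?_
        inv_hom_id := ?_ }
    · rw [G.comp_s, Category.assoc, G.i_s]
    · apply pullback.hom_ext
      · rw [Category.assoc, pullback.lift_fst, Category.id_comp]
        have hI : pullback.lift (pullback.snd G.s G.s ≫ G.i) (pullback.snd G.s G.s)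
            (by rw [Category.assoc, G.i_s]) ≫ G.c = pullback.fst G.s G.s ≫ G.s ≫ G.e := by
          rw [G.i_comp, ← pullback.condition_assoc]
        have h := G.assoc (pullback.fst G.s G.s) (pullback.snd G.s G.s ≫ G.i) (pullback.snd G.s G.s)
          (by rw [Category.assoc, G.i_t]; exact pullback.condition) (by rw [Category.assoc, G.i_s])
        refine h.trans ?_
        simp only [hI]
        exact G.comp_e _
      · rw [Category.assoc, pullback.lift_snd, pullback.lift_snd, Category.id_comp]
    · apply pullback.hom_ext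
      · rw [Category.assoc, pullback.lift_fst, Category.id_comp, ← Category.assoc]
        have hI : pullback.lift (pullback.snd G.s G.t) (pullback.snd G.s G.t ≫ G.i)
            (by rw [Category.assoc, G.i_t]) ≫ G.c = pullback.fst G.s G.t ≫ G.s ≫ G.e := by
          rw [G.comp_i, ← pullback.condition_assoc]
        have h := G.assoc (pullback.fst G.s G.t) (pullback.snd G.s G.t) (pullback.snd G.s G.t ≫ G.i)
          pullback.condition (by rw [Category.assoc, G.i_t])
        have hid : pullback.lift (pullback.fst G.s G.t) (pullback.snd G.s G.t) pullback.condition = 𝟙 (pullback G.s G.t) := by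
          ext <;> simp
        simp only [hI, hid, Category.id_comp] at h
        have e : pullback.lift G.c (pullback.snd G.s G.t) hw ≫ pullback.lift (pullback.fst G.s G.s) (pullback.snd G.s G.s ≫ G.i)
            (by rw [Category.assoc, G.i_t]; exact pullback.condition) =
            pullback.lift G.c (pullback.snd G.s G.t ≫ G.i) (by rw [Category.assoc, G.i_t]; exact hw) := by
          apply pullback.hom_ext
          · rw [Category.assoc, pullback.lift_fst, pullback.lift_fst, pullback.lift_fst]
          · rw [Category.assoc, pullback.lift_snd, pullback.lift_snd, pullback.lift_snd_assoc]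
        rw [e, h]
        exact G.comp_e _
      · rw [Category.assoc, pullback.lift_snd, pullback.lift_snd, Category.id_comp]
  · have hI : pullback.lift (pullback.snd G.s G.s ≫ G.i) (pullback.snd G.s G.s)
        (by rw [Category.assoc, G.i_s]) ≫ G.c = pullback.fst G.s G.s ≫ G.s ≫ G.e := by
      rw [G.i_comp, ← pullback.condition_assoc]
    have h := G.assoc (pullback.fst G.s G.s) (pullback.snd G.s G.s ≫ G.i) (pullback.snd G.s G.s)
      (by rw [Category.assoc, G.i_t]; exact pullback.condition) (by rw [Category.assoc, G.i_s])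
    simp only [hI] at h
    simp only [Iso.refl_hom, Category.comp_id]
    exact (h.trans (G.comp_e _)).symm
  · exact ((pullback.lift_snd _ _ _).trans (Category.comp_id _).symm).symm

/-- An equality of composites, on global functions. -/
theorem appTop_eq {X Y Y' Z : Scheme.{u}} {f : X ⟶ Y} {g : Y ⟶ Z} {f' : X ⟶ Y'} {g' : Y' ⟶ Z}
    (h : f ≫ g = f' ≫ g') (x : Γ(Z, ⊤)) :
    f.appTop.hom (g.appTop.hom x) = f'.appTop.hom (g'.appTop.hom x) := by
  have := congrArg (fun k : X ⟶ Z => k.appTop.hom x) h
  simp only [Scheme.Hom.comp_appTop, CommRingCat.hom_comp, RingHom.comp_apply] at this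
  exact this

section Rel

variable [IsAffine G.U] [IsAffine G.R]

theorem left_isPushout : IsPushout G.s.appTop G.t.appTop (pullback.fst G.s G.t).appTop
    (pullback.snd G.s G.t).appTop :=
  isPushout_appTop_of_isPullback (IsPullback.of_hasPullback G.s G.t)

variable [IsFinite G.s] [Flat G.s] [LocallyOfFinitePresentation G.s]

/-- The rings of an affine groupoid with finite locally free source. -/
noncomputable def toData : Data Γ(G.U, ⊤) Γ(G.R, ⊤) Γ(pullback G.s G.t, ⊤) where
  σ := G.s.appTop.hom
  τ := G.t.appTop.hom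
  p₁ := (pullback.fst G.s G.t).appTop.hom
  p₂ := (pullback.snd G.s G.t).appTop.hom
  γ := G.c.appTop.hom
  ε := G.e.appTop.hom
  hεσ x := by
    have := congrArg (fun k : G.U ⟶ G.U => k.appTop.hom x) G.e_s
    simpa using this
  hετ x := by
    have := congrArg (fun k : G.U ⟶ G.U => k.appTop.hom x) G.e_t
    simpa using this
  hγσ x := appTop_eq (c_s G) x
  hγτ x := appTop_eq (c_t G) x
  hp x := appTop_eq pullback.condition x
  finite := G.s.finite_appTop
  flat := G.s.flat_appTop
  finitePresentation := HasRingHomProperty.appTop (P := @LocallyOfFinitePresentation) _ inferInstance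
  left := left_isPushout G
  shear := isPushout_appTop_of_isPullback (isPullback_comp G)

theorem mem_invariants {a : Γ(G.U, ⊤)} : a ∈ G.invariants ↔ G.s.appTop.hom a = G.t.appTop.hom a := Iff.rfl

theorem toData_inv : (toData G).inv = G.invariants := rfl

theorem isIntegral_invariants : Algebra.IsIntegral G.invariants Γ(G.U, ⊤) := (toData G).isIntegral_inv

end Rel

theorem s_toQuot : G.s ≫ G.toQuot = G.t ≫ G.toQuot := by
  simp only [Grpd.GroupoidScheme.toQuot, Scheme.toSpecΓ_naturality_assoc, ← Spec.map_comp]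
  congr 2
  ext a
  exact a.2

/-- The map given by the global functions `(t, s)` is surjective if `j` is a monomorphism. -/
theorem span_of_mono [IsAffine G.U] [IsAffine G.R] [IsFinite G.t] [Mono G.j] (z : Γ(G.R, ⊤)) :
    ∃ (k : ℕ) (a b : Fin k → Γ(G.U, ⊤)), z = ∑ i, G.s.appTop.hom (a i) * G.t.appTop.hom (b i) := by
  let A := Γ(G.U, ⊤)
  let ψ : A ⊗[ℤ] A →+* Γ(G.R, ⊤) :=
    (Algebra.TensorProduct.lift G.s.appTop.hom.toIntAlgHom G.t.appTop.hom.toIntAlgHom
      (fun _ _ => Commute.all _ _)).toRingHom
  have hψ : ∀ a b, ψ (a ⊗ₜ b) = G.s.appTop.hom a * G.t.appTop.hom b := fun a b => Algebra.TensorProduct.lift_tmul _ _ _ a b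
  let iL : A ⟶ CommRingCat.of (A ⊗[ℤ] A) := CommRingCat.ofHom Algebra.TensorProduct.includeLeftRingHom
  let iR : A ⟶ CommRingCat.of (A ⊗[ℤ] A) := CommRingCat.ofHom (Algebra.TensorProduct.includeRight : A →ₐ[ℤ] A ⊗[ℤ] A).toRingHom
  have hL : iL ≫ CommRingCat.ofHom ψ = G.s.appTop := by
    ext a
    exact (hψ a 1).trans (by rw [map_one, mul_one])
  have hR : iR ≫ CommRingCat.ofHom ψ = G.t.appTop := by
    ext b
    exact (hψ 1 b).trans (by rw [map_one, one_mul])
  let f := Spec.map (CommRingCat.ofHom ψ)
  haveI : IsFinite f := by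
    haveI : IsFinite (f ≫ Spec.map iR) := by
      rw [← Spec.map_comp, hR, IsFinite.SpecMap_iff]
      exact G.t.finite_appTop
    exact IsFinite.of_comp f (Spec.map iR)
  haveI : Mono f := by
    refine ⟨fun {T} α β h => ?_⟩
    rw [← cancel_mono G.R.isoSpec.inv, ← cancel_mono G.j]
    have hs := congrArg (· ≫ Spec.map iL) h
    have ht := congrArg (· ≫ Spec.map iR) h
    simp only [f, Category.assoc, ← Spec.map_comp, hL, hR] at hs ht
    apply pullback.hom_ext <;>
      simp only [Grpd.GroupoidScheme.j, Category.assoc, pullback.lift_fst, pullback.lift_snd] <;>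
      rw [← cancel_mono G.U.isoSpec.hom] <;>
      simpa [Scheme.isoSpec_hom, Scheme.toSpecΓ_naturality] using ‹_›
  haveI : IsClosedImmersion f := (IsClosedImmersion.iff_isFinite_and_mono f).2 ⟨inferInstance, inferInstance⟩
  obtain ⟨w, rfl⟩ : ∃ w, ψ w = z := by
    let ea := Scheme.ΓSpecIso (CommRingCat.of (A ⊗[ℤ] A))
    let eb := Scheme.ΓSpecIso Γ(G.R, ⊤)
    obtain ⟨w, hw⟩ := (IsClosedImmersion.isAffine_surjective_of_isAffine (f := f)).2 (eb.inv.hom z)
    refine ⟨ea.hom.hom w, ?_⟩
    have := congrArg (fun k : Γ(Spec (CommRingCat.of (A ⊗[ℤ] A)), ⊤) ⟶ Γ(G.R, ⊤) => k.hom w)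
      (Scheme.ΓSpecIso_naturality (CommRingCat.ofHom ψ))
    simp only [CommRingCat.hom_comp, RingHom.comp_apply, CommRingCat.hom_ofHom] at this
    refine this.symm.trans ?_
    rw [hw]
    exact congrArg (fun k : Γ(G.R, ⊤) ⟶ Γ(G.R, ⊤) => k.hom z) eb.inv_hom_id
  obtain ⟨T, hT⟩ := TensorProduct.exists_finset w
  refine ⟨T.card, fun i => (T.equivFin.symm i).1.1, fun i => (T.equivFin.symm i).1.2, ?_⟩
  rw [hT, map_sum, ← Finset.sum_coe_sort T, ← T.equivFin.symm.sum_comp]
  exact Finset.sum_congr rfl fun i _ => hψ _ _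

section Eqv

variable [IsAffine G.U] [IsAffine G.R] [IsFinite G.s] [Flat G.s] [LocallyOfFinitePresentation G.s]
  [IsFinite G.t] [Mono G.j]

/-- An equivalence relation as data over its invariants. -/
noncomputable def toEqvData : EqvData G.invariants Γ(G.U, ⊤) Γ(G.R, ⊤) Γ(pullback G.s G.t, ⊤) where
  __ := toData G
  inj := Subtype.val_injective
  mem_range x := ⟨fun h => ⟨⟨x, h⟩, rfl⟩, fun ⟨a, ha⟩ => ha ▸ a.2⟩
  span := span_of_mono G

/-- The structure morphism to the quotient is finite locally free and the relation is its kernel pair. -/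
theorem toQuot_finite_flat :
    (IsFinite G.toQuot ∧ Flat G.toQuot ∧ LocallyOfFinitePresentation G.toQuot) ∧
      IsPullback G.t G.s G.toQuot G.toQuot := by
  let E := toEqvData G
  let _ : Algebra G.invariants Γ(G.R, ⊤) := (G.s.appTop.hom.comp G.invariants.subtype).toAlgebra
  let σA : Γ(G.U, ⊤) →ₐ[G.invariants] Γ(G.R, ⊤) := { G.s.appTop.hom with commutes' := fun a => rfl }
  let τA : Γ(G.U, ⊤) →ₐ[G.invariants] Γ(G.R, ⊤) := { G.t.appTop.hom with commutes' := fun a => a.2.symm }
  let Φ := Algebra.TensorProduct.lift σA τA (fun _ _ => Commute.all _ _)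
  obtain ⟨hflat, hfin, hfp, hbij⟩ := E.finite_flat_bijective (fun a => rfl) Φ
    (fun x y => Algebra.TensorProduct.lift_tmul _ _ _ x y)
  let incl := CommRingCat.ofHom G.invariants.subtype
  have h1 : IsFinite (Spec.map incl) := (IsFinite.SpecMap_iff _).2 (RingHom.finite_algebraMap.2 hfin)
  have h2 : Flat (Spec.map incl) :=
    (HasRingHomProperty.Spec_iff (P := @Flat)).2 (RingHom.flat_algebraMap_iff.2 hflat)
  have h3 : LocallyOfFinitePresentation (Spec.map incl) :=
    (HasRingHomProperty.Spec_iff (P := @LocallyOfFinitePresentation)).2 (RingHom.finitePresentation_algebraMap.2 hfp)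
  refine ⟨⟨?_, ?_, ?_⟩, ?_⟩
  · exact inferInstanceAs (IsFinite (G.U.toSpecΓ ≫ Spec.map incl))
  · exact inferInstanceAs (Flat (G.U.toSpecΓ ≫ Spec.map incl))
  · exact inferInstanceAs (LocallyOfFinitePresentation (G.U.toSpecΓ ≫ Spec.map incl))
  · let e := (RingEquiv.ofBijective Φ.toRingHom hbij).toCommRingCatIso
    have hpo : IsPushout incl incl G.s.appTop G.t.appTop := by
      refine (CommRingCat.isPushout_tensorProduct G.invariants Γ(G.U, ⊤) Γ(G.U, ⊤)).of_iso
        (Iso.refl _) (Iso.refl _) (Iso.refl _) e ?_ ?_ ?_ ?_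
      · rfl
      · rfl
      · ext a
        change Φ (a ⊗ₜ 1) = G.s.appTop.hom a
        rw [Algebra.TensorProduct.lift_tmul, map_one, mul_one]; rfl
      · ext b
        change Φ (1 ⊗ₜ b) = G.t.appTop.hom b
        rw [Algebra.TensorProduct.lift_tmul, map_one, one_mul]; rfl
    refine ((isPullback_SpecMap_of_isPushout _ _ _ _ hpo).flip).of_iso G.R.isoSpec.symm G.U.isoSpec.symm
      G.U.isoSpec.symm (Iso.refl _) ?_ ?_ ?_ ?_
    · simp [Iso.eq_inv_comp, Scheme.isoSpec_hom, ← Scheme.toSpecΓ_naturality_assoc]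
    · simp [Iso.eq_inv_comp, Scheme.isoSpec_hom, ← Scheme.toSpecΓ_naturality_assoc]
    · simp [Grpd.GroupoidScheme.toQuot, Iso.eq_inv_comp, Scheme.isoSpec_hom, incl]
    · simp [Grpd.GroupoidScheme.toQuot, Iso.eq_inv_comp, Scheme.isoSpec_hom, incl]

end Eqv

end Groth.Agent.FinGrpdLib
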